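import Cfsg.Agent.H286.Quad

/-!
# The diagrams `A₃`, `D₄` and the end of a chain

* `chain3` : an end chain `i0 - i1 - i2` fixed by `σ`: `Obs` or `i0, i2 ∈ J`;
* `row_A3` : `Obs`, or `J = {i0, i2}`, or `σ` is the flip and `J = {i1}`;
* `row_D4` : `Obs`, or `J` consists of the three leaves.
-/

set_option autoImplicit false
set_option linter.unusedSectionVars false

namespace Cfsg.Agent.H286.RowsA

open CoxeterSystem Cfsg.Agent.ChevalleyStructure.CoxeterGeom Cfsg.Agent.Tits.Roots Cfsg.Agent.Tits.Core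
  Cfsg.Agent.Tits.RootComb Cfsg.Agent.Tits.Exchange Cfsg.Agent.Nodes.Comb Cfsg.Agent.Nodes.Reps
  Cfsg.Agent.Nodes.BNOf Cfsg.Agent.Nodes.RGDLib Cfsg.Agent.Nodes.Bruhat Cfsg.Agent.Nodes.StabComb
  Cfsg.Agent.Nodes.OppDec Cfsg.Agent.Nodes.Coroot Cfsg.Agent.KFacts.RgdSL Cfsg.Agent.UGT.U2.FOne
  Cfsg.Agent.H286.Obs Cfsg.Agent.H286.RootObs Cfsg.Agent.H286.Comb Cfsg.Agent.H286.Chain Cfsg.Agent.H286.Quad

variable {I W K : Type*} [Fintype I] [DecidableEq I] [Group W] [Group K] {M : CoxeterMatrix I}
  {cs : CoxeterSystem M W} {A : I → I → ℤ} {h : IsCartan M A} {p : ℕ} {T : Subgroup K} {n : I → K}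
  {X : (I → ℤ) → Subgroup K}

variable [hp : Fact p.Prime] [Finite W] [Finite K] {x d : MulAut K} {φ : W ≃* W} {σ : I → I} {J : Set I} {g : K}

theorem ne_of_A (h : IsCartan M A) {i j : I} (hij : A i j = -1 ∨ A i j = 0) : i ≠ j := by
  rintro rfl
  have := h.diag i
  omega

theorem chain3 (hp2 : Odd p) (N : NF cs h p T n X x d φ σ J g) {i0 i1 i2 : I}
    (a01 : A i0 i1 = -1) (a10 : A i1 i0 = -1) (a12 : A i1 i2 = -1) (a21 : A i2 i1 = -1)
    (h0 : ∀ k, k ≠ i0 → k ≠ i1 → A k i0 = 0)
    (h1 : ∀ k, k ≠ i0 → k ≠ i1 → k ≠ i2 → A k i1 = 0) (hσ0 : σ i0 = i0) (hσ1 : σ i1 = i1) :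
    Obs p x ∨ (i0 ∈ J ∧ i1 ∉ J ∧ i2 ∈ J) := by
  have H := N.nx
  have n01 := ne_of_A h (Or.inl a01)
  by_cases m0 : i0 ∈ J
  · have m1 : i1 ∉ J := not_both H n01 (by omega) m0
    by_cases m2 : i2 ∈ J
    · exact Or.inr ⟨m0, m1, m2⟩
    · exact (false_one N m1 hσ1 m0 a01 a10 fun k hk hk0 => by
        by_cases hk2 : k = i2
        · exact absurd (hk2 ▸ hk) m2
        · exact h1 k hk0 (fun e => m1 (e ▸ hk)) hk2).elim
  · by_cases m1 : i1 ∈ J
    · exact (false_one N m0 hσ0 m1 a10 a01 fun k hk hk1 => h0 k (fun e => m0 (e ▸ hk)) hk1).elim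
    · by_cases m2 : i2 ∈ J
      · exact (false_one N m1 hσ1 m2 a21 a12 fun k hk hk2 =>
          h1 k (fun e => m0 (e ▸ hk)) (fun e => m1 (e ▸ hk)) hk2).elim
      · exact Or.inl (obs_two hp2 N m0 m1 hσ0 hσ1 a10 a01
          (fun k hk => h0 k (fun e => m0 (e ▸ hk)) (fun e => m1 (e ▸ hk)))
          (fun k hk => h1 k (fun e => m0 (e ▸ hk)) (fun e => m1 (e ▸ hk)) (fun e => m2 (e ▸ hk))))

/-- from `A₂ c d` : the pair `(c + d, -c)` etc. -/
theorem A2.sum_neg {c d : I → ℤ} (hA : A2 cs h c d) : A2 cs h d (-(c + d)) := by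
  have h1 := Quad.A2.neg (a2_rot hA.symm).symm
  rwa [neg_neg, add_comm d c] at h1

/-- **The diagram `A₃`.** -/
theorem row_A3 (hp2 : Odd p) (N : NF cs h p T n X x d φ σ J g) {i0 i1 i2 : I}
    (hI : ∀ k, k = i0 ∨ k = i1 ∨ k = i2) (a01 : A i0 i1 = -1) (a10 : A i1 i0 = -1) (a12 : A i1 i2 = -1)
    (a21 : A i2 i1 = -1) (a02 : A i0 i2 = 0) :
    Obs p x ∨ ((∀ i, σ i = i) ∧ J = {i0, i2}) ∨ (σ i0 = i2 ∧ σ i1 = i1 ∧ J = {i1}) := by
  have H := N.nx
  have R := N.rgd
  have a20 := A_zero_symm h a02
  have n01 := ne_of_A h (Or.inl a01)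
  have n12 := ne_of_A h (Or.inl a12)
  have n02 := ne_of_A h (Or.inr a02)
  have hσ1 : σ i1 = i1 := by
    have e0 : A (σ i0) (σ i1) ≠ 0 := sigma_ne_zero H n01 (by omega)
    have e2 : A (σ i2) (σ i1) ≠ 0 := sigma_ne_zero H n12.symm (by omega)
    have f0 : σ i0 ≠ σ i1 := fun e => n01 (sigma_inj H e)
    have f2 : σ i2 ≠ σ i1 := fun e => n12 (sigma_inj H e).symm
    have f02 : σ i0 ≠ σ i2 := fun e => n02 (sigma_inj H e)
    rcases hI (σ i1) with e | e | e
    · rw [e] at e0 e2 f0 f2
      rcases hI (σ i0) with k0 | k0 | k0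
      · exact absurd k0 f0
      · rcases hI (σ i2) with k2 | k2 | k2
        · exact absurd k2 f2
        · exact absurd (k0.trans k2.symm) f02
        · rw [k2] at e2; exact absurd a20 e2
      · rw [k0] at e0; exact absurd a20 e0
    · exact e
    · rw [e] at e0 e2 f0 f2
      rcases hI (σ i0) with k0 | k0 | k0
      · rw [k0] at e0; exact absurd a02 e0
      · rcases hI (σ i2) with k2 | k2 | k2
        · rw [k2] at e2; exact absurd a02 e2
        · exact absurd (k0.trans k2.symm) f02
        · exact absurd k2 f2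
      · exact absurd k0 f0
  have h0 : ∀ k, k ≠ i0 → k ≠ i1 → A k i0 = 0 := by
    intro k k0 k1
    rcases hI k with rfl | rfl | rfl
    · exact absurd rfl k0
    · exact absurd rfl k1
    · exact a20
  have h1 : ∀ k, k ≠ i0 → k ≠ i1 → k ≠ i2 → A k i1 = 0 := by
    intro k k0 k1 k2
    rcases hI k with rfl | rfl | rfl
    · exact absurd rfl k0
    · exact absurd rfl k1
    · exact absurd rfl k2
  by_cases hσ0 : σ i0 = i0
  · have hσ2 : σ i2 = i2 := by
      rcases hI (σ i2) with e | e | e
      · rw [← hσ0] at e; exact absurd (sigma_inj H e).symm n02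
      · rw [← hσ1] at e; exact absurd (sigma_inj H e).symm n12
      · exact e
    rcases chain3 hp2 N a01 a10 a12 a21 h0 h1 hσ0 hσ1 with h | ⟨m0, m1, m2⟩
    · exact Or.inl h
    · refine Or.inr (Or.inl ⟨?_, ?_⟩)
      · intro i
        rcases hI i with rfl | rfl | rfl <;> assumption
      · ext k
        constructor
        · intro hk
          rcases hI k with rfl | rfl | rfl
          · exact Or.inl rfl
          · exact absurd hk m1
          · exact Or.inr rfl
        · rintro (rfl | rfl) <;> assumption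
  · have hσ0' : σ i0 = i2 := by
      rcases hI (σ i0) with e | e | e
      · exact absurd e hσ0
      · rw [← hσ1] at e; exact absurd (sigma_inj H e) n01
      · exact e
    have hσ2 : σ i2 = i0 := by rw [← hσ0', H.σσ]
    have m0 : i0 ∉ J := not_mem_of_sigma H hσ0
    have m2 : i2 ∉ J := not_mem_of_sigma H (by rw [hσ2]; exact n02)
    by_cases m1 : i1 ∈ J
    · refine Or.inr (Or.inr ⟨hσ0', hσ1, ?_⟩)
      ext k
      constructor
      · intro hk
        rcases hI k with rfl | rfl | rfl
        · exact absurd hk m0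
        · rfl
        · exact absurd hk m2
      · rintro rfl; exact m1
    · left
      have hJ : ∀ k, k ∉ J := by
        intro k
        rcases hI k with rfl | rfl | rfl <;> assumption
      have fix : ∀ i, rep cs h (wJ cs J) (sr i) = sr i := fun i => wJ_sr_fix H (hJ i) fun k hk => absurd hk (hJ k)
      have r0 := isRoot_sr cs h i0
      have r1 := isRoot_sr cs h i1
      have r2 := isRoot_sr cs h i2
      have A01 := a2_simple cs h n01 a01 a10
      have A12 := a2_simple cs h n12 a12 a21
      have xc : (X (sr i0)).map x.toMonoidHom = X (sr i2) := by rw [map_sr H, hσ0', fix]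
      have xd : (X (sr i2 + sr i1)).map x.toMonoidHom = X (sr i0 + sr i1) := by
        rw [map_sr_add H a12 (by rw [hσ1, hσ2]; exact a10), hσ2, hσ1, map_add, fix, fix]
      have e0 : ∀ i j, rep cs h (cs.simple i) (sr j) = sr j - A i j • sr i := rs
      refine obs_quad hp2 R N.xx (c := sr i0) (c' := sr i2) (d := sr i2 + sr i1) (d' := sr i0 + sr i1)
        ?_ ?_ ?_ ?_ (by abel) ?_ ?_ xc (x_neg H r0 r2 xc) xd (x_neg H ?_ ?_ xd)
      · have := A2.act A01 (cs.simple i2)
        rw [e0, e0, a20, a21, zero_smul, sub_zero, neg_one_smul, sub_neg_eq_add, add_comm (sr i1)] at this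
        exact this
      · have := A2.act A12.symm (cs.simple i0)
        rw [e0, e0, a02, a01, zero_smul, sub_zero, neg_one_smul, sub_neg_eq_add, add_comm (sr i1)] at this
        exact this
      · have := A2.sum_neg A01.symm
        rwa [add_comm] at this
      · exact add_comm (sr i1) (sr i2) ▸ A2.sum_neg A12
      · exact fun a ha b hb => comm_nodes R n02 a02 ha hb
      · have := comm_act R r2 r0 (fun a ha b hb => comm_nodes R n02.symm a20 ha hb) (cs.simple i1)
        rw [e0, e0, a12, a10, neg_one_smul, sub_neg_eq_add, sub_neg_eq_add] at this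
        exact this
      · have := A12.rxy
        rwa [add_comm] at this
      · exact A01.rxy

/-- **The diagram `D₄`.** -/
theorem row_D4 (hp2 : Odd p) (N : NF cs h p T n X x d φ σ J g) {o a b c : I}
    (hI : ∀ k, k = o ∨ k = a ∨ k = b ∨ k = c) (aoa : A o a = -1) (aao : A a o = -1) (aob : A o b = -1)
    (abo : A b o = -1) (aoc : A o c = -1) (aco : A c o = -1) (hab : A a b = 0) (hac : A a c = 0) (hbc : A b c = 0) :
    Obs p x ∨ ((∀ i, σ i = i) ∧ J = {a, b, c}) := by
  have H := N.nx
  have R := N.rgd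
  have hba := A_zero_symm h hab
  have hca := A_zero_symm h hac
  have hcb := A_zero_symm h hbc
  have noa := ne_of_A h (Or.inl aoa)
  have nob := ne_of_A h (Or.inl aob)
  have noc := ne_of_A h (Or.inl aoc)
  have nab := ne_of_A h (Or.inr hab)
  have nac := ne_of_A h (Or.inr hac)
  have nbc := ne_of_A h (Or.inr hbc)
  have inj := sigma_inj H
  have Ao : ∀ l, l ≠ o → A l o = -1 ∧ A o l = -1 := by
    intro l hl
    rcases hI l with rfl | rfl | rfl | rfl
    · exact absurd rfl hl
    · exact ⟨aao, aoa⟩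
    · exact ⟨abo, aob⟩
    · exact ⟨aco, aoc⟩
  have All : ∀ l k, l ≠ o → k ≠ o → k ≠ l → A k l = 0 := by
    intro l k hl hk hkl
    rcases hI l with rfl | rfl | rfl | rfl
    · exact absurd rfl hl
    all_goals
      rcases hI k with rfl | rfl | rfl | rfl
      all_goals first | exact absurd rfl hk | exact absurd rfl hkl | assumption
  -- a leaf has only one neighbour
  have leaf : ∀ l, l ≠ o → ∀ k k', k ≠ l → k' ≠ l → A k l ≠ 0 → A k' l ≠ 0 → k = k' := by
    intro l hl k k' hk hk' h1 h2
    have e : ∀ k, k ≠ l → A k l ≠ 0 → k = o := by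
      intro k hk h1
      by_contra hko
      exact h1 (All l k hl hko hk)
    rw [e k hk h1, e k' hk' h2]
  have hσo : σ o = o := by
    by_contra hcon
    have e1 : A (σ a) (σ o) ≠ 0 := sigma_ne_zero H noa.symm (by omega)
    have e2 : A (σ b) (σ o) ≠ 0 := sigma_ne_zero H nob.symm (by omega)
    exact nab (inj (leaf (σ o) hcon (σ a) (σ b) (fun e => noa (inj e).symm) (fun e => nob (inj e).symm) e1 e2))
  have σleaf : ∀ l, l ≠ o → σ l ≠ o := fun l hl e => hl (by rw [← hσo] at e; exact inj e)
  -- a fixed leaf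
  have hfix : ∃ l, l ≠ o ∧ σ l = l := by
    by_contra hcon
    push Not at hcon
    have ha := hcon a noa.symm
    have hb := hcon b nob.symm
    have hc := hcon c noc.symm
    have ha' := σleaf a noa.symm
    have hb' := σleaf b nob.symm
    have hc' := σleaf c noc.symm
    rcases hI (σ a) with e | e | e | e
    · exact ha' e
    · exact ha e
    · have e2 : σ b = a := by rw [← e, H.σσ]
      rcases hI (σ c) with f | f | f | f
      · exact hc' f
      · rw [← e2] at f; exact nbc (inj f).symm
      · rw [← e] at f; exact nac (inj f).symm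
      · exact hc f
    · have e2 : σ c = a := by rw [← e, H.σσ]
      rcases hI (σ b) with f | f | f | f
      · exact hb' f
      · rw [← e2] at f; exact nbc (inj f)
      · exact hb f
      · rw [← e] at f; exact nab (inj f).symm
  have mo : o ∉ J := by
    intro mo
    obtain ⟨l, hl, hσl⟩ := hfix
    have ml : l ∉ J := not_both H hl.symm (by rw [(Ao l hl).2]; norm_num) mo
    refine false_one N ml hσl mo (Ao l hl).2 (Ao l hl).1 fun k hk hko => ?_
    exact absurd hk (not_both H hko.symm (by rw [(Ao k hko).2]; norm_num) mo)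
  -- exactly one leaf in `J`
  have one : ∀ l, l ≠ o → l ∈ J → (∀ k ∈ J, k = l) → False := by
    intro l hl ml hk
    exact false_one N mo hσo ml (Ao l hl).1 (Ao l hl).2 fun k hkJ hkl => absurd (hk k hkJ) hkl
  -- two leaves
  have two : ∀ a b c : I, a ≠ o → b ≠ o → c ≠ o → a ≠ b → a ≠ c → b ≠ c → (∀ k, k = o ∨ k = a ∨ k = b ∨ k = c) →
      a ∈ J → b ∈ J → c ∉ J → Obs p x := by
    intro a b c hao hbo hco nab nac nbc hI ma mb mc
    have hσa := H.Jσ a ma
    have hσb := H.Jσ b mb
    have hσc : σ c = c := by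
      rcases hI (σ c) with e | e | e | e
      · exact absurd e (σleaf c hco)
      · rw [← hσa] at e; exact absurd (inj e).symm nac
      · rw [← hσb] at e; exact absurd (inj e).symm nbc
      · exact e
    have ro := isRoot_sr cs h o
    have ra := isRoot_sr cs h a
    have rb := isRoot_sr cs h b
    have rc := isRoot_sr cs h c
    have Aoa := a2_simple cs h hao.symm (Ao a hao).2 (Ao a hao).1
    have Aob := a2_simple cs h hbo.symm (Ao b hbo).2 (Ao b hbo).1
    have Aoc := a2_simple cs h hco.symm (Ao c hco).2 (Ao c hco).1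
    have e0 : ∀ i j, rep cs h (cs.simple i) (sr j) = sr j - A i j • sr i := rs
    have eo : rep cs h (wJ cs J) (sr o) = sr a + sr o + sr b := by
      refine wJ_sr_two H mo ma mb nab (Ao a hao).1 (Ao b hbo).1 fun k hk hka hkb => ?_
      rcases hI k with rfl | rfl | rfl | rfl
      · exact absurd hk mo
      · exact absurd rfl hka
      · exact absurd rfl hkb
      · exact absurd hk mc
    have ec : rep cs h (wJ cs J) (sr c) = sr c := wJ_sr_fix H mc fun k hk =>
      All c k hco (fun e => mo (e ▸ hk)) (fun e => mc (e ▸ hk))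
    have xc : (X (sr o)).map x.toMonoidHom = X (sr a + sr o + sr b) := by rw [map_sr H, hσo, eo]
    have xd' : (X (sr o + sr c)).map x.toMonoidHom = X (sr a + sr o + sr b + sr c) := by
      rw [map_sr_add H (Ao c hco).1 (by rw [hσo, hσc]; exact (Ao c hco).1), hσo, hσc, map_add, eo, ec]
    have oa := Ao a hao
    have ob := Ao b hbo
    have oc := Ao c hco
    have zab := All b a hbo hao nab
    have zba := All a b hao hbo nab.symm
    have zac := All c a hco hao nac
    have zca := All a c hao hco nac.symm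
    have zbc := All c b hco hbo nbc
    have zcb := All b c hbo hco nbc.symm
    -- `(αo, D)`
    have h1 : A2 cs h (sr o) (sr a + sr o + sr b + sr c) := by
      have := (A2.act (Aoa) (cs.simple a * cs.simple o * cs.simple b * cs.simple c)).symm
      simp only [rep_mul_apply, e0, map_sub, map_smul, oa.1, oa.2, ob.1, ob.2, oc.1, oc.2, zab, zba, zac, zca, zbc, zcb,
        h.diag] at this
      convert this using 1 <;> module
    have h2 : A2 cs h (sr a + sr o + sr b) (sr o + sr c) := by
      have := (A2.act (Aoc) (cs.simple o * cs.simple b * cs.simple a))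
      simp only [rep_mul_apply, e0, map_sub, map_smul, oa.1, oa.2, ob.1, ob.2, oc.1, oc.2, zab, zba, zac, zca, zbc, zcb,
        h.diag] at this
      convert this using 1 <;> module
    have h3 : A2 cs h (sr o) (-(sr o + sr c)) := by
      have := A2.sum_neg Aoc.symm
      rwa [add_comm] at this
    have h4' : A2 cs h (sr a + sr o + sr b) (sr c) := by
      have := (A2.act (Aoc) (cs.simple b * cs.simple a))
      simp only [rep_mul_apply, e0, map_sub, map_smul, oa.1, oa.2, ob.1, ob.2, oc.1, oc.2, zab, zba, zac, zca, zbc, zcb,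
        h.diag] at this
      convert this using 1 <;> module
    have h4 : A2 cs h (sr a + sr o + sr b) (-(sr a + sr o + sr b + sr c)) := by
      have := A2.sum_neg h4'.symm
      rwa [add_comm (sr c)] at this
    have hcc : ∀ e, e ∈ X (sr o) ∨ e ∈ X (-sr o) → ∀ f, f ∈ X (sr a + sr o + sr b) ∨
        f ∈ X (-(sr a + sr o + sr b)) → Commute e f := by
      have := comm_act R ra rb (fun e he f hf => comm_nodes R nab zab he hf) (cs.simple a * cs.simple o)
      simp only [rep_mul_apply, e0, map_sub, map_smul, oa.1, oa.2, ob.1, ob.2, zab, zba, h.diag] at this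
      have g1 : sr a - (2 : ℤ) • sr a - (-1 : ℤ) • (sr o - (-1 : ℤ) • sr a) = (sr o : I → ℤ) := by module
      have g2 : sr b - (0 : ℤ) • sr a - (-1 : ℤ) • (sr o - (-1 : ℤ) • sr a) = (sr a + sr o + sr b : I → ℤ) := by module
      rw [g1, g2] at this
      exact this
    have hdd : ∀ e, e ∈ X (sr a + sr o + sr b + sr c) ∨ e ∈ X (-(sr a + sr o + sr b + sr c)) → ∀ f,
        f ∈ X (sr o + sr c) ∨ f ∈ X (-(sr o + sr c)) → Commute e f := by
      have := comm_act R ro h2.rx hcc (cs.simple c)
      simp only [map_add, e0, oa.1, oa.2, ob.1, ob.2, oc.1, zca, zcb] at this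
      have g1 : sr o - (-1 : ℤ) • sr c = (sr o + sr c : I → ℤ) := by module
      have g2 : sr a - (0 : ℤ) • sr c + (sr o + sr c) + (sr b - (0 : ℤ) • sr c) =
        (sr a + sr o + sr b + sr c : I → ℤ) := by module
      rw [g1, g2] at this
      exact fun e he f hf => (this f hf e he).symm
    exact obs_quad hp2 R N.xx h1 h2 h3 h4 (by abel) hcc hdd xc (x_neg H ro h2.rx xc) (map_back H xd')
      (x_neg H h1.ry h2.ry (map_back H xd'))
  have hJ : ∀ k ∈ J, k = a ∨ k = b ∨ k = c := by
    intro k hk
    rcases hI k with rfl | rfl | rfl | rfl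
    · exact absurd hk mo
    all_goals simp
  by_cases ma : a ∈ J <;> by_cases mb : b ∈ J <;> by_cases mc : c ∈ J
  · right
    constructor
    · intro i
      rcases hI i with rfl | rfl | rfl | rfl
      · exact hσo
      · exact H.Jσ _ ma
      · exact H.Jσ _ mb
      · exact H.Jσ _ mc
    · ext k
      constructor
      · exact fun hk => hJ k hk
      · rintro (rfl | rfl | rfl) <;> assumption
  · exact Or.inl (two a b c noa.symm nob.symm noc.symm nab nac nbc hI ma mb mc)
  · refine Or.inl (two a c b noa.symm noc.symm nob.symm nac nab nbc.symm (fun k => ?_) ma mc mb)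
    rcases hI k with h | h | h | h <;> simp [h]
  · refine (one a noa.symm ma fun k hk => ?_).elim
    rcases hJ k hk with rfl | rfl | rfl
    · rfl
    · exact absurd hk mb
    · exact absurd hk mc
  · refine Or.inl (two b c a nob.symm noc.symm noa.symm nbc nab.symm nac.symm (fun k => ?_) mb mc ma)
    rcases hI k with h | h | h | h <;> simp [h]
  · refine (one b nob.symm mb fun k hk => ?_).elim
    rcases hJ k hk with rfl | rfl | rfl
    · exact absurd hk ma
    · rfl
    · exact absurd hk mc
  · refine (one c noc.symm mc fun k hk => ?_).elim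
    rcases hJ k hk with rfl | rfl | rfl
    · exact absurd hk ma
    · exact absurd hk mb
    · rfl
  · left
    obtain ⟨l, hl, hσl⟩ := hfix
    have hJ' : ∀ k, k ∉ J := fun k hk => by
      rcases hJ k hk with rfl | rfl | rfl
      · exact ma hk
      · exact mb hk
      · exact mc hk
    exact obs_two hp2 N mo (hJ' l) hσo hσl (Ao l hl).1 (Ao l hl).2 (fun k hk => absurd hk (hJ' k))
      fun k hk => absurd hk (hJ' k)

end Cfsg.Agent.H286.RowsA
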