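import Cfsg.Agent.H286.SqObs
import Cfsg.Agent.Nodes.KindBC
import Cfsg.Agent.Nodes.ClsWitt

/-!
# `Obs` for the groups of type I: classical root groups = the long roots of a diagram `B_n`

`PSp_2n(q)`, `n ≥ 3`, `PSU_n(q)`, `n ≥ 5`.

* `sigma_id` : the diagram `B_n`, `n ≥ 3`, has no automorphism;
* `map_root` : `x` maps `X b` to `X (w_J b)`;
* `obs_swapZ` : `x` interchanges two orthogonal classical root groups;
* `typeI`, `typeI_two` : the rows.
-/

set_option autoImplicit false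
set_option linter.unusedSectionVars false

namespace Cfsg.Agent.H286.TypeI

open CoxeterSystem Cfsg.Agent.ChevalleyStructure.CoxeterGeom Cfsg.Agent.Tits.Roots Cfsg.Agent.Tits.Core
  Cfsg.Agent.Tits.RootComb Cfsg.Agent.Tits.Exchange Cfsg.Agent.Nodes.Comb Cfsg.Agent.Nodes.Reps
  Cfsg.Agent.Nodes.BNOf Cfsg.Agent.Nodes.RGDLib Cfsg.Agent.Nodes.Bruhat Cfsg.Agent.Nodes.StabComb
  Cfsg.Agent.Nodes.OppDec Cfsg.Agent.Nodes.Coroot Cfsg.Agent.KFacts.RgdSL Cfsg.Agent.UGT.U2.FOne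
  Cfsg.Agent.H286.Obs Cfsg.Agent.H286.RootObs Cfsg.Agent.H286.Comb Cfsg.Agent.H286.Chain
  Cfsg.Agent.Nodes.Chart Cfsg.Agent.Nodes.Perp Cfsg.Agent.Nodes.ShortSum Cfsg.Agent.H286.SqObs
open Cfsg.Agent.Nodes
open scoped commutatorElement

section Gen

variable {I W K : Type*} [Fintype I] [DecidableEq I] [Group W] [Fintype W] [Group K] {M : CoxeterMatrix I}
  {cs : CoxeterSystem M W} {A : I → I → ℤ} {h : IsCartan M A} {p : ℕ} {T : Subgroup K} {n : I → K}
  {X : (I → ℤ) → Subgroup K}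

section NX

variable {x : MulAut K} {φ : W ≃* W} {σ : I → I} {J : Set I} (H : NX cs h p T n X x φ σ J)

include H

theorem phi_id (hσ : ∀ i, σ i = i) (w : W) : φ w = w := by
  induction w using cs.simple_induction_left with
  | one => exact map_one φ
  | mul_simple_left w i ih => rw [map_mul, H.φ_simple, hσ, ih]

/-- **`x` maps `X b` to `X (w_J b)`** -/
theorem map_root (hσ : ∀ i, σ i = i) {b : I → ℤ} (hb : IsRoot cs h b) :
    (X b).map x.toMonoidHom = X (rep cs h (wJ cs J) b) := by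
  obtain ⟨w, i, rfl⟩ := hb
  rw [H.xX, phi_id H hσ, hσ, rep_mul_apply]

theorem wJ_fix {b : I → ℤ} (hb : ∀ k ∈ J, pairing A k b = 0) : rep cs h (wJ cs J) b = b := by
  classical
  funext k
  rw [rep_wJ_apply cs h H.Jcomm]
  split_ifs with hk
  · rw [hb k hk, sub_zero]
  · rfl

theorem wJ_one {b : I → ℤ} {j : I} (hj : j ∈ J) (hb : ∀ k ∈ J, k ≠ j → pairing A k b = 0) :
    rep cs h (wJ cs J) b = rep cs h (cs.simple j) b := by
  classical
  funext k
  rw [rep_wJ_apply cs h H.Jcomm]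
  by_cases hkj : k = j
  · subst hkj
    rw [if_pos hj, rep_simple_apply_self]
  · rw [rep_simple_apply cs h j _ k hkj]
    split_ifs with hk
    · rw [hb k hk hkj, sub_zero]
    · rfl

end NX

variable {R : Set (I → ℤ)} {Z : (I → ℤ) → Subgroup K} {z : (I → ℤ) → K} (C : Cls cs h p T n X R Z z)

include C

theorem mem_Z_iff (hZ : ∀ r ∈ R, ∀ v ∈ X r, (∀ u ∈ X r, u * v = v * u) → v ∈ Z r) {r : I → ℤ} (hr : r ∈ R) {v : K} :
    v ∈ Z r ↔ v ∈ X r ∧ ∀ u ∈ X r, u * v = v * u :=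
  ⟨fun hv => ⟨C.le r hr hv, fun u hu => C.cent r hr r (C.root r hr) (form_pos cs h (C.root r hr).ne_zero).le u hu v hv⟩,
    fun hv => hZ r hr v hv.1 hv.2⟩

/-- `x` maps centres to centres -/
theorem map_Z (hZ : ∀ r ∈ R, ∀ v ∈ X r, (∀ u ∈ X r, u * v = v * u) → v ∈ Z r) {x : MulAut K} {r r' : I → ℤ}
    (hr : r ∈ R) (hr' : r' ∈ R) (hx : (X r).map x.toMonoidHom = X r') : (Z r).map x.toMonoidHom = Z r' := by
  ext g
  constructor
  · rintro ⟨v, hv, rfl⟩
    rw [SetLike.mem_coe, mem_Z_iff C hZ hr] at hv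
    rw [mem_Z_iff C hZ hr']
    refine ⟨by rw [← hx]; exact Subgroup.mem_map_of_mem x.toMonoidHom hv.1, fun u hu => ?_⟩
    rw [← hx] at hu
    obtain ⟨u, hu, rfl⟩ := hu
    rw [← map_mul, hv.2 u hu, map_mul]
  · intro hg
    rw [mem_Z_iff C hZ hr'] at hg
    obtain ⟨hg, hg'⟩ := hg
    have hg2 := hg
    rw [← hx] at hg2
    obtain ⟨v, hv, rfl⟩ := hg2
    refine ⟨v, ?_, rfl⟩
    rw [SetLike.mem_coe, mem_Z_iff C hZ hr]
    refine ⟨hv, fun u hu => ?_⟩
    have h1 := hg' (x u) (by rw [← hx]; exact Subgroup.mem_map_of_mem x.toMonoidHom hu)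
    apply x.injective
    rw [map_mul, map_mul]
    exact h1

/-- an element separating two orthogonal classical roots -/
def Sep (Z : (I → ℤ) → Subgroup K) (z : (I → ℤ) → K) (r s : I → ℤ) : Prop :=
  ∃ v : K, (∀ k ∈ KK Z s, v * k = k * v) ∧ z r * v ≠ v * z r

theorem z_ne_of_sep {r s : I → ℤ} (hs : s ∈ R) (hS : Sep Z z r s) : z r ≠ z s := by
  obtain ⟨v, h1, h2⟩ := hS
  intro e
  apply h2
  rw [e]
  exact (h1 _ (C.z_mem s hs)).symm

theorem sep_of_root (hp : p.Prime) (hodd : p ≠ 2) {r s y : I → ℤ} (hr : r ∈ R) (hs : s ∈ R) (hy : IsRoot cs h y)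
    (h0 : form cs h y s = 0) (h1 : form cs h y r ≠ 0) (n1 : y ≠ r) (n2 : y ≠ -r) : Sep Z z r s := by
  obtain ⟨v, hv, hv1⟩ : ∃ v ∈ X y, v ≠ 1 := by
    by_contra hcon
    push Not at hcon
    exact StdConn.X_ne_bot C hy ((Subgroup.eq_bot_iff_forall _).2 hcon)
  refine ⟨v, fun k hk => X_cm_KK C hs hy h0 v hv k hk, fun e => hv1 ?_⟩
  have h2 := C.z_inv r hr y hy n1 n2 h1 v hv
  rw [e, mul_assoc, C.z_sq r hr, mul_one] at h2
  exact ZRel.eq_one_of_inv C hp hodd hy hv h2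

theorem sep_of_self (hp : p.Prime) (hodd : p ≠ 2) {r s : I → ℤ} (hr : r ∈ R) (hs : s ∈ R)
    (h0 : form cs h r s = 0) {v : K} (hv : v ∈ X r) (hv1 : v ∉ Z r) : Sep Z z r s := by
  refine ⟨v, fun k hk => X_cm_KK C hs (C.root r hr) h0 v hv k hk, fun e => hv1 ?_⟩
  refine mem_Z_of_comm C hp hodd hr hv ?_
  rw [e, mul_assoc, C.z_sq r hr, mul_one]

/-- **`x` interchanges two orthogonal classical root groups.** -/
theorem obs_swapZ [Finite K] {x : MulAut K} (hxx : ∀ g, x (x g) = g) (hp : p.Prime) {c c' : I → ℤ} (hc : c ∈ R)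
    (hc' : c' ∈ R) (h0 : form cs h c c' = 0) (e1 : (Z c).map x.toMonoidHom = Z c')
    (e2 : (Z (-c)).map x.toMonoidHom = Z (-c')) (hS : Sep Z z c c') : Obs p x := by
  have : Fact p.Prime := ⟨hp⟩
  obtain ⟨v, hv, hv'⟩ := hS
  have hmem : ∀ s, s ∈ Z c ∨ s ∈ Z (-c) → x s ∈ KK Z c' := by
    rintro s (hs | hs)
    · have : x s ∈ Z c' := by rw [← e1]; exact Subgroup.mem_map_of_mem x.toMonoidHom hs
      exact (le_sup_left : Z c' ≤ KK Z c') this
    · have : x s ∈ Z (-c') := by rw [← e2]; exact Subgroup.mem_map_of_mem x.toMonoidHom hs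
      exact (le_sup_right : Z (-c') ≤ KK Z c') this
  have hcl : ∀ g ∈ KK Z c, x g ∈ KK Z c' := by
    intro g hg
    have h1 : (KK Z c).map x.toMonoidHom ≤ KK Z c' := by
      unfold KK
      rw [Subgroup.map_sup, e1, e2]
    exact h1 (Subgroup.mem_map_of_mem x.toMonoidHom hg)
  have hclo : KK Z c = Subgroup.closure {g | g ∈ Z c ∨ g ∈ Z (-c)} := by
    apply le_antisymm
    · exact sup_le (fun g hg => Subgroup.subset_closure (Or.inl hg)) (fun g hg => Subgroup.subset_closure (Or.inr hg))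
    · rw [Subgroup.closure_le]
      rintro g (hg | hg)
      · exact (le_sup_left : Z c ≤ KK Z c) hg
      · exact (le_sup_right : Z (-c) ≤ KK Z c) hg
  have hcm : ∀ s, s ∈ Z c ∨ s ∈ Z (-c) → ∀ k ∈ KK Z c', Commute s k := by
    rintro s (hs | hs) k hk
    · exact X_cm_KK C hc' (C.root c hc) h0 s (C.le c hc hs) k hk
    · exact X_cm_KK C hc' (C.root c hc).neg (by rw [form_neg_left, h0, neg_zero]) s (C.le _ (neg_mem C hc) hs) k hk
  have hzz := C.z_sq c hc
  have hzx : x (z c) ∈ KK Z c' := hcl _ (C.z_mem c hc)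
  have hzc : Commute (z c) (x (z c)) := by
    have h1 : z c ∈ Subgroup.closure {g | g ∈ Z c ∨ g ∈ Z (-c)} := by rw [← hclo]; exact C.z_mem c hc
    exact commute_closure (S := {g | g ∈ Z c ∨ g ∈ Z (-c)}) (T := {x (z c)})
      (fun s hs t ht => by rw [Set.mem_singleton_iff.1 ht]; exact hcm s hs _ hzx) h1
      (Subgroup.subset_closure (Set.mem_singleton _))
  refine obs_swap hxx (S := {g | g ∈ Z c ∨ g ∈ Z (-c)}) ?_ ?_ (z := z c) ?_ ?_ ?_
  · rintro s (hs | hs)
    · exact pe_of_mem C.rgd (C.root c hc) (C.le c hc hs)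
    · exact pe_of_mem C.rgd (C.root c hc).neg (C.le _ (neg_mem C hc) hs)
  · intro s hs s' hs'
    exact hcm s hs _ (hmem s' hs')
  · rw [← hclo]; exact C.z_mem c hc
  · rintro s (hs | hs)
    · exact (C.z_cent c hc s hs).symm
    · have := C.z_cent _ (neg_mem C hc) s hs
      rw [C.z_neg c hc] at this
      exact this.symm
  · have h1 : orderOf (z c * x (z c)) = 2 := by
      refine orderOf_eq_prime ?_ ?_
      · rw [pow_two]
        calc z c * x (z c) * (z c * x (z c)) = z c * (x (z c) * z c) * x (z c) := by group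
          _ = z c * (z c * x (z c)) * x (z c) := by rw [hzc.eq]
          _ = (z c * z c) * (x (z c) * x (z c)) := by group
          _ = 1 := by rw [← map_mul, hzz, map_one, mul_one]
      · intro h1
        apply hv'
        have h2 : x (z c) = z c := by
          have := eq_inv_of_mul_eq_one_right h1
          rw [this]
          exact inv_eq_of_mul_eq_one_right hzz
        rw [h2] at hzx
        exact (hv _ hzx).symm
    rw [h1]; exact even_two

end Gen

section B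

open Cfsg.Agent.Nodes.TypeC Cfsg.Agent.Nodes.TypeCForm Cfsg.Agent.Nodes.KindBC Cfsg.Agent.Nodes.ClsWitt

variable {n : ℕ} {W K : Type*} [Group W] [Fintype W] [Group K] {cs : CoxeterSystem (CoxeterMatrix.B n) W} {p : ℕ}
  {T : Subgroup K} {nn : Fin n → K} {X : (Fin n → ℤ) → Subgroup K}

theorem MB (i j : Fin n) : CoxeterMatrix.B n i j = if i = j then 1 else if (i : ℕ) = n - 1 ∧ (j : ℕ) = n - 2 ∨
    (j : ℕ) = n - 1 ∧ (i : ℕ) = n - 2 then 4 else (if (j : ℕ) + 1 = i ∨ (i : ℕ) + 1 = j then 3 else 2) := rfl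

theorem MB_four {i j : Fin n} (hn : 2 ≤ n) : CoxeterMatrix.B n i j = 4 ↔
    ((i : ℕ) = n - 1 ∧ (j : ℕ) = n - 2 ∨ (j : ℕ) = n - 1 ∧ (i : ℕ) = n - 2) := by
  rw [MB]
  by_cases hij : i = j
  · rw [if_pos hij, hij]
    constructor
    · intro h0; omega
    · intro h0; omega
  · rw [if_neg hij]
    split_ifs with h1 h2
    · exact ⟨fun _ => h1, fun _ => rfl⟩
    · exact ⟨fun h0 => absurd h0 (by norm_num), fun h0 => absurd h0 h1⟩
    · exact ⟨fun h0 => absurd h0 (by norm_num), fun h0 => absurd h0 h1⟩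

theorem MB_three {i j : Fin n} : CoxeterMatrix.B n i j = 3 ↔
    (¬ ((i : ℕ) = n - 1 ∧ (j : ℕ) = n - 2 ∨ (j : ℕ) = n - 1 ∧ (i : ℕ) = n - 2) ∧
      ((j : ℕ) + 1 = i ∨ (i : ℕ) + 1 = j)) := by
  rw [MB]
  by_cases hij : i = j
  · rw [if_pos hij, hij]
    constructor
    · intro h0; omega
    · intro h0; omega
  · rw [if_neg hij]
    split_ifs with h1 h2
    · exact ⟨fun h0 => absurd h0 (by norm_num), fun h0 => absurd h1 h0.1⟩
    · exact ⟨fun _ => ⟨h1, h2⟩, fun _ => rfl⟩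
    · exact ⟨fun h0 => absurd h0 (by norm_num), fun h0 => absurd h0.2 h2⟩

/-- **The diagram `B_n`, `n ≥ 3`, has no automorphism.** -/
theorem sigma_id (hn : 3 ≤ n) {σ : Fin n → Fin n} (hinj : Function.Injective σ)
    (hM : ∀ i j, CoxeterMatrix.B n (σ i) (σ j) = CoxeterMatrix.B n i j) : ∀ i, σ i = i := by
  obtain ⟨l, hl⟩ : ∃ l : Fin n, (l : ℕ) = n - 1 := ⟨⟨n - 1, by omega⟩, rfl⟩
  obtain ⟨l', hl'⟩ : ∃ l : Fin n, (l : ℕ) = n - 2 := ⟨⟨n - 2, by omega⟩, rfl⟩
  obtain ⟨l'', hl''⟩ : ∃ l : Fin n, (l : ℕ) = n - 3 := ⟨⟨n - 3, by omega⟩, rfl⟩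
  have h1 : (σ l : ℕ) = n - 1 ∧ (σ l' : ℕ) = n - 2 ∨ (σ l' : ℕ) = n - 1 ∧ (σ l : ℕ) = n - 2 := by
    rw [← MB_four (by omega), hM, MB_four (by omega)]
    exact Or.inl ⟨hl, hl'⟩
  have h2 : (σ l : ℕ) = n - 1 ∧ (σ l' : ℕ) = n - 2 := by
    rcases h1 with h1 | ⟨h1, h2⟩
    · exact h1
    · exfalso
      have e : CoxeterMatrix.B n (σ l') (σ l'') = 3 := by
        rw [hM, MB_three]
        omega
      rw [MB_three] at e
      have := (σ l'').2
      have h3 : (σ l'' : ℕ) ≠ σ l := fun e => by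
        have := hinj (Fin.ext e)
        rw [this] at hl''
        omega
      omega
  have key : ∀ d : ℕ, ∀ i : Fin n, (i : ℕ) + d + 1 = n → σ i = i := by
    intro d
    induction d using Nat.strong_induction_on with
    | _ d ih =>
      intro i hi
      rcases d with _ | _ | d
      · have : i = l := Fin.ext (by omega)
        rw [this]; exact Fin.ext (by omega)
      · have : i = l' := Fin.ext (by omega)
        rw [this]; exact Fin.ext (by omega)
      · obtain ⟨j, hj⟩ : ∃ j : Fin n, (j : ℕ) = i + 1 := ⟨⟨i + 1, by omega⟩, rfl⟩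
        obtain ⟨k, hk⟩ : ∃ k : Fin n, (k : ℕ) = i + 2 := ⟨⟨i + 2, by omega⟩, rfl⟩
        have e1 := ih (d + 1) (by omega) j (by omega)
        have e2 := ih d (by omega) k (by omega)
        have e : CoxeterMatrix.B n (σ j) (σ i) = 3 := by
          rw [hM, MB_three]
          omega
        rw [MB_three, e1] at e
        have hki : σ i ≠ k := by
          intro e3
          rw [← e2] at e3
          have := hinj e3
          rw [← this] at hk
          omega
        have hki' : (σ i : ℕ) ≠ k := fun e => hki (Fin.ext e)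
        have := (σ i).2
        apply Fin.ext
        omega
  intro i
  exact key (n - i - 1) i (by omega)

variable {x : MulAut K} {φ : W ≃* W} {σ : Fin n → Fin n} {J : Set (Fin n)}

section NX

variable (H : NX cs (isCartan n) p T nn X x φ σ J)

include H

theorem sigma_id_nx (hn : 3 ≤ n) : ∀ i, σ i = i := sigma_id hn (sigma_inj H) (sigma_M H)

/-- `w_J` on a root which involves no node of `J` -/
theorem wJ_rt_fix {a b : Fin n × Bool} (h1 : ∀ k ∈ J, Cf k (wt a + wt b) = 0) :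
    rep cs (isCartan n) (wJ cs J) (rt a b) = rt a b :=
  wJ_fix H fun k hk => by rw [← Cf_ee, ee_rt, h1 k hk]

theorem wJ_rt_one {a b : Fin n × Bool} {j : Fin n} (hj : j ∈ J) (h1 : ∀ k ∈ J, k ≠ j → Cf k (wt a + wt b) = 0) :
    rep cs (isCartan n) (wJ cs J) (rt a b) = rt (sg j a) (sg j b) := by
  rw [wJ_one H hj fun k hk hkj => by rw [← Cf_ee, ee_rt, h1 k hk hkj], rep_simple]
  exact eq_rt (ee_refl_of (ee_rt a b))

/-- nodes of `J` are not adjacent -/
theorem J_sep {i j : Fin n} (hi : i ∈ J) (hij : (i : ℕ) + 1 = j) : j ∉ J := by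
  have hne : i ≠ j := fun e => by rw [e] at hij; omega
  refine not_both H hne ?_ hi
  rw [A_apply, if_neg hne, if_pos hij]
  split_ifs <;> norm_num

end NX

variable {Z : (Fin n → ℤ) → Subgroup K} {z : (Fin n → ℤ) → K} (C : Cls cs (isCartan n) p T nn X (LR n) Z z)

theorem rt_LR (a : Fin n × Bool) : rt a a ∈ LR n := ⟨a, ee_rt a a⟩

theorem orth_long {a b : Fin n × Bool} (hab : a.1 ≠ b.1) : form cs (isCartan n) (rt a a) (rt b b) = 0 := by
  rw [form_eq_zero_iff cs (isRoot_rt cs (Or.inr rfl)), ee_rt, ee_rt, ip_add_wt, Pi.add_apply, wt_apply,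
    if_neg hab.symm]
  ring

theorem sq_rt {a b : Fin n × Bool} (hab : a.1 ≠ b.1) :
    Sq cs (isCartan n) 1 (rt a (ng b)) (rt a b) (rt a a) (rt b b) := by
  have hab' : a.1 ≠ (ng b).1 := hab
  have e1 : rt a b = rt a (ng b) + rt b b := by
    apply ee_injective
    rw [ee_add, ee_rt, ee_rt, ee_rt, wt_ng]; abel
  have hbb : IsRoot cs (isCartan n) (rt b b) := isRoot_rt cs (Or.inr rfl)
  have h1 : cpr cs (isCartan n) (rt a (ng b)) (rt b b) = -1 := by
    rw [cpr_rt_self, ee_rt, Pi.add_apply, wt_apply, if_neg hab.symm, wt_ng, Pi.neg_apply, wt_apply, if_pos rfl]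
    have := sn_mul_self b
    unfold sn at this ⊢
    linarith
  have h2 := two_form_cpr cs (isCartan n) (rt a (ng b)) hbb
  refine ⟨one_pos, isRoot_rt cs (Or.inl hab'), isRoot_rt cs (Or.inl hab), isRoot_rt cs (Or.inr rfl), hbb, ?_, ?_, ?_, ?_⟩
  · rw [form_eq_zero_iff cs (isRoot_rt cs (Or.inl hab)), ee_rt, ee_rt, ip_add_wt, Pi.add_apply, Pi.add_apply,
      wt_ng, Pi.neg_apply, Pi.neg_apply, wt_apply, wt_apply, wt_apply, wt_apply, if_pos rfl, if_pos rfl, if_neg hab,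
      if_neg hab.symm]
    have ha := sn_mul_self a
    have hb := sn_mul_self b
    unfold sn at ha hb ⊢
    linarith
  · rw [e1, form_add_left, form_add_right, form_add_right, form_comm cs _ (rt b b) (rt a (ng b))]
    rw [h1] at h2
    linarith
  · apply ee_injective
    rw [one_smul, ee_add, ee_rt, ee_rt, ee_rt, wt_ng]; abel
  · apply ee_injective
    rw [one_smul, sub_eq_add_neg, ee_add, ee_neg, ee_rt, ee_rt, ee_rt, wt_ng]; abel

include C in
theorem sep_rt (hp : p.Prime) (hodd : p ≠ 2) (hn : 3 ≤ n) {a b : Fin n × Bool} (hab : a.1 ≠ b.1) :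
    Sep Z z (rt a a) (rt b b) := by
  obtain ⟨k, hka, hkb⟩ : ∃ k : Fin n, k ≠ a.1 ∧ k ≠ b.1 := by
    by_contra hcon
    push Not at hcon
    have h1 : (Finset.univ : Finset (Fin n)) ⊆ {a.1, b.1} := fun k _ => by
      rw [Finset.mem_insert, Finset.mem_singleton]
      by_cases hk : k = a.1
      · exact Or.inl hk
      · exact Or.inr (hcon k hk)
    have h2 := Finset.card_le_card h1
    rw [Finset.card_univ, Fintype.card_fin] at h2
    have h3 := (Finset.card_le_two : ({a.1, b.1} : Finset (Fin n)).card ≤ 2)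
    omega
  have hk : (a : Fin n × Bool).1 ≠ ((k, true) : Fin n × Bool).1 := hka.symm
  refine sep_of_root C hp hodd (rt_LR a) (rt_LR b) (y := rt a (k, true)) (isRoot_rt cs (Or.inl hk)) ?_ ?_ ?_ ?_
  · rw [form_eq_zero_iff cs (isRoot_rt cs (Or.inr rfl)), ee_rt, ee_rt, ip_add_wt, Pi.add_apply, wt_apply, wt_apply,
      if_neg hab.symm, if_neg (show b.1 ≠ k from hkb.symm)]
    ring
  · rw [Ne, form_eq_zero_iff cs (isRoot_rt cs (Or.inr rfl)), ee_rt, ee_rt, ip_add_wt, Pi.add_apply, wt_apply,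
      wt_apply, if_pos rfl, if_neg hk]
    unfold sn
    cases a.2 <;> simp
  · intro e
    have h1 := congrArg (fun x => ee x k) e
    simp only [ee_rt, Pi.add_apply, wt_apply] at h1
    rw [if_neg hka] at h1
    simp at h1
  · intro e
    have h1 := congrArg (fun x => ee x k) e
    simp only [ee_neg, ee_rt, Pi.add_apply, Pi.neg_apply, wt_apply] at h1
    rw [if_neg hka] at h1
    simp at h1

section Rows

variable (H : NX cs (isCartan n) p T nn X x φ σ J)
  (hZ : ∀ r ∈ LR n, ∀ v ∈ X r, (∀ u ∈ X r, u * v = v * u) → v ∈ Z r)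

include C H hZ

/-- a node of `J` with a simple bond -/
theorem obs_node [Finite K] (hp : p.Prime) (hσ : ∀ i, σ i = i) {j : Fin n} (hj : j ∈ J) (hj1 : (j : ℕ) + 1 < n)
    (hS : Sep Z z (rt (j, true) (j, true)) (rt (⟨j + 1, hj1⟩, true) (⟨j + 1, hj1⟩, true))) : Obs p x := by
  have hC : ∀ s : Bool, ∀ k ∈ J, k ≠ j → Cf k (wt (j, s) + wt (j, s)) = 0 := by
    intro s k hk hkj
    have h1 : (k : ℕ) + 1 ≠ j := fun e => J_sep H hk e hj
    have h2 : (k : ℕ) ≠ j := fun e => hkj (Fin.ext e)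
    unfold Cf
    split_ifs with h3
    · rw [Pi.add_apply, Pi.add_apply, wt_apply, wt_apply, if_neg hkj, if_neg]
      · ring
      · intro e; exact h1 (congrArg Fin.val e)
    · rw [Pi.add_apply, wt_apply, if_neg hkj]; ring
  have key : ∀ s : Bool, (X (rt (j, s) (j, s))).map x.toMonoidHom =
      X (rt (⟨j + 1, hj1⟩, s) (⟨j + 1, hj1⟩, s)) := by
    intro s
    rw [map_root H hσ (isRoot_rt cs (Or.inr rfl)), wJ_rt_one H hj (hC s), sg_up hj1]
  have hneg : ∀ k : Fin n, -rt (k, true) (k, true) = rt (k, false) (k, false) := fun k => by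
    rw [← rt_ng]; rfl
  refine obs_swapZ C H.xx hp (rt_LR _) (rt_LR _) (orth_long ?_) (map_Z C hZ (rt_LR _) (rt_LR _) (key true)) ?_ hS
  · intro e
    have := congrArg Fin.val e
    simp only at this
    omega
  · rw [hneg, hneg]
    exact map_Z C hZ (rt_LR _) (rt_LR _) (key false)

/-- two fixed indices -/
theorem obs_fixed [Finite K] (hp : p.Prime) (hodd : p ≠ 2) (hσ : ∀ i, σ i = i) {i0 i1 : Fin n} (h01 : i0 ≠ i1)
    (h0 : ∀ k ∈ J, ∀ s, Cf k (wt (i0, s)) = 0) (h1 : ∀ k ∈ J, ∀ s, Cf k (wt (i1, s)) = 0)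
    (hz : z (rt (i0, true) (i0, true)) ≠ z (rt (i1, true) (i1, true))) : Obs p x := by
  have hP : ∀ a : Fin n × Bool, (a.1 = i0 ∨ a.1 = i1) → ∀ k ∈ J, Cf k (wt a) = 0 := by
    rintro ⟨a, s⟩ ha k hk
    simp only at ha
    rcases ha with rfl | rfl
    · exact h0 k hk s
    · exact h1 k hk s
  have fix : ∀ a b : Fin n × Bool, (a.1 = i0 ∨ a.1 = i1) → (b.1 = i0 ∨ b.1 = i1) → Ok a b →
      (X (rt a b)).map x.toMonoidHom = X (rt a b) := by
    intro a b ha hb hab
    rw [map_root H hσ (isRoot_rt cs hab), wJ_rt_fix H fun k hk => by rw [Cf_add, hP a ha k hk, hP b hb k hk, add_zero]]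
  obtain ⟨a, ha⟩ : ∃ a : Fin n × Bool, a = (i0, true) := ⟨_, rfl⟩
  obtain ⟨b, hb⟩ : ∃ b : Fin n × Bool, b = (i1, true) := ⟨_, rfl⟩
  rw [← ha, ← hb] at hz
  have a0 : a.1 = i0 := by rw [ha]
  have b0 : b.1 = i1 := by rw [hb]
  have hab : a.1 ≠ b.1 := by rw [a0, b0]; exact h01
  have na : (ng a).1 = i0 := a0
  have nb : (ng b).1 = i1 := b0
  refine obs_sq C (sq_rt hab) (rt_LR a) (rt_LR b) hp hodd H.xx ?_ ?_ ?_ ?_ ?_ ?_ ?_ ?_ ?_ ?_ hz
  · exact fix _ _ (Or.inl a0) (Or.inr nb) (Or.inl hab)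
  · rw [← rt_ng]; exact fix _ _ (Or.inl na) (Or.inr (by rw [ng_fst]; exact nb)) (Or.inl hab)
  · exact fix _ _ (Or.inl a0) (Or.inr b0) (Or.inl hab)
  · rw [← rt_ng]; exact fix _ _ (Or.inl na) (Or.inr nb) (Or.inl hab)
  · exact fix _ _ (Or.inl a0) (Or.inl a0) (Or.inr rfl)
  · rw [← rt_ng]; exact fix _ _ (Or.inl na) (Or.inl na) (Or.inr rfl)
  · exact fix _ _ (Or.inr b0) (Or.inr b0) (Or.inr rfl)
  · rw [← rt_ng]; exact fix _ _ (Or.inr nb) (Or.inr nb) (Or.inr rfl)
  · exact map_Z C hZ (rt_LR _) (rt_LR _) (fix _ _ (Or.inl a0) (Or.inl a0) (Or.inr rfl))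
  · exact map_Z C hZ (rt_LR _) (rt_LR _) (fix _ _ (Or.inr b0) (Or.inr b0) (Or.inr rfl))

/-- **Type I, rank at least three.** -/
theorem typeI [Finite K] (hp : p.Prime) (hodd : p ≠ 2) (hn : 3 ≤ n) : Obs p x := by
  have hσ := sigma_id_nx H hn
  by_cases h1 : ∃ j ∈ J, (j : ℕ) + 1 < n
  · obtain ⟨j, hj, hj1⟩ := h1
    refine obs_node C H hZ hp hσ hj hj1 (sep_rt C hp hodd hn ?_)
    intro e
    have := congrArg Fin.val e
    simp only at this
    omega
  · push Not at h1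
    obtain ⟨i0, hi0⟩ : ∃ i : Fin n, (i : ℕ) = 0 := ⟨⟨0, by omega⟩, rfl⟩
    obtain ⟨i1, hi1⟩ : ∃ i : Fin n, (i : ℕ) = 1 := ⟨⟨1, by omega⟩, rfl⟩
    have hne : i0 ≠ i1 := fun e => by rw [e] at hi0; omega
    refine obs_fixed C H hZ hp hodd hσ hne ?_ ?_ (z_ne_of_sep C (rt_LR _) (sep_rt C hp hodd hn hne))
    · intro k hk s
      have := h1 k hk
      unfold Cf
      rw [dif_neg (by omega), wt_apply, if_neg]
      intro e
      rw [e] at this
      simp only at this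
      omega
    · intro k hk s
      have := h1 k hk
      unfold Cf
      rw [dif_neg (by omega), wt_apply, if_neg]
      intro e
      rw [e] at this
      simp only at this
      omega

end Rows

end B

section Two

open Cfsg.Agent.Nodes.TypeC Cfsg.Agent.Nodes.TypeCForm Cfsg.Agent.Nodes.KindBC Cfsg.Agent.Nodes.ClsWitt

variable {W K : Type*} [Group W] [Fintype W] [Group K] {cs : CoxeterSystem (CoxeterMatrix.B 2) W} {p : ℕ}
  {T : Subgroup K} {nn : Fin 2 → K} {X : (Fin 2 → ℤ) → Subgroup K} {Z : (Fin 2 → ℤ) → Subgroup K}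
  {z : (Fin 2 → ℤ) → K} (C : Cls cs (isCartan 2) p T nn X (LR 2) Z z) {x : MulAut K} {φ : W ≃* W}
  {σ : Fin 2 → Fin 2} {J : Set (Fin 2)} (H : NX cs (isCartan 2) p T nn X x φ σ J)
  (hZ : ∀ r ∈ LR 2, ∀ v ∈ X r, (∀ u ∈ X r, u * v = v * u) → v ∈ Z r)

include C H hZ

theorem sigma_id_two (hnc : ∀ r ∈ LR 2, ∃ v ∈ X r, v ∉ Z r) : ∀ i, σ i = i := by
  by_contra hcon
  push Not at hcon
  have h0 : σ 0 = 1 := by
    obtain ⟨i, hi⟩ := hcon
    fin_cases i
    · have : σ 0 ≠ 0 := hi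
      omega
    · have h1 : σ 1 ≠ 1 := hi
      have h2 : σ 1 = 0 := by omega
      rw [← h2, H.σσ]
  have hx := map_sr H 0
  rw [h0] at hx
  have e1 : (sr 1 : Fin 2 → ℤ) = KindBC.rt ((1 : Fin 2), true) (1, true) := by
    rw [sr_eq_rt]; rfl
  have e0 : (sr 0 : Fin 2 → ℤ) = KindBC.rt ((0 : Fin 2), true) (1, false) := by
    rw [sr_eq_rt]; rfl
  have hr : rep cs (isCartan 2) (wJ cs J) (sr 1) ∈ LR 2 := C.act _ (by rw [e1]; exact rt_LR _) _
  obtain ⟨v, hv, hv'⟩ := hnc _ hr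
  apply hv'
  have hab : ∀ a ∈ X (sr 0), ∀ b ∈ X (sr 0), a * b = b * a := by
    have hne : (((0 : Fin 2), true) : Fin 2 × Bool).1 ≠ (((1 : Fin 2), false) : Fin 2 × Bool).1 := by decide
    refine comm_of_z C (rt_LR (1, true)) (isRoot_sr cs _ 0) ?_ ?_ ?_
    · rw [e0]
      intro e
      have h1 := congrArg (fun x => ee x 0) e
      simp only [ee_rt, Pi.add_apply, wt_apply] at h1
      simp at h1
    · rw [e0]
      intro e
      have h1 := congrArg (fun x => ee x 0) e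
      simp only [ee_neg, ee_rt, Pi.add_apply, Pi.neg_apply, wt_apply] at h1
      simp at h1
    · rw [e0, Ne, form_eq_zero_iff cs (isRoot_rt cs (Or.inr rfl)), ee_rt, ee_rt, ip_add_wt, Pi.add_apply, wt_apply,
        wt_apply]
      simp [sn]
  refine hZ _ hr v hv fun u hu => ?_
  rw [← hx] at hu hv
  obtain ⟨u, hu, rfl⟩ := hu
  obtain ⟨v, hv, rfl⟩ := hv
  have h1 := hab u hu v hv
  change x u * x v = x v * x u
  rw [← map_mul, h1, map_mul]

/-- **Type I, rank two, non-abelian long root groups.** -/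
theorem typeI_two [Finite K] (hp : p.Prime) (hodd : p ≠ 2) (hnc : ∀ r ∈ LR 2, ∃ v ∈ X r, v ∉ Z r) (hJ : 1 ∉ J) :
    Obs p x := by
  have hσ := sigma_id_two C H hZ hnc
  have hsep : ∀ a b : Fin 2 × Bool, a.1 ≠ b.1 → Sep Z z (rt a a) (rt b b) := by
    intro a b hab
    obtain ⟨v, hv, hv'⟩ := hnc _ (rt_LR a)
    exact sep_of_self C hp hodd (rt_LR a) (rt_LR b) (orth_long hab) hv hv'
  by_cases h0 : (0 : Fin 2) ∈ J
  · exact obs_node C H hZ hp hσ h0 (by norm_num) (hsep _ _ (by decide))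
  · have hJ' : ∀ k ∈ J, False := by
      intro k hk
      fin_cases k
      · exact h0 hk
      · exact hJ hk
    exact obs_fixed C H hZ hp hodd hσ (i0 := 0) (i1 := 1) (by decide) (fun k hk => (hJ' k hk).elim)
      (fun k hk => (hJ' k hk).elim) (z_ne_of_sep C (rt_LR _) (hsep _ _ (by decide)))

end Two

end Cfsg.Agent.H286.TypeI
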