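import Cfsg.Agent.H286.PSets
import Cfsg.Agent.H286.RowsA
import Cfsg.Agent.H286.TypeI
import Cfsg.Agent.Nodes.SimplyLaced
import Cfsg.Agent.Nodes.RootsA
import Cfsg.Agent.Nodes.TypeD

/-!
# `PCase` for the diagrams `A₃`, `D₄`
-/

set_option autoImplicit false
set_option linter.unusedSectionVars false

namespace Cfsg.Agent.H286.PADE

open CoxeterSystem Cfsg.Agent.ChevalleyStructure.CoxeterGeom Cfsg.Agent.Tits.Roots Cfsg.Agent.Tits.Core
  Cfsg.Agent.Tits.RootComb Cfsg.Agent.Tits.Exchange Cfsg.Agent.Nodes.Comb Cfsg.Agent.Nodes.Reps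
  Cfsg.Agent.Nodes.BNOf Cfsg.Agent.Nodes.RGDLib Cfsg.Agent.Nodes.Bruhat Cfsg.Agent.Nodes.StabComb
  Cfsg.Agent.Nodes.OppDec Cfsg.Agent.Nodes.Coroot Cfsg.Agent.KFacts.RgdSL Cfsg.Agent.UGT.U2.FOne
  Cfsg.Agent.H286.Obs Cfsg.Agent.H286.RootObs Cfsg.Agent.H286.Comb Cfsg.Agent.H286.Chain Cfsg.Agent.H286.Row
  Cfsg.Agent.H286.PSplit Cfsg.Agent.H286.PSets Cfsg.Agent.H286.RowsA Cfsg.Agent.Nodes.LeviDec
open Cfsg.Agent.Nodes.BNOf.RGD (Sup le_Sup Sup_le Sup_mono)
open Cfsg.Agent.Nodes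
open scoped commutatorElement

section General

variable {l : ℕ} {W K : Type*} [Group W] [Group K] {M : CoxeterMatrix (Fin l)}
  {cs : CoxeterSystem M W} {A : Fin l → Fin l → ℤ} {h : IsCartan M A} {p : ℕ} {T : Subgroup K} {n : Fin l → K}
  {X : (Fin l → ℤ) → Subgroup K}

/-- the Cartan number in coordinates -/
def Bf (A : Fin l → Fin l → ℤ) (x v : Fin l → ℤ) : ℤ := ∑ k, x k * pairing A k v

/-- the reflection -/
def rf (A : Fin l → Fin l → ℤ) (i : Fin l) (v : Fin l → ℤ) : Fin l → ℤ := v - pairing A i v • sr i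

theorem mem_list (L : List (Fin l → ℤ)) (h0 : ∀ i, sr i ∈ L) (h1 : ∀ v ∈ L, ∀ i, rf A i v ∈ L) {x : Fin l → ℤ}
    (hx : IsRoot cs h x) : x ∈ L := by
  obtain ⟨w, i, rfl⟩ := hx
  induction w using cs.simple_induction_left with
  | one => rw [map_one, Module.End.one_apply]; exact h0 i
  | mul_simple_left w j ih =>
    rw [rep_mul_apply, rep_simple_eq]
    exact h1 _ ih j

/-- a list of roots, each obtained from a later one by a reflection -/
def chkR (A : Fin l → Fin l → ℤ) : List (Fin l → ℤ) → Bool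
  | [] => true
  | v :: t => (decide (∃ i, v = sr i) || decide (∃ u ∈ t, ∃ i, v = rf A i u)) && chkR A t

theorem isRoot_list {L : List (Fin l → ℤ)} (hL : chkR A L = true) : ∀ v ∈ L, IsRoot cs h v := by
  induction L with
  | nil => intro v hv; exact absurd hv List.not_mem_nil
  | cons v t ih =>
    rw [chkR, Bool.and_eq_true, Bool.or_eq_true, decide_eq_true_iff, decide_eq_true_iff] at hL
    have ih := ih hL.2
    intro u hu
    rcases List.mem_cons.1 hu with rfl | hu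
    · rcases hL.1 with ⟨i, hi⟩ | ⟨w, hw, i, hi⟩
      · rw [hi]; exact isRoot_sr cs h i
      · have h1 := (ih w hw).act (cs.simple i)
        rw [rep_simple_eq] at h1
        rw [hi]; exact h1
    · exact ih u hu

/-- `w_J` in coordinates -/
def wl (A : Fin l → Fin l → ℤ) (J : List (Fin l)) (b : Fin l → ℤ) : Fin l → ℤ := fun k =>
  if k ∈ J then b k - pairing A k b else b k

section NX

variable {x : MulAut K} {φ : W ≃* W} {σ : Fin l → Fin l} {J : Set (Fin l)} (H : NX cs h p T n X x φ σ J)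

include H

theorem rep_wl [Finite W] {Jl : List (Fin l)} (hJ : ∀ k, k ∈ J ↔ k ∈ Jl) (b : Fin l → ℤ) :
    rep cs h (wJ cs J) b = wl A Jl b := by
  classical
  funext k
  rw [rep_wJ_apply cs h H.Jcomm]
  unfold wl
  simp only [hJ]

theorem sigma_rep (hA : ∀ i j, A (σ i) (σ j) = A i j) (w : W) (v : Fin l → ℤ) :
    rep cs h (φ w) (v ∘ σ) = rep cs h w v ∘ σ := by
  have hbij : Function.Bijective σ := ⟨sigma_inj H, fun i => ⟨σ i, H.σσ i⟩⟩
  induction w using cs.simple_induction_left with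
  | one => rw [map_one, map_one, Module.End.one_apply, Module.End.one_apply]
  | mul_simple_left w j ih =>
    rw [map_mul, H.φ_simple, rep_mul_apply, ih, rep_mul_apply, rep_simple_eq, rep_simple_eq]
    generalize rep cs h w v = u
    have e1 : pairing A (σ j) (u ∘ σ) = pairing A j u := by
      unfold pairing
      rw [← (Equiv.ofBijective σ hbij).sum_comp]
      refine Finset.sum_congr rfl fun k _ => ?_
      change A (σ j) (σ k) * u (σ (σ k)) = _
      rw [hA, H.σσ]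
    have e2 : (sr (σ j) : Fin l → ℤ) = sr j ∘ σ := by
      funext k
      by_cases hk : k = σ j
      · subst hk
        rw [sr_self, Function.comp_apply, H.σσ, sr_self]
      · rw [sr_ne hk, Function.comp_apply, sr_ne]
        intro e
        exact hk (by rw [← e, H.σσ])
    rw [e1, e2]
    rfl

theorem map_root_sigma (hA : ∀ i j, A (σ i) (σ j) = A i j) {b : Fin l → ℤ} (hb : IsRoot cs h b) :
    (X b).map x.toMonoidHom = X (rep cs h (wJ cs J) (b ∘ σ)) := by
  obtain ⟨w, i, rfl⟩ := hb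
  rw [H.xX, rep_mul_apply, ← sigma_rep H hA]
  congr 3
  funext k
  by_cases hk : k = σ i
  · subst hk
    rw [sr_self, Function.comp_apply, H.σσ, sr_self]
  · rw [sr_ne hk, Function.comp_apply, sr_ne]
    intro e
    exact hk (by rw [← e, H.σσ])

end NX

variable [Finite W] (R : RGD cs h p T n X)

include R

theorem exp_root {i : Fin l} (hexp : ∀ u ∈ X (sr i), u ^ p = 1) (w : W) : ∀ u ∈ X (rep cs h w (sr i)), u ^ p = 1 := by
  intro u hu
  obtain ⟨k, hk⟩ := exists_rp cs R.nsys w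
  rw [← R.conj_rp hk (isRoot_sr cs h i), mem_cj] at hu
  have h1 := hexp _ hu
  have h2 : (k⁻¹ * u * k) ^ p = k⁻¹ * u ^ p * k := by
    have := conj_pow (i := p) (a := k⁻¹) (b := u)
    rwa [inv_inv] at this
  rw [h2] at h1
  calc u ^ p = k * (k⁻¹ * u ^ p * k) * k⁻¹ := by group
    _ = 1 := by rw [h1]; group

theorem exp_all (hexp : ∀ i, ∀ u ∈ X (sr i), u ^ p = 1) {b : Fin l → ℤ} (hb : IsRoot cs h b) :
    ∀ u ∈ X b, u ^ p = 1 := by
  obtain ⟨w, i, rfl⟩ := hb
  exact exp_root R (hexp i) w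

theorem card_all {q : ℕ} (hq : ∀ i, Nat.card (X (sr i)) = q) {b : Fin l → ℤ} (hb : IsRoot cs h b) :
    Nat.card (X b) = q := by
  obtain ⟨w, i, rfl⟩ := hb
  rw [CardSup.card_X_rep R w (isRoot_sr cs h i), hq]

theorem abel_all (hab : ∀ i, ∀ a ∈ X (sr i), ∀ b ∈ X (sr i), a * b = b * a) {b : Fin l → ℤ} (hb : IsRoot cs h b) :
    ∀ u ∈ X b, ∀ v ∈ X b, u * v = v * u := by
  intro u hu v hv
  obtain ⟨w, i, rfl⟩ := hb
  obtain ⟨k, hk⟩ := exists_rp cs R.nsys w
  rw [← R.conj_rp hk (isRoot_sr cs h i), mem_cj] at hu hv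
  have h1 := hab i _ hu _ hv
  calc u * v = k * ((k⁻¹ * u * k) * (k⁻¹ * v * k)) * k⁻¹ := by group
    _ = k * ((k⁻¹ * v * k) * (k⁻¹ * u * k)) * k⁻¹ := by rw [h1]
    _ = v * u := by group

variable (h4 : ∀ i j, M i j ≠ 4) (h6 : ∀ i j, M i j ≠ 6)

include h4 h6

omit R in
theorem sl : SL cs h := fun _ _ hx hy => SimplyLaced.cpr_symm cs h h4 h6 hx hy

/-- commuting root groups -/
theorem comm_pair (hab : ∀ i, ∀ a ∈ X (sr i), ∀ b ∈ X (sr i), a * b = b * a) {r s : Fin l → ℤ}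
    (hr : IsRoot cs h r) (hs : IsRoot cs h s) (hB : 0 ≤ Bf A r s) : ∀ a ∈ X r, ∀ b ∈ X s, a * b = b * a := by
  intro a ha b hb
  have e : cpr cs h r s = Bf A r s := SimplyLaced.cpr_eq_sum cs h h4 h6 r hs
  by_cases hrs : r = s
  · subst hrs
    exact abel_all R hab hr a ha b hb
  · have hne : r ≠ -s := by
      rintro rfl
      rw [← e, cpr_neg cs h _ hs, cpr_self cs h hs] at hB
      omega
    exact comm_of_not_btwn R hr hs hrs hne ((sl h4 h6).not_btwn hr hs hrs (by rw [e]; exact hB)) ha hb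

/-- an `A₂`-pair -/
theorem com_pair {r s t : Fin l → ℤ} (hr : IsRoot cs h r) (hs : IsRoot cs h s) (hB : Bf A r s = -1) (ht : r + s = t)
    {a b : K} (ha : a ∈ X r) (hb : b ∈ X s) : ∃ z ∈ X t, b * a = a * b * z := by
  have hA : A2 cs h r s := (sl h4 h6).a2 hr hs (by rw [SimplyLaced.cpr_eq_sum cs h h4 h6 r hs]; exact hB)
  refine ⟨⁅b⁻¹, a⁻¹⁆, ?_, by rw [commutatorElement_def]; group⟩
  rw [← ht, add_comm]
  exact A2.comm_mem R hA.symm (inv_mem hb) (inv_mem ha)

omit R in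
/-- sets of roots without obtuse angles are closed -/
theorem closed_of {S : Set (Fin l → ℤ)} (hr : ∀ r ∈ S, IsRoot cs h r) (hB : ∀ r ∈ S, ∀ s ∈ S, 0 ≤ Bf A r s) :
    Unique.Closed cs h S := by
  intro r hrS s hsS t ht
  by_cases hrs : r = s
  · subst hrs
    obtain ⟨htr, m, a, b, hm, ha, hb, he⟩ := ht
    have h1 : t = r := by
      refine Slope.eq_of_cross htr (hr r hrS) hm (show (0 : ℤ) < a + b by omega) ?_
      rw [he, add_smul]
    rw [h1]; exact hrS
  · exfalso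
    exact (sl h4 h6).not_btwn (hr r hrS) (hr s hsS) hrs
      (by rw [SimplyLaced.cpr_eq_sum cs h h4 h6 r (hr s hsS)]; exact hB r hrS s hsS) t ht

end General

/-! ### `A₃` -/

section A3

open Cfsg.Agent.Nodes.RootsA
open Cfsg.Agent.LieRecognition.BNCox (cA cA_apply)

/-- the roots of `A₃` -/
def LA : List (Fin 3 → ℤ) := [![1, 1, 1], ![0, 1, 1], ![1, 1, 0], ![1, 0, 0], ![0, 1, 0], ![0, 0, 1]]

def LA' : List (Fin 3 → ℤ) := LA ++ LA.map fun v => -v

theorem LA_chk : chkR (AA 3) LA = true := by decide +kernel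
theorem LA_sr : ∀ i, sr i ∈ LA' := by decide +kernel
theorem LA_rf : ∀ v ∈ LA', ∀ i, rf (AA 3) i v ∈ LA' := by decide +kernel
theorem M4 : ∀ i j, cA 3 i j ≠ 4 := by
  intro i j
  rw [cA_apply]
  revert i j
  decide
theorem M6 : ∀ i j, cA 3 i j ≠ 6 := by
  intro i j
  rw [cA_apply]
  revert i j
  decide

variable {W K : Type*} [Group W] [Finite W] [Group K] [Finite K] {cs : CoxeterSystem (cA 3) W} {p : ℕ}
  {T : Subgroup K} {nn : Fin 3 → K} {X : (Fin 3 → ℤ) → Subgroup K} {x d : MulAut K} {φ : W ≃* W}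
  {σ : Fin 3 → Fin 3} {J : Set (Fin 3)} {g : K} [Fact p.Prime]

theorem cov1 : ∀ v ∈ LA', (∀ k, 0 ≤ v k) → (∃ k : Fin 3, k ∉ [(0 : Fin 3), 2] ∧ 0 < v k) →
    v ∈ [![0, 1, 0], ![1, 1, 0]] ∨ v ∈ [![1, 1, 1], ![0, 1, 1]] := by decide +kernel

theorem cov2 : ∀ v ∈ LA', (∀ k, 0 ≤ v k) → (∃ k : Fin 3, k ∉ [(1 : Fin 3)] ∧ 0 < v k) →
    v ∈ [![1, 0, 0], ![1, 1, 0]] ∨ v ∈ [![0, 1, 1], ![0, 0, 1]] ∨ v ∈ [![1, 1, 1]] := by decide +kernel

/-- **The diagram `A₃`.** -/
theorem p_A3 (N : NF cs (isCartan 3) p T nn X x d φ σ J g) (hodd : Odd p) {q : ℕ}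
    (hq : ∀ i, Nat.card (X (sr i)) = q) (hexp : ∀ i, ∀ u ∈ X (sr i), u ^ p = 1) (h8 : q % 8 = 1) (h1 : 1 < q)
    (hS : Syl p x (VJ cs (isCartan 3) X J)) (hN : NoO p x) : Obs p x ∨ PCase p x := by
  have := Fintype.ofFinite W
  have H := N.nx
  have R := N.rgd
  have a01 : AA 3 0 1 = -1 := by decide
  have a10 : AA 3 1 0 = -1 := by decide
  have a12 : AA 3 1 2 = -1 := by decide
  have a21 : AA 3 2 1 = -1 := by decide
  have hI : ∀ k : Fin 3, k = 0 ∨ k = 1 ∨ k = 2 := by decide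
  have hA01 := a2_simple cs (isCartan 3) (show (0 : Fin 3) ≠ 1 by decide) a01 a10
  have hA12 := a2_simple cs (isCartan 3) (show (1 : Fin 3) ≠ 2 by decide) a12 a21
  have hab : ∀ i, ∀ a ∈ X (sr i), ∀ b ∈ X (sr i), a * b = b * a := by
    intro i
    rcases hI i with rfl | rfl | rfl
    · exact comm_of_A2 R hA01
    · exact comm_of_A2 R hA01.symm
    · exact comm_of_A2 R hA12.symm
  have hrt : ∀ v ∈ LA, IsRoot cs (isCartan 3) v := isRoot_list LA_chk
  have hcm : ∀ {r s : Fin 3 → ℤ}, r ∈ LA → s ∈ LA → 0 ≤ Bf (AA 3) r s → ∀ a ∈ X r, ∀ b ∈ X s, a * b = b * a :=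
    fun {r s} hr hs hB => comm_pair R M4 M6 hab (hrt r hr) (hrt s hs) hB
  rcases row_A3 hodd N (i0 := 0) (i1 := 1) (i2 := 2) hI a01 a10 a12 a21 (by decide) with h | ⟨hσ, hJ⟩ | ⟨h0, h1', hJ⟩
  · exact Or.inl h
  · -- `J = {0, 2}`
    right
    have hJl : ∀ k, k ∈ J ↔ k ∈ [(0 : Fin 3), 2] := by
      intro k
      rw [hJ]
      simp
    have hm : ∀ v ∈ LA, (X v).map x.toMonoidHom = X (wl (AA 3) [0, 2] v) := fun v hv => by
      rw [TypeI.map_root H hσ (hrt v hv), rep_wl H hJl]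
    have S : Sets cs (isCartan 3) X p x (({![0, 1, 0], ![1, 1, 0]} : Finset (Fin 3 → ℤ)) : Set (Fin 3 → ℤ))
        {v | v ∈ [![1, 1, 1], ![0, 1, 1]]} {v | v ∈ ([] : List (Fin 3 → ℤ))} := by
      have mA : ∀ r, r ∈ (({![0, 1, 0], ![1, 1, 0]} : Finset (Fin 3 → ℤ)) : Set (Fin 3 → ℤ)) →
          r = ![0, 1, 0] ∨ r = ![1, 1, 0] := fun r hr => by simpa using hr
      have mB : ∀ r, r ∈ {v : Fin 3 → ℤ | v ∈ [![1, 1, 1], ![0, 1, 1]]} → r = ![1, 1, 1] ∨ r = ![0, 1, 1] :=
        fun r hr => by simpa using hr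
      refine ⟨?_, ?_, ?_, ?_, ?_, ?_, ?_, ?_, ?_, ?_, ?_, ?_, ?_, ?_⟩
      · intro r hr
        rcases mA r hr with rfl | rfl <;> exact hrt _ (by decide)
      · intro r hr
        rcases mB r hr with rfl | rfl <;> exact hrt _ (by decide)
      · intro r hr; exact absurd hr List.not_mem_nil
      · intro r hr
        rcases mA r hr with rfl | rfl
        · exact ⟨![1, 1, 1], by simp, by rw [hm _ (by decide)]; congr 1; decide +kernel⟩
        · exact ⟨![0, 1, 1], by simp, by rw [hm _ (by decide)]; congr 1; decide +kernel⟩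
      · intro r hr
        rcases mB r hr with rfl | rfl
        · exact ⟨![0, 1, 0], by simp, by rw [hm _ (by decide)]; congr 1; decide +kernel⟩
        · exact ⟨![1, 1, 0], by simp, by rw [hm _ (by decide)]; congr 1; decide +kernel⟩
      · intro r hr s hs
        rcases mA r hr with rfl | rfl <;> rcases mA s hs with rfl | rfl <;>
          exact hcm (by decide) (by decide) (by decide +kernel)
      · intro r hr; exact absurd hr List.not_mem_nil
      · intro r _ s hs; exact absurd hs List.not_mem_nil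
      · intro r _ s hs; exact absurd hs List.not_mem_nil
      · intro r hr s hs a ha b hb
        refine ⟨1, one_mem _, ?_⟩
        rw [mul_one]
        rcases mA r hr with rfl | rfl <;> rcases mB s hs with rfl | rfl <;>
          exact (hcm (by decide) (by decide) (by decide +kernel) a ha b hb).symm
      · intro r hr; exact absurd hr List.not_mem_nil
      · intro r hr
        rcases mA r hr with rfl | rfl <;> exact exp_all R hexp (hrt _ (by decide))
      · refine ⟨Pi.evalAddMonoidHom (fun _ : Fin 3 => ℤ) 1 - 2 • Pi.evalAddMonoidHom (fun _ : Fin 3 => ℤ) 2, ?_, ?_, ?_⟩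
        · intro r hr
          rcases mA r hr with rfl | rfl <;> simp
        · intro r hr
          rcases mB r hr with rfl | rfl <;> simp
        · intro r hr; exact absurd hr List.not_mem_nil
      · refine ⟨Pi.evalAddMonoidHom (fun _ : Fin 3 => ℤ) 1, ?_, ?_⟩
        · intro r hr
          rcases mB r hr with rfl | rfl <;> simp
        · intro r hr; exact absurd hr List.not_mem_nil
    refine S.pcase R hodd N.xx ?_ hS hN ?_ (a := q) ?_ (Or.inl h8) h1
    · ext v
      constructor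
      · rintro ⟨hv, hv0, k, hk, hk0⟩
        have h2 := cov1 v (mem_list LA' LA_sr LA_rf hv) hv0 ⟨k, fun h => hk ((hJl k).2 h), hk0⟩
        rcases h2 with h2 | h2
        · left; left; simpa using h2
        · left; right; exact h2
      · rintro ((hv | hv) | hv)
        · have h2 : v = ![0, 1, 0] ∨ v = ![1, 1, 0] := by simpa using hv
          rcases h2 with rfl | rfl <;>
            exact ⟨hrt _ (by decide), by intro k; fin_cases k <;> decide, 1, by rw [hJ]; decide, by decide⟩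
        · have h2 : v = ![1, 1, 1] ∨ v = ![0, 1, 1] := by simpa using hv
          rcases h2 with rfl | rfl <;>
            exact ⟨hrt _ (by decide), by intro k; fin_cases k <;> decide, 1, by rw [hJ]; decide, by decide⟩
        · exact absurd hv List.not_mem_nil
    · refine closed_of M4 M6 S.rA ?_
      intro r hr s hs
      have h2 : r = ![0, 1, 0] ∨ r = ![1, 1, 0] := by simpa using hr
      have h3 : s = ![0, 1, 0] ∨ s = ![1, 1, 0] := by simpa using hs
      rcases h2 with rfl | rfl <;> rcases h3 with rfl | rfl <;> decide +kernel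
    · rw [Finset.prod_pair (by decide), card_all R hq (hrt _ (by decide)), card_all R hq (hrt _ (by decide)), pow_two]
  · -- the flip
    by_cases hno : Obs p x
    · exact Or.inl hno
    right
    have h2' : σ 2 = 0 := by rw [← h0, H.σσ]
    have hσe : σ = ![2, 1, 0] := by
      funext k
      fin_cases k
      · exact h0
      · exact h1'
      · exact h2'
    have hσA : ∀ i j, AA 3 (σ i) (σ j) = AA 3 i j := by
      rw [hσe]
      decide
    have hJl : ∀ k, k ∈ J ↔ k ∈ [(1 : Fin 3)] := by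
      intro k
      rw [hJ]
      simp
    have hm : ∀ v ∈ LA, (X v).map x.toMonoidHom = X (wl (AA 3) [1] (v ∘ σ)) := fun v hv => by
      rw [map_root_sigma H hσA (hrt v hv), rep_wl H hJl]
    rw [hσe] at hm
    have hθ : (X ![1, 1, 1]).map x.toMonoidHom = X ![1, 1, 1] := by
      rw [hm _ (by decide)]; congr 1; decide +kernel
    have hAθ : A2 cs (isCartan 3) ![1, 1, 1] (-sr 0) := by
      have h3 : A2 cs (isCartan 3) (sr 0) ![0, 1, 1] := by
        refine (sl M4 M6).a2 (isRoot_sr cs _ 0) (hrt _ (by decide)) ?_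
        rw [SimplyLaced.cpr_eq_sum cs _ M4 M6 _ (hrt _ (by decide))]
        decide +kernel
      have h4 := a2_rot h3
      have h5 : (sr 0 + ![0, 1, 1] : Fin 3 → ℤ) = ![1, 1, 1] := by decide +kernel
      rwa [h5] at h4
    have hinv := inv_of_not_obs R hodd N.xx hAθ hθ (x_neg H (hrt _ (by decide)) (hrt _ (by decide)) hθ) hno
    have S : Sets cs (isCartan 3) X p x (({![1, 0, 0], ![1, 1, 0]} : Finset (Fin 3 → ℤ)) : Set (Fin 3 → ℤ))
        {v | v ∈ [![0, 1, 1], ![0, 0, 1]]} {v | v ∈ [![1, 1, 1]]} := by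
      have mA : ∀ r, r ∈ (({![1, 0, 0], ![1, 1, 0]} : Finset (Fin 3 → ℤ)) : Set (Fin 3 → ℤ)) →
          r = ![1, 0, 0] ∨ r = ![1, 1, 0] := fun r hr => by simpa using hr
      have mB : ∀ r, r ∈ {v : Fin 3 → ℤ | v ∈ [![0, 1, 1], ![0, 0, 1]]} → r = ![0, 1, 1] ∨ r = ![0, 0, 1] :=
        fun r hr => by simpa using hr
      have mZ : ∀ r, r ∈ {v : Fin 3 → ℤ | v ∈ [![1, 1, 1]]} → r = ![1, 1, 1] :=
        fun r hr => by simpa using hr
      refine ⟨?_, ?_, ?_, ?_, ?_, ?_, ?_, ?_, ?_, ?_, ?_, ?_, ?_, ?_⟩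
      · intro r hr
        rcases mA r hr with rfl | rfl <;> exact hrt _ (by decide)
      · intro r hr
        rcases mB r hr with rfl | rfl <;> exact hrt _ (by decide)
      · intro r hr; rw [mZ r hr]; exact hrt _ (by decide)
      · intro r hr
        rcases mA r hr with rfl | rfl
        · exact ⟨![0, 1, 1], by simp, by rw [hm _ (by decide)]; congr 1; decide +kernel⟩
        · exact ⟨![0, 0, 1], by simp, by rw [hm _ (by decide)]; congr 1; decide +kernel⟩
      · intro r hr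
        rcases mB r hr with rfl | rfl
        · exact ⟨![1, 0, 0], by simp, by rw [hm _ (by decide)]; congr 1; decide +kernel⟩
        · exact ⟨![1, 1, 0], by simp, by rw [hm _ (by decide)]; congr 1; decide +kernel⟩
      · intro r hr s hs
        rcases mA r hr with rfl | rfl <;> rcases mA s hs with rfl | rfl <;>
          exact hcm (by decide) (by decide) (by decide +kernel)
      · intro r hr s hs
        rw [mZ r hr, mZ s hs]
        exact hcm (by decide) (by decide) (by decide +kernel)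
      · intro r hr s hs
        rw [mZ s hs]
        rcases mA r hr with rfl | rfl <;> exact hcm (by decide) (by decide) (by decide +kernel)
      · intro r hr s hs
        rw [mZ s hs]
        rcases mB r hr with rfl | rfl <;> exact hcm (by decide) (by decide) (by decide +kernel)
      · intro r hr s hs a ha b hb
        have hle : X ![1, 1, 1] ≤ Sup X {v | v ∈ [![1, 1, 1]]} := le_Sup (by simp)
        rcases mA r hr with rfl | rfl <;> rcases mB s hs with rfl | rfl
        · obtain ⟨z, hz, e⟩ := com_pair R M4 M6 (hrt _ (by decide)) (hrt _ (by decide)) (by decide +kernel)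
            (t := ![1, 1, 1]) (by decide +kernel) ha hb
          exact ⟨z, hle hz, e⟩
        · exact ⟨1, one_mem _, by rw [mul_one]; exact (hcm (by decide) (by decide) (by decide +kernel) a ha b hb).symm⟩
        · exact ⟨1, one_mem _, by rw [mul_one]; exact (hcm (by decide) (by decide) (by decide +kernel) a ha b hb).symm⟩
        · obtain ⟨z, hz, e⟩ := com_pair R M4 M6 (hrt _ (by decide)) (hrt _ (by decide)) (by decide +kernel)
            (t := ![1, 1, 1]) (by decide +kernel) ha hb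
          exact ⟨z, hle hz, e⟩
      · intro r hr
        rw [mZ r hr]; exact hinv
      · intro r hr
        rcases mA r hr with rfl | rfl <;> exact exp_all R hexp (hrt _ (by decide))
      · refine ⟨Pi.evalAddMonoidHom (fun _ : Fin 3 => ℤ) 0 - 2 • Pi.evalAddMonoidHom (fun _ : Fin 3 => ℤ) 2, ?_, ?_, ?_⟩
        · intro r hr
          rcases mA r hr with rfl | rfl <;> simp
        · intro r hr
          rcases mB r hr with rfl | rfl <;> simp
        · intro r hr
          rw [mZ r hr]; simp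
      · refine ⟨Pi.evalAddMonoidHom (fun _ : Fin 3 => ℤ) 2 - 2 • Pi.evalAddMonoidHom (fun _ : Fin 3 => ℤ) 0, ?_, ?_⟩
        · intro r hr
          rcases mB r hr with rfl | rfl <;> simp
        · intro r hr
          rw [mZ r hr]; simp
    refine S.pcase R hodd N.xx ?_ hS hN ?_ (a := q) ?_ (Or.inl h8) h1
    · ext v
      constructor
      · rintro ⟨hv, hv0, k, hk, hk0⟩
        have h2 := cov2 v (mem_list LA' LA_sr LA_rf hv) hv0 ⟨k, fun h => hk ((hJl k).2 h), hk0⟩
        rcases h2 with h2 | h2 | h2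
        · left; left; simpa using h2
        · left; right; exact h2
        · right; exact h2
      · rintro ((hv | hv) | hv)
        · have h2 : v = ![1, 0, 0] ∨ v = ![1, 1, 0] := by simpa using hv
          rcases h2 with rfl | rfl <;>
            exact ⟨hrt _ (by decide), by intro k; fin_cases k <;> decide, 0, by rw [hJ]; decide, by decide⟩
        · have h2 : v = ![0, 1, 1] ∨ v = ![0, 0, 1] := by simpa using hv
          rcases h2 with rfl | rfl <;>
            exact ⟨hrt _ (by decide), by intro k; fin_cases k <;> decide, 2, by rw [hJ]; decide, by decide⟩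
        · have h2 : v = ![1, 1, 1] := by simpa using hv
          rw [h2]
          exact ⟨hrt _ (by decide), by intro k; fin_cases k <;> decide, 2, by rw [hJ]; decide, by decide⟩
    · refine closed_of M4 M6 S.rA ?_
      intro r hr s hs
      have h2 : r = ![1, 0, 0] ∨ r = ![1, 1, 0] := by simpa using hr
      have h3 : s = ![1, 0, 0] ∨ s = ![1, 1, 0] := by simpa using hs
      rcases h2 with rfl | rfl <;> rcases h3 with rfl | rfl <;> decide +kernel
    · rw [Finset.prod_pair (by decide), card_all R hq (hrt _ (by decide)), card_all R hq (hrt _ (by decide)), pow_two]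

end A3

/-! ### `D₄` -/

section D4

open Cfsg.Agent.Nodes.TypeD (M_apply)

/-- the positive roots of `D₄` -/
def LD : List (Fin 4 → ℤ) := [![1, 2, 1, 1], ![1, 1, 1, 1], ![1, 1, 1, 0], ![1, 1, 0, 1], ![0, 1, 1, 1], ![1, 1, 0, 0],
  ![0, 1, 1, 0], ![0, 1, 0, 1], ![1, 0, 0, 0], ![0, 1, 0, 0], ![0, 0, 1, 0], ![0, 0, 0, 1]]

def LD' : List (Fin 4 → ℤ) := LD ++ LD.map fun v => -v

def SAl : List (Fin 4 → ℤ) := [![1, 1, 0, 0], ![1, 1, 1, 0], ![1, 1, 0, 1], ![1, 1, 1, 1]]
def SBl : List (Fin 4 → ℤ) := [![0, 1, 1, 1], ![0, 1, 0, 1], ![0, 1, 1, 0], ![0, 1, 0, 0]]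
def SZl : List (Fin 4 → ℤ) := [![1, 2, 1, 1]]

theorem LD_chk : chkR (TypeD.A 2) LD = true := by decide +kernel
theorem LD_sr : ∀ i, sr i ∈ LD' := by decide +kernel
theorem LD_rf : ∀ v ∈ LD', ∀ i, rf (TypeD.A 2) i v ∈ LD' := by decide +kernel
theorem MD4 : ∀ i j, TypeD.M 2 i j ≠ 4 := by
  intro i j
  rw [M_apply]
  split_ifs <;> decide
theorem MD6 : ∀ i j, TypeD.M 2 i j ≠ 6 := by
  intro i j
  rw [M_apply]
  split_ifs <;> decide

theorem covD : ∀ v ∈ LD', (∀ k, 0 ≤ v k) → (∃ k : Fin 4, k ∉ [(0 : Fin 4), 2, 3] ∧ 0 < v k) →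
    v ∈ SAl ∨ v ∈ SBl ∨ v ∈ SZl := by decide +kernel
theorem covD' : ∀ v, (v ∈ SAl ∨ v ∈ SBl ∨ v ∈ SZl) → v ∈ LD ∧ (∀ k, 0 ≤ v k) ∧ 0 < v 1 := by
  have h1 : ∀ v ∈ SAl ++ SBl ++ SZl, v ∈ LD ∧ (∀ k, 0 ≤ v k) ∧ 0 < v 1 := by decide +kernel
  intro v hv
  refine h1 v ?_
  rw [List.mem_append, List.mem_append]
  tauto
theorem mapD : ∀ v ∈ SAl, wl (TypeD.A 2) [0, 2, 3] v ∈ SBl := by decide +kernel
theorem mapD' : ∀ v ∈ SBl, wl (TypeD.A 2) [0, 2, 3] v ∈ SAl ∧
    wl (TypeD.A 2) [0, 2, 3] (wl (TypeD.A 2) [0, 2, 3] v) = v := by decide +kernel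
theorem BAA : ∀ r ∈ SAl, ∀ s ∈ SAl, 0 ≤ Bf (TypeD.A 2) r s := by decide +kernel
theorem BZZ : ∀ r ∈ SZl, ∀ s ∈ SZl, 0 ≤ Bf (TypeD.A 2) r s := by decide +kernel
theorem BAZ : ∀ r ∈ SAl, ∀ s ∈ SZl, 0 ≤ Bf (TypeD.A 2) r s := by decide +kernel
theorem BBZ : ∀ r ∈ SBl, ∀ s ∈ SZl, 0 ≤ Bf (TypeD.A 2) r s := by decide +kernel
theorem BAB : ∀ r ∈ SAl, ∀ s ∈ SBl, 0 ≤ Bf (TypeD.A 2) r s ∨ (Bf (TypeD.A 2) r s = -1 ∧ r + s = ![1, 2, 1, 1]) := by
  decide +kernel
theorem fAD : (∀ v ∈ SAl, 0 < 3 * v 0 - 2 * v 1) ∧ (∀ v ∈ SBl, 3 * v 0 - 2 * v 1 < 0) ∧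
    ∀ v ∈ SZl, 3 * v 0 - 2 * v 1 < 0 := by decide +kernel
theorem fBD : (∀ v ∈ SBl, 0 < v 1 - 3 * v 0) ∧ ∀ v ∈ SZl, v 1 - 3 * v 0 < 0 := by decide +kernel

variable {W K : Type*} [Group W] [Finite W] [Group K] [Finite K] {cs : CoxeterSystem (TypeD.M 2) W} {p : ℕ}
  {T : Subgroup K} {nn : Fin 4 → K} {X : (Fin 4 → ℤ) → Subgroup K} {x d : MulAut K} {φ : W ≃* W}
  {σ : Fin 4 → Fin 4} {J : Set (Fin 4)} {g : K} [Fact p.Prime]

/-- **The diagram `D₄`.** -/
theorem p_D4 (N : NF cs (TypeD.isCartan 2) p T nn X x d φ σ J g) (hodd : Odd p) {q : ℕ}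
    (hq : ∀ i, Nat.card (X (sr i)) = q) (hexp : ∀ i, ∀ u ∈ X (sr i), u ^ p = 1) (h2 : Odd q) (h1 : 1 < q)
    (hS : Syl p x (VJ cs (TypeD.isCartan 2) X J)) (hN : NoO p x) : Obs p x ∨ PCase p x := by
  have := Fintype.ofFinite W
  have H := N.nx
  have R := N.rgd
  by_cases hno : Obs p x
  · exact Or.inl hno
  right
  have hA : ∀ i j : Fin 4, i ≠ 1 → j ≠ 1 → i ≠ j → TypeD.A 2 i j = 0 := by decide +kernel
  have hA1 : ∀ i : Fin 4, i ≠ 1 → TypeD.A 2 i 1 = -1 ∧ TypeD.A 2 1 i = -1 := by decide +kernel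
  have hI : ∀ k : Fin 4, k = 1 ∨ k = 0 ∨ k = 2 ∨ k = 3 := by decide
  have hAk : ∀ i : Fin 4, i ≠ 1 → A2 cs (TypeD.isCartan 2) (sr 1) (sr i) := fun i hi =>
    a2_simple cs (TypeD.isCartan 2) hi.symm (hA1 i hi).2 (hA1 i hi).1
  have hab : ∀ i, ∀ a ∈ X (sr i), ∀ b ∈ X (sr i), a * b = b * a := by
    intro i
    by_cases hi : i = 1
    · rw [hi]; exact comm_of_A2 R (hAk 0 (by decide))
    · exact comm_of_A2 R (hAk i hi).symm
  have hrt : ∀ v ∈ LD, IsRoot cs (TypeD.isCartan 2) v := isRoot_list LD_chk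
  have hrt' : ∀ v, (v ∈ SAl ∨ v ∈ SBl ∨ v ∈ SZl) → IsRoot cs (TypeD.isCartan 2) v := fun v hv => hrt v (covD' v hv).1
  have hcm : ∀ {r s : Fin 4 → ℤ}, (r ∈ SAl ∨ r ∈ SBl ∨ r ∈ SZl) → (s ∈ SAl ∨ s ∈ SBl ∨ s ∈ SZl) →
      0 ≤ Bf (TypeD.A 2) r s → ∀ a ∈ X r, ∀ b ∈ X s, a * b = b * a :=
    fun {r s} hr hs hB => comm_pair R MD4 MD6 hab (hrt' r hr) (hrt' s hs) hB
  rcases row_D4 hodd N (o := 1) (a := 0) (b := 2) (c := 3) hI (hA1 0 (by decide)).2 (hA1 0 (by decide)).1
    (hA1 2 (by decide)).2 (hA1 2 (by decide)).1 (hA1 3 (by decide)).2 (hA1 3 (by decide)).1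
    (hA 0 2 (by decide) (by decide) (by decide)) (hA 0 3 (by decide) (by decide) (by decide))
    (hA 2 3 (by decide) (by decide) (by decide)) with h | ⟨hσ, hJ⟩
  · exact absurd h hno
  have hJl : ∀ k, k ∈ J ↔ k ∈ [(0 : Fin 4), 2, 3] := by
    intro k
    rw [hJ]
    simp
  have hm : ∀ v ∈ LD, (X v).map x.toMonoidHom = X (wl (TypeD.A 2) [0, 2, 3] v) := fun v hv => by
    rw [TypeI.map_root H hσ (hrt v hv), rep_wl H hJl]
  have hθ : (X ![1, 2, 1, 1]).map x.toMonoidHom = X ![1, 2, 1, 1] := by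
    rw [hm _ (by decide)]; congr 1; decide +kernel
  have hAθ : A2 cs (TypeD.isCartan 2) ![1, 2, 1, 1] (-sr 1) := by
    have h3 : A2 cs (TypeD.isCartan 2) (sr 1) ![1, 1, 1, 1] := by
      refine (sl MD4 MD6).a2 (isRoot_sr cs _ 1) (hrt _ (by decide)) ?_
      rw [SimplyLaced.cpr_eq_sum cs _ MD4 MD6 _ (hrt _ (by decide))]
      decide +kernel
    have h4 := a2_rot h3
    have h5 : (sr 1 + ![1, 1, 1, 1] : Fin 4 → ℤ) = ![1, 2, 1, 1] := by decide +kernel
    rwa [h5] at h4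
  have hinv := inv_of_not_obs R hodd N.xx hAθ hθ (x_neg H (hrt _ (by decide)) (hrt _ (by decide)) hθ) hno
  have S : Sets cs (TypeD.isCartan 2) X p x ((SAl.toFinset : Finset (Fin 4 → ℤ)) : Set (Fin 4 → ℤ))
      {v | v ∈ SBl} {v | v ∈ SZl} := by
    have mA : ∀ r, r ∈ ((SAl.toFinset : Finset (Fin 4 → ℤ)) : Set (Fin 4 → ℤ)) → r ∈ SAl :=
      fun r hr => by simpa using hr
    refine ⟨?_, ?_, ?_, ?_, ?_, ?_, ?_, ?_, ?_, ?_, ?_, ?_, ?_, ?_⟩
    · exact fun r hr => hrt' r (Or.inl (mA r hr))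
    · exact fun r hr => hrt' r (Or.inr (Or.inl hr))
    · exact fun r hr => hrt' r (Or.inr (Or.inr hr))
    · intro r hr
      exact ⟨_, mapD r (mA r hr), hm r (covD' r (Or.inl (mA r hr))).1⟩
    · intro s hs
      obtain ⟨h3, h4⟩ := mapD' s hs
      exact ⟨_, by simpa using h3, by rw [hm _ (covD' _ (Or.inl h3)).1, h4]⟩
    · intro r hr s hs
      exact hcm (Or.inl (mA r hr)) (Or.inl (mA s hs)) (BAA r (mA r hr) s (mA s hs))
    · intro r hr s hs
      exact hcm (Or.inr (Or.inr hr)) (Or.inr (Or.inr hs)) (BZZ r hr s hs)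
    · intro r hr s hs
      exact hcm (Or.inl (mA r hr)) (Or.inr (Or.inr hs)) (BAZ r (mA r hr) s hs)
    · intro r hr s hs
      exact hcm (Or.inr (Or.inl hr)) (Or.inr (Or.inr hs)) (BBZ r hr s hs)
    · intro r hr s hs a ha b hb
      have hle : X ![1, 2, 1, 1] ≤ Sup X {v | v ∈ SZl} := le_Sup (by simp [SZl])
      rcases BAB r (mA r hr) s hs with h3 | ⟨h3, h4⟩
      · exact ⟨1, one_mem _, by
          rw [mul_one]; exact (hcm (Or.inl (mA r hr)) (Or.inr (Or.inl hs)) h3 a ha b hb).symm⟩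
      · obtain ⟨z, hz, e⟩ := com_pair R MD4 MD6 (hrt' r (Or.inl (mA r hr))) (hrt' s (Or.inr (Or.inl hs))) h3 h4 ha hb
        exact ⟨z, hle hz, e⟩
    · intro r hr
      have h3 : r = ![1, 2, 1, 1] := by simpa [SZl] using hr
      rw [h3]; exact hinv
    · intro r hr
      exact exp_all R hexp (hrt' r (Or.inl (mA r hr)))
    · refine ⟨3 • Pi.evalAddMonoidHom (fun _ : Fin 4 => ℤ) 0 - 2 • Pi.evalAddMonoidHom (fun _ : Fin 4 => ℤ) 1, ?_, ?_, ?_⟩
      · intro r hr
        simpa using fAD.1 r (mA r hr)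
      · intro r hr
        simpa using fAD.2.1 r hr
      · intro r hr
        simpa using fAD.2.2 r hr
    · refine ⟨Pi.evalAddMonoidHom (fun _ : Fin 4 => ℤ) 1 - 3 • Pi.evalAddMonoidHom (fun _ : Fin 4 => ℤ) 0, ?_, ?_⟩
      · intro r hr
        simpa using fBD.1 r hr
      · intro r hr
        simpa using fBD.2 r hr
  refine S.pcase R hodd N.xx ?_ hS hN ?_ (a := q ^ 2) ?_ (Or.inl ?_) ?_
  · ext v
    constructor
    · rintro ⟨hv, hv0, k, hk, hk0⟩
      rcases covD v (mem_list LD' LD_sr LD_rf hv) hv0 ⟨k, fun h => hk ((hJl k).2 h), hk0⟩ with h2 | h2 | h2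
      · left; left; simpa using h2
      · left; right; exact h2
      · right; exact h2
    · intro hv
      have h3 : v ∈ SAl ∨ v ∈ SBl ∨ v ∈ SZl := by
        rcases hv with (hv | hv) | hv
        · left; simpa using hv
        · right; left; exact hv
        · right; right; exact hv
      obtain ⟨h4, h5, h6⟩ := covD' v h3
      exact ⟨hrt v h4, h5, 1, by rw [hJ]; decide, h6⟩
  · refine closed_of MD4 MD6 S.rA ?_
    intro r hr s hs
    exact BAA r (by simpa using hr) s (by simpa using hs)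
  · rw [Finset.prod_congr rfl fun r hr => card_all R hq (hrt' r (Or.inl (by simpa using hr))), Finset.prod_const]
    have h3 : SAl.toFinset.card = 4 := by decide +kernel
    rw [h3]; ring
  · obtain ⟨k, rfl⟩ := h2
    have h3 : (2 * k + 1) ^ 2 = 4 * (k * (k + 1)) + 1 := by ring
    obtain ⟨m, hm⟩ := Nat.even_mul_succ_self k
    rw [h3, show k * (k + 1) = k * k.succ from rfl, hm]
    omega
  · nlinarith

end D4

end Cfsg.Agent.H286.PADE
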