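import Cfsg.Agent.H286.TypeII
import Cfsg.Agent.H286.PADE
import Cfsg.Agent.UGT.U2.FOne.LongCls

/-!
# `PCase` for `U₄(q)`
-/

set_option autoImplicit false
set_option linter.unusedSectionVars false

namespace Cfsg.Agent.H286.PU4

open CoxeterSystem Cfsg.Agent.ChevalleyStructure.CoxeterGeom Cfsg.Agent.Tits.Roots Cfsg.Agent.Tits.Core
  Cfsg.Agent.Tits.RootComb Cfsg.Agent.Tits.Exchange Cfsg.Agent.Nodes.Comb Cfsg.Agent.Nodes.Reps
  Cfsg.Agent.Nodes.BNOf Cfsg.Agent.Nodes.RGDLib Cfsg.Agent.Nodes.Bruhat Cfsg.Agent.Nodes.StabComb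
  Cfsg.Agent.Nodes.OppDec Cfsg.Agent.Nodes.Coroot Cfsg.Agent.KFacts.RgdSL Cfsg.Agent.UGT.U2.FOne
  Cfsg.Agent.H286.Obs Cfsg.Agent.H286.RootObs Cfsg.Agent.H286.Comb Cfsg.Agent.H286.Chain Cfsg.Agent.H286.Row
  Cfsg.Agent.H286.PSplit Cfsg.Agent.H286.PSets Cfsg.Agent.H286.RowsA Cfsg.Agent.Nodes.LeviDec
  Cfsg.Agent.H286.PADE Cfsg.Agent.H286.NatB Cfsg.Agent.H286.SqObs Cfsg.Agent.Nodes.Chart
  Cfsg.Agent.Nodes.Perp Cfsg.Agent.Nodes.ShortSum
open Cfsg.Agent.Nodes.BNOf.RGD (Sup le_Sup Sup_le Sup_mono)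
open Cfsg.Agent.Nodes
open scoped commutatorElement


section Gen

variable {I W K : Type*} [Fintype I] [DecidableEq I] [Group W] [Fintype W] [Group K] {M : CoxeterMatrix I}
  {cs : CoxeterSystem M W} {A : I → I → ℤ} {h : IsCartan M A} {p : ℕ} {T : Subgroup K} {n : I → K}
  {X : (I → ℤ) → Subgroup K} {R : Set (I → ℤ)} {Z : (I → ℤ) → Subgroup K} {z : (I → ℤ) → K}

/-- the rank one group has at most one involution -/
def UInv (X : (I → ℤ) → Subgroup K) (r : I → ℤ) : Prop :=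
  ∀ w ∈ X r ⊔ X (-r), ∀ w' ∈ X r ⊔ X (-r), w * w = 1 → w ≠ 1 → w' * w' = 1 → w' ≠ 1 → w = w'

theorem UInv.of_sl {F : Type*} [Field F] (h2 : (2 : F) ≠ 0) {r : I → ℤ}
    (e : ↥(X r ⊔ X (-r)) ≃* Matrix.SpecialLinearGroup (Fin 2) F) : UInv X r := by
  have key : ∀ w (hw : w ∈ X r ⊔ X (-r)), w * w = 1 → w ≠ 1 → e ⟨w, hw⟩ = -1 := by
    intro w hw h3 h4
    have h5 : e ⟨w, hw⟩ * e ⟨w, hw⟩ = 1 := by
      rw [← map_mul]
      have : (⟨w, hw⟩ * ⟨w, hw⟩ : ↥(X r ⊔ X (-r))) = 1 := Subtype.ext h3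
      rw [this, map_one]
    rcases Cfsg.Agent.Lib.PSL2Inv.sq_eq_one h2 h5 with h6 | h6
    · exfalso
      have h7 : (⟨w, hw⟩ : ↥(X r ⊔ X (-r))) = 1 := e.injective (by rw [h6, map_one])
      exact h4 (congrArg Subtype.val h7)
    · exact h6
  intro w hw w' hw' h3 h4 h5 h6
  have h7 : e ⟨w, hw⟩ = e ⟨w', hw'⟩ := by rw [key w hw h3 h4, key w' hw' h5 h6]
  exact congrArg Subtype.val (e.injective h7)

theorem UInv.of_isSL2 {q : ℕ} {r : I → ℤ} (hs : IsSL2 q (RA X r)) : UInv X r := by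
  obtain ⟨F, i1, i2, h1, h2, ⟨e⟩⟩ := hs
  have := Fintype.ofFinite F
  have h3 : Odd (Fintype.card F) := by rw [← Nat.card_eq_fintype_card, h1]; exact h2
  exact UInv.of_sl (Cfsg.Agent.OddHalf.LongSL.two_ne_of_odd h3) e

theorem UInv.neg {r : I → ℤ} (hU : UInv X r) : UInv X (-r) := by
  unfold UInv at hU ⊢
  rw [neg_neg, sup_comm]
  exact hU

theorem UInv.act (R : RGD cs h p T n X) {r : I → ℤ} (hr : IsRoot cs h r) (hU : UInv X r) (w : W) :
    UInv X (rep cs h w r) := by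
  obtain ⟨k, hk⟩ := exists_rp cs R.nsys w
  have e : X (rep cs h w r) ⊔ X (-rep cs h w r) = cj k (X r ⊔ X (-r)) := by
    rw [cj_sup, R.conj_rp hk hr, R.conj_rp hk hr.neg, map_neg]
  unfold UInv
  rw [e]
  intro w hw w' hw' h3 h4 h5 h6
  rw [mem_cj] at hw hw'
  have h7 := hU _ hw _ hw' (by
      have e1 : k⁻¹ * w * k * (k⁻¹ * w * k) = k⁻¹ * (w * w) * k := by group
      rw [e1, h3]; group)
    (fun h0 => h4 (by
      have : w = k * (k⁻¹ * w * k) * k⁻¹ := by group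
      rw [this, h0]; group))
    (by
      have e1 : k⁻¹ * w' * k * (k⁻¹ * w' * k) = k⁻¹ * (w' * w') * k := by group
      rw [e1, h5]; group)
    (fun h0 => h6 (by
      have : w' = k * (k⁻¹ * w' * k) * k⁻¹ := by group
      rw [this, h0]; group))
  calc w = k * (k⁻¹ * w * k) * k⁻¹ := by group
    _ = k * (k⁻¹ * w' * k) * k⁻¹ := by rw [h7]
    _ = w' := by group

theorem mem3 {A B Z : Subgroup K} (cAZ : ∀ a ∈ A, ∀ z ∈ Z, a * z = z * a) (cBZ : ∀ a ∈ B, ∀ z ∈ Z, a * z = z * a)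
    (com : ∀ a ∈ A, ∀ b ∈ B, ∃ z ∈ Z, b * a = a * b * z) {v : K} (hv : v ∈ A ⊔ B ⊔ Z) :
    ∃ a ∈ A, ∃ b ∈ B, ∃ z ∈ Z, v = a * b * z := by
  have hAB : ∀ v ∈ A ⊔ B ⊔ Z, ∃ a ∈ A, ∃ b ∈ B, ∃ z ∈ Z, v = a * b * z := by
    intro v hv
    have h1 : A ⊔ B ⊔ Z = Subgroup.closure ((A : Set K) ∪ B ∪ Z) := by
      rw [Subgroup.closure_union, Subgroup.closure_union, Subgroup.closure_eq, Subgroup.closure_eq,
        Subgroup.closure_eq]
    rw [h1] at hv
    induction hv using Subgroup.closure_induction with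
    | mem v hv =>
      rcases hv with (hv | hv) | hv
      · exact ⟨v, hv, 1, one_mem _, 1, one_mem _, by group⟩
      · exact ⟨1, one_mem _, v, hv, 1, one_mem _, by group⟩
      · exact ⟨1, one_mem _, 1, one_mem _, v, hv, by group⟩
    | one => exact ⟨1, one_mem _, 1, one_mem _, 1, one_mem _, by group⟩
    | mul u v _ _ hu hv =>
      obtain ⟨a, ha, b, hb, z, hz, rfl⟩ := hu
      obtain ⟨a', ha', b', hb', z', hz', rfl⟩ := hv
      obtain ⟨w, hw, e⟩ := com a' ha' b hb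
      refine ⟨a * a', mul_mem ha ha', b * b', mul_mem hb hb', w * z * z', mul_mem (mul_mem hw hz) hz', ?_⟩
      have e1 := cAZ a' ha' z hz
      have e2 := cBZ b' hb' z hz
      have e3 := cBZ b' hb' w hw
      calc a * b * z * (a' * b' * z') = a * b * (z * a') * b' * z' := by group
        _ = a * (b * a') * (z * b') * z' := by rw [← e1]; group
        _ = a * a' * b * (w * b') * z * z' := by rw [e, ← e2]; group
        _ = a * a' * (b * b') * (w * z * z') := by rw [← e3]; group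
    | inv u _ hu =>
      obtain ⟨a, ha, b, hb, z, hz, rfl⟩ := hu
      obtain ⟨w, hw, e⟩ := com a⁻¹ (inv_mem ha) b⁻¹ (inv_mem hb)
      refine ⟨a⁻¹, inv_mem ha, b⁻¹, inv_mem hb, w * z⁻¹, mul_mem hw (inv_mem hz), ?_⟩
      have e1 := cAZ a⁻¹ (inv_mem ha) z⁻¹ (inv_mem hz)
      have e2 := cBZ b⁻¹ (inv_mem hb) z⁻¹ (inv_mem hz)
      calc (a * b * z)⁻¹ = (z⁻¹ * b⁻¹) * a⁻¹ := by group
        _ = b⁻¹ * (z⁻¹ * a⁻¹) := by rw [← e2]; group
        _ = (b⁻¹ * a⁻¹) * z⁻¹ := by rw [← e1]; group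
        _ = _ := by rw [e]; group
  exact hAB v hv

variable (C : Cls cs h p T n X R Z z)

include C

/-- **A fixed element in a long root group.** -/
theorem obs_long [Finite K] {r : I → ℤ} (hr : IsRoot cs h r) (hU : UInv X r) {x : MulAut K}
    (xr : (X r).map x.toMonoidHom = X r) (xr' : (X (-r)).map x.toMonoidHom = X (-r)) {u : K} (hu : u ∈ X r)
    (hu1 : u ≠ 1) (hxu : x u = u) : Obs p x := by
  obtain ⟨a, ha, b, hb, w, hw, hwi, ew⟩ := MuSq.exists_mu' C.rgd hr hu hu1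
  obtain ⟨hxa, hxb⟩ := fix_mu C.rgd hr xr xr' ha hb ew hw rfl hxu
  have hE : Even (orderOf (a * u * b)) := even_refl C hr ew hw
  obtain ⟨k, h1, h2⟩ := exists_inv hE
  have hm : a * u * b ∈ X r ⊔ X (-r) :=
    mul_mem (mul_mem (le_sup_right (a := X r) ha) (le_sup_left (b := X (-r)) hu)) (le_sup_right (a := X r) hb)
  have hc : ∀ g ∈ X r ⊔ X (-r), Commute g ((a * u * b) ^ k) := by
    intro g hg
    have h3 := hU (g * (a * u * b) ^ k * g⁻¹) (mul_mem (mul_mem hg (pow_mem hm k)) (inv_mem hg)) _ (pow_mem hm k)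
      (by calc g * (a * u * b) ^ k * g⁻¹ * (g * (a * u * b) ^ k * g⁻¹) =
            g * ((a * u * b) ^ k * (a * u * b) ^ k) * g⁻¹ := by group
          _ = 1 := by rw [h1]; group)
      (fun h0 => h2 (conj_eq_one_iff.1 h0)) h1 h2
    exact mul_inv_eq_iff_eq_mul.1 h3
  have h3 : orderOf ((a * u * b) ^ k) = 2 := orderOf_eq_prime (by rw [pow_two, h1]) h2
  refine obs_of_central (S := {a, u, b}) ?_ (t := (a * u * b) ^ k) ?_ ?_ (by rw [h3]; exact even_two)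
  · rintro g (rfl | rfl | rfl)
    · exact ⟨hxa, pe_of_mem C.rgd hr.neg ha⟩
    · exact ⟨hxu, pe_of_mem C.rgd hr hu⟩
    · exact ⟨hxb, pe_of_mem C.rgd hr.neg hb⟩
  · exact pow_mem (mul_mem (mul_mem (Subgroup.subset_closure (by simp)) (Subgroup.subset_closure (by simp)))
        (Subgroup.subset_closure (by simp))) k
  · rintro g (rfl | rfl | rfl)
    · exact hc _ (le_sup_right (a := X r) ha)
    · exact hc _ (le_sup_left (b := X (-r)) hu)
    · exact hc _ (le_sup_right (a := X r) hb)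

/-- fixed elements of orthogonal short root groups commute -/
theorem fixed_comm (hodd : Odd p) {x : MulAut K} {r s c b : I → ℤ} (S : Sq cs h 1 r s c b)
    (hi : ∀ w ∈ X c, x w = w⁻¹) {u v : K} (hu : u ∈ X r) (hv : v ∈ X s) (hxu : x u = u) (hxv : x v = v) :
    Commute u v := by
  have : ⁅u, v⁆ ∈ X c := MuSq.comm_in C.rgd S.root₁ S.root₂ S.ne₁ S.ne₂ (fun t ht => S.btwn ht) hu hv
  have h1 : x ⁅u, v⁆ = ⁅u, v⁆ := by rw [map_commutatorElement, hxu, hxv]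
  rw [hi _ this] at h1
  have h2 : ⁅u, v⁆ = 1 := by
    refine (pe_of_mem C.rgd S.root this).eq_one hodd ?_
    nth_rewrite 1 [← h1]
    exact inv_mul_cancel _
  exact commutatorElement_eq_one_iff_mul_comm.1 h2

section Sq

variable {x : MulAut K} {y y' c c1 : I → ℤ} (S : Sq cs h 1 y y' c c1) (hc : c ∈ R) (hc1 : c1 ∈ R)

include S

/-- **Fixed elements in both short root groups.** -/
theorem obs_both [Finite K] (hodd : Odd p) (ic : ∀ w ∈ X c, x w = w⁻¹) (ic' : ∀ w ∈ X (-c), x w = w⁻¹)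
    (ic1 : ∀ w ∈ X c1, x w = w⁻¹) (ic1' : ∀ w ∈ X (-c1), x w = w⁻¹)
    (xy : (X y).map x.toMonoidHom = X y) (xyn : (X (-y)).map x.toMonoidHom = X (-y))
    (xy' : (X y').map x.toMonoidHom = X y') (xyn' : (X (-y')).map x.toMonoidHom = X (-y'))
    {u v : K} (hu : u ∈ X y) (hu1 : u ≠ 1) (hxu : x u = u) (hv : v ∈ X y') (hv1 : v ≠ 1) (hxv : x v = v) :
    Obs p x := by
  have S2 : Sq cs h 1 (-y) y' c1 c := S.flip
  have S3 : Sq cs h 1 y (-y') (-c1) (-c) := by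
    refine ⟨S.pos, S.root₁, S.root₂.neg, S.rootb.neg, S.root.neg, by rw [form_neg_right, S.orth, neg_zero],
      by rw [form_neg_left, form_neg_right, neg_neg]; exact S.len, ?_, ?_⟩
    · have := S.sub
      rw [one_smul] at this ⊢
      rw [this]; abel
    · have := S.add
      rw [one_smul] at this ⊢
      rw [this]; abel
  have S4 : Sq cs h 1 (-y) (-y') (-c) (-c1) := S3.flip
  obtain ⟨a, ha, b, hb, w, hw, -, ew⟩ := MuSq.exists_mu' C.rgd S.root₁ hu hu1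
  obtain ⟨hxa, hxb⟩ := fix_mu C.rgd S.root₁ xy xyn ha hb ew hw rfl hxu
  obtain ⟨a', ha', b', hb', w', hw', -, ew'⟩ := MuSq.exists_mu' C.rgd S.root₂ hv hv1
  obtain ⟨hxa', hxb'⟩ := fix_mu C.rgd S.root₂ xy' xyn' ha' hb' ew' hw' rfl hxv
  refine obs_W (S := {a, u, b}) (T := {a', v, b'}) ?_ ?_ ?_ (a := a * u * b) (b := a' * v * b') ?_ ?_
    (even_refl C S.root₁ ew hw) (even_refl C S.root₂ ew' hw')
  · rintro g (rfl | rfl | rfl)
    · exact ⟨hxa, pe_of_mem C.rgd S.root₁.neg ha⟩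
    · exact ⟨hxu, pe_of_mem C.rgd S.root₁ hu⟩
    · exact ⟨hxb, pe_of_mem C.rgd S.root₁.neg hb⟩
  · rintro g (rfl | rfl | rfl)
    · exact ⟨hxa', pe_of_mem C.rgd S.root₂.neg ha'⟩
    · exact ⟨hxv, pe_of_mem C.rgd S.root₂ hv⟩
    · exact ⟨hxb', pe_of_mem C.rgd S.root₂.neg hb'⟩
  · rintro g (rfl | rfl | rfl) g' (rfl | rfl | rfl)
    · exact fixed_comm C hodd S4 ic' ha ha' hxa hxa'
    · exact fixed_comm C hodd S2 ic1 ha hv hxa hxv
    · exact fixed_comm C hodd S4 ic' ha hb' hxa hxb'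
    · exact fixed_comm C hodd S3 ic1' hu ha' hxu hxa'
    · exact fixed_comm C hodd S ic hu hv hxu hxv
    · exact fixed_comm C hodd S3 ic1' hu hb' hxu hxb'
    · exact fixed_comm C hodd S4 ic' hb ha' hxb hxa'
    · exact fixed_comm C hodd S2 ic1 hb hv hxb hxv
    · exact fixed_comm C hodd S4 ic' hb hb' hxb hxb'
  · exact mul_mem (mul_mem (Subgroup.subset_closure (by simp)) (Subgroup.subset_closure (by simp)))
      (Subgroup.subset_closure (by simp))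
  · exact mul_mem (mul_mem (Subgroup.subset_closure (by simp)) (Subgroup.subset_closure (by simp)))
      (Subgroup.subset_closure (by simp))

include hc hc1

/-- an inverted element of `X y` is trivial if `Z c1` and `X y'` are inverted -/
theorem not_one_inv (hp : p.Prime) (hodd : p ≠ 2) (i1 : ∀ w ∈ Z c1, x w = w⁻¹) {u : K} (hu : u ∈ X y) (hu1 : u ≠ 1)
    (iy : x u = u⁻¹) (iy' : ∀ w ∈ X y', x w = w⁻¹) (xc : (X c).map x.toMonoidHom = X c) : False := by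
  have : Fact p.Prime := ⟨hp⟩
  have hodd' : Odd p := hp.odd_of_ne_two hodd
  obtain ⟨hy, -, -, -⟩ := y_c1 C S hc hc1
  obtain ⟨hy', -, -, -⟩ := y'_c1 C S hc hc1
  obtain ⟨w, hw, hw1⟩ := Z_ne_bot' C hc1
  have hw' := C.le c1 hc1 hw
  have orth : form cs h c c1 = 0 := S.xb
  have cc1 : ∀ k ∈ X c, ∀ w ∈ Z c1, k * w = w * k := fun k hk w hw => C.cent c1 hc1 c S.root orth.ge k hk w hw
  have cy' : ∀ k ∈ X y', ∀ w ∈ Z c1, k * w = w * k := fun k hk w hw => C.cent c1 hc1 y' hy'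
    (by rw [form_comm]; exact S.b₂_pos.le) k hk w hw
  -- `X c` and `X y`, `X y'`
  have noc : ∀ t, ¬ Btwn cs h y c t := by
    rintro t ht
    obtain ⟨htr, m, a, b, hm, ha, hb, e⟩ := ht
    have e1 : c = y + y' := by have := S.add; rwa [one_smul] at this
    have h2 : Btwn cs h y y' t := ⟨htr, m, a + b, b, hm, by omega, hb, by rw [e, e1]; module⟩
    have h3 := S.btwn h2
    rw [h3] at e
    -- `m c = a y + b c`
    have h4 : (m - b) • c = a • y := by rw [sub_smul, e]; abel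
    rw [e1] at h4
    have h5 : (a - (m - b)) • y = (m - b) • y' := by
      rw [sub_smul, ← h4]; module
    obtain ⟨h6, h7⟩ := S.ne_smul h5
    omega
  have noc' : ∀ t, ¬ Btwn cs h y' c t := by
    rintro t ht
    obtain ⟨htr, m, a, b, hm, ha, hb, e⟩ := ht
    have e1 : c = y + y' := by have := S.add; rwa [one_smul] at this
    have h2 : Btwn cs h y y' t := ⟨htr, m, b, a + b, hm, hb, by omega, by rw [e, e1]; module⟩
    have h3 := S.btwn h2
    rw [h3] at e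
    have h4 : (m - b) • c = a • y' := by rw [sub_smul, e]; abel
    rw [e1] at h4
    have h5 : (m - b) • y = (a - (m - b)) • y' := by
      rw [sub_smul a, ← h4]; module
    obtain ⟨h6, h7⟩ := S.ne_smul h5
    omega
  have cyc : ∀ k ∈ X c, ∀ w ∈ X y, w * k = k * w := fun k hk w hw =>
    MuSq.comm_one C.rgd hy S.root S.ne_x.1 S.ne_x.2 noc hw hk
  have cy'c : ∀ k ∈ X c, ∀ w ∈ X y', w * k = k * w := fun k hk w hw =>
    MuSq.comm_one C.rgd hy' S.root (y'_c C S hc hc1).2.1 (y'_c C S hc hc1).2.2.1 noc' hw hk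
  -- `⁅u, w⁆ = v k`
  obtain ⟨v, hv, k, hk, huw⟩ := MuSq.comm_two C.rgd hy S.rootb S.ne_b.1 S.ne_b.2 (fun t ht => S.btwn' ht)
    (fun a ha b hb => cy'c b hb a ha) hu hw'
  -- `v = 1`
  have hv1 : v = 1 := by
    have h1 : x ⁅u, w⁆ = ⁅u⁻¹, w⁻¹⁆ := by rw [map_commutatorElement, iy, i1 w hw]
    have h2 : ⁅u⁻¹, w⁻¹⁆ = u⁻¹ * w⁻¹ * ⁅u, w⁆ * (w * u) := by
      rw [commutatorElement_def, commutatorElement_def]; group
    have hxk : x k ∈ X c := by rw [← xc]; exact Subgroup.mem_map_of_mem x.toMonoidHom hk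
    rw [h2, huw, map_mul, iy' v hv] at h1
    -- `v⁻¹ x(k) = u⁻¹ w⁻¹ v k w u`
    have h3 : u⁻¹ * w⁻¹ * (v * k) * (w * u) = u⁻¹ * v * u * k := by
      calc u⁻¹ * w⁻¹ * (v * k) * (w * u) = u⁻¹ * w⁻¹ * v * (k * w) * u := by group
        _ = u⁻¹ * w⁻¹ * (v * w) * k * u := by rw [cc1 k hk w hw]; group
        _ = u⁻¹ * w⁻¹ * (w * v) * k * u := by rw [cy' v hv w hw]
        _ = u⁻¹ * v * (k * u) := by group
        _ = u⁻¹ * v * (u * k) := by rw [cyc k hk u hu]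
        _ = _ := by group
    rw [h3] at h1
    have h4 : ⁅u⁻¹, v⁆ ∈ X c := MuSq.comm_in C.rgd hy hy' S.ne₁ S.ne₂ (fun t ht => S.btwn ht) (inv_mem hu) hv
    have h5 : u⁻¹ * v * u = ⁅u⁻¹, v⁆ * v := by rw [commutatorElement_def]; group
    rw [h5] at h1
    -- `v * v ∈ X c`
    have h6 : v * v ∈ X c := by
      have h7 : v * v = (⁅u⁻¹, v⁆⁻¹) * x k * k⁻¹ := by
        have c1' := cy'c (x k) hxk v hv
        have c2' := cy'c k hk v hv
        have c3' := cy'c _ h4 v hv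
        have h8 : x k = v * ⁅u⁻¹, v⁆ * v * k := by
          calc x k = v * (v⁻¹ * x k) := by group
            _ = v * ⁅u⁻¹, v⁆ * v * k := by rw [h1]; group
        rw [h8, c3']
        calc v * v = ⁅u⁻¹, v⁆⁻¹ * (⁅u⁻¹, v⁆ * v * v * k) * k⁻¹ := by group
          _ = _ := by group
      rw [h7]
      exact mul_mem (mul_mem (inv_mem h4) hxk) (inv_mem hk)
    have h7 : v * v ∈ X y' ⊓ X c := ⟨mul_mem hv hv, h6⟩
    rw [X_inf_X C.rgd hy' S.root (y'_c C S hc hc1).2.1, Subgroup.mem_bot] at h7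
    exact (pe_of_mem C.rgd hy' hv).eq_one hodd' h7
  -- `μ(w)` maps `u` into `X c X y`
  obtain ⟨a, ha, b, hb, s, hs, es⟩ := mu_Z C hp hodd hc1 hw hw1
  have hc1' : -c1 ∈ R := neg_mem C hc1
  have cb : ∀ g ∈ Z (-c1), u * g = g * u := fun g hg => C.cent _ hc1' y hy
    (by rw [form_neg_right, form_comm]; have := S.b₁_neg; omega) u hu g hg
  have ca : ∀ g ∈ Z (-c1), ∀ k ∈ X c, k * g = g * k := fun g hg k hk => C.cent _ hc1' c S.root
    (by rw [form_neg_right, orth, neg_zero]) k hk g hg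
  have hmu : a * w * b * u * (a * w * b)⁻¹ ∈ X y' := by
    have h1 := C.rgd.conj_mem hs hy hu
    rw [es] at h1
    have h2 : y - cpr cs h y c1 • c1 = y' := by
      -- the reflection of `y` in `c1 = y' - y`
      have e1 : c1 = y' - y := by have := S.sub; rwa [one_smul] at this
      have h3 : cpr cs h y c1 = -1 := by
        refine cpr_eq_of_form cs h S.rootb ?_
        rw [e1, form_sub_right, form_sub_left, form_sub_right, form_sub_right, form_comm cs h y' y, S.orth, ← S.len]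
        ring
      rw [h3, e1]; module
    rwa [h2] at h1
  have h1 : a * w * b * u * (a * w * b)⁻¹ = ⁅u, w⁆⁻¹ * u := by
    rw [hv1, one_mul] at huw
    calc a * w * b * u * (a * w * b)⁻¹ = a * w * (b * u) * b⁻¹ * w⁻¹ * a⁻¹ := by group
      _ = a * (w * u * w⁻¹) * a⁻¹ := by rw [← cb b hb]; group
      _ = a * (⁅u, w⁆⁻¹ * u) * a⁻¹ := by rw [commutatorElement_def]; group
      _ = a * k⁻¹ * u * a⁻¹ := by rw [huw]; group
      _ = k⁻¹ * (a * u) * a⁻¹ := by rw [← ca a ha _ (inv_mem hk)]; group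
      _ = k⁻¹ * u := by rw [← cb a ha]; group
      _ = ⁅u, w⁆⁻¹ * u := by rw [huw]
  rw [h1, huw, hv1, one_mul] at hmu
  -- conjugation by `z c1`
  have hzz := C.z_sq c1 hc1
  have hz : ∀ a b : K, z c1 * (a * b) * z c1 = (z c1 * a * z c1) * (z c1 * b * z c1) := by
    intro a b
    calc z c1 * (a * b) * z c1 = z c1 * a * 1 * b * z c1 := by group
      _ = z c1 * a * (z c1 * z c1) * b * z c1 := by rw [hzz]
      _ = _ := by group
  obtain ⟨-, n1, n2, n3⟩ := y_c1 C S hc hc1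
  obtain ⟨-, n1', n2', n3'⟩ := y'_c1 C S hc hc1
  have h2 := C.z_inv c1 hc1 y' hy' n1' n2' n3' _ hmu
  have h3 := C.z_inv c1 hc1 y hy n1 n2 n3 u hu
  have h4 : z c1 * k⁻¹ * z c1 = k⁻¹ := by
    rw [← ZRel.z_cent_of_orth C hc1 S.root orth (inv_mem hk), mul_assoc, hzz, mul_one]
  rw [hz, h3, h4] at h2
  -- `k⁻¹ u⁻¹ = u⁻¹ k`
  have h5 : k⁻¹ * u⁻¹ = u⁻¹ * k⁻¹ := (cyc _ (inv_mem hk) _ (inv_mem hu)).symm
  rw [h5, mul_inv_rev, inv_inv] at h2
  have h6 : k⁻¹ = k := mul_left_cancel h2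
  have hk1 : k = 1 := (pe_of_mem C.rgd S.root hk).eq_one hodd' (by nth_rewrite 1 [← h6]; exact inv_mul_cancel k)
  rw [hk1, inv_one, one_mul] at hmu
  have h7 : u ∈ X y ⊓ X y' := ⟨hu, hmu⟩
  rw [X_inf_X C.rgd hy hy' S.ne₁, Subgroup.mem_bot] at h7
  exact hu1 h7


end Sq

end Gen

section Two

open Cfsg.Agent.Nodes.TypeC Cfsg.Agent.Nodes.TypeCForm Cfsg.Agent.Nodes.KindBC Cfsg.Agent.Nodes.ClsWitt

/-- the positive roots -/
def L2 : List (Fin 2 → ℤ) := [![2, 1], ![1, 1], ![1, 0], ![0, 1]]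

def L2' : List (Fin 2 → ℤ) := L2 ++ L2.map fun v => -v

theorem L2_chk : chkR (TypeC.A 2) L2 = true := by decide +kernel
theorem L2_sr : ∀ i, sr i ∈ L2' := by decide +kernel
theorem L2_rf : ∀ v ∈ L2', ∀ i, rf (TypeC.A 2) i v ∈ L2' := by decide +kernel

theorem cov2 : ∀ v ∈ L2', (∀ k, 0 ≤ v k) → (∃ k : Fin 2, k ∉ [(1 : Fin 2)] ∧ 0 < v k) →
    v = ![1, 0] ∨ v = ![1, 1] ∨ v = ![2, 1] := by decide +kernel
theorem cov2' : ∀ v ∈ L2', (∀ k, 0 ≤ v k) → (∀ k : Fin 2, k ∉ [(1 : Fin 2)] → v k = 0) → v = sr 1 := by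
  decide +kernel

variable {W K : Type*} [Group W] [Fintype W] [Group K] {cs : CoxeterSystem (CoxeterMatrix.B 2) W} {p : ℕ}
  {T : Subgroup K} {nn : Fin 2 → K} {X : (Fin 2 → ℤ) → Subgroup K} {x d : MulAut K} {φ : W ≃* W}
  {σ : Fin 2 → Fin 2} {J : Set (Fin 2)} {g : K}

theorem rt2 : ∀ v ∈ L2, IsRoot cs (isCartan 2) v := isRoot_list L2_chk

theorem sq1 : Sq cs (isCartan 2) 1 ![1, 0] ![1, 1] ![2, 1] ![0, 1] := by
  refine ⟨by norm_num, rt2 _ (by decide), rt2 _ (by decide), rt2 _ (by decide), rt2 _ (by decide), ?_, ?_, ?_, ?_⟩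
  · exact (form_eq_zero_iff cs (rt2 _ (by decide))).2 (by decide +kernel)
  · have h1 : (![1, 1] : Fin 2 → ℤ) = rep cs (isCartan 2) (cs.simple 1) ![1, 0] := by
      rw [rep_simple_eq]; decide +kernel
    rw [h1, form_rep]
  · decide +kernel
  · decide +kernel

theorem sq2 : Sq cs (isCartan 2) 1 ![1, 1] ![1, 0] ![2, 1] (-![0, 1]) := by
  have S := sq1 (cs := cs)
  refine ⟨by norm_num, S.root₂, S.root₁, S.root, S.rootb.neg, by rw [form_comm]; exact S.orth, S.len.symm, ?_, ?_⟩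
  · decide +kernel
  · decide +kernel

theorem mem1 : (![2, 1] : Fin 2 → ℤ) ∈ LR 2 := ⟨(0, true), by decide +kernel⟩
theorem mem2 : (![0, 1] : Fin 2 → ℤ) ∈ LR 2 := ⟨(1, true), by decide +kernel⟩

variable [Fact p.Prime] [Finite K] (N : NF cs (isCartan 2) p T nn X x d φ σ J g) {z : (Fin 2 → ℤ) → K}
  (C : Cls cs (isCartan 2) p T nn X (LR 2) X z)

include C

theorem cent2 {r s : Fin 2 → ℤ} (hr : IsRoot cs (isCartan 2) r) (hs : s ∈ LR 2) (h0 : 0 ≤ ip (ee r) (ee s)) :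
    ∀ a ∈ X r, ∀ b ∈ X s, a * b = b * a :=
  fun a ha b hb => C.cent s hs r hr ((form_nonneg_iff cs (C.root s hs)).2 h0) a ha b hb

theorem com2 {r s b : Fin 2 → ℤ} (S : Sq cs (isCartan 2) 1 r s ![2, 1] b) : ∀ u ∈ X r, ∀ v ∈ X s,
    ∃ w ∈ X ![2, 1], v * u = u * v * w := by
  intro u hu v hv
  refine ⟨⁅v⁻¹, u⁻¹⁆, ?_, by rw [commutatorElement_def]; group⟩
  have h1 : ⁅u⁻¹, v⁻¹⁆ ∈ X ![2, 1] :=
    MuSq.comm_in C.rgd S.root₁ S.root₂ S.ne₁ S.ne₂ (fun t ht => S.btwn ht) (inv_mem hu) (inv_mem hv)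
  rw [← commutatorElement_inv]
  exact inv_mem h1

include N

/-- the fixed points if all positive root groups but `X Y` are inverted -/
theorem fix_in (hodd : Odd p) {Y Y' b : Fin 2 → ℤ} (S : Sq cs (isCartan 2) 1 Y Y' ![2, 1] b)
    (hY : (Y = ![1, 0] ∧ Y' = ![1, 1]) ∨ (Y = ![1, 1] ∧ Y' = ![1, 0]))
    (fY : ∀ w ∈ X Y, x w = w) (iY' : ∀ w ∈ X Y', x w = w⁻¹) (ic : ∀ w ∈ X ![2, 1], x w = w⁻¹)
    (ic1 : ∀ w ∈ X ![0, 1], x w = w⁻¹) {u : K} (hu : u ∈ Sup X (RGD.Pos cs (isCartan 2))) (hxu : x u = u) :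
    u ∈ X Y := by
  have R := C.rgd
  have e1 : (sr 1 : Fin 2 → ℤ) = ![0, 1] := by decide +kernel
  obtain ⟨t, ht, v, hv, rfl⟩ := (mem_U_iff R (J := {(1 : Fin 2)})).1 hu
  have ht1 : t ∈ X ![0, 1] := by
    have h1 : UJ cs (isCartan 2) X {(1 : Fin 2)} ≤ X ![0, 1] := by
      refine Sup_le ?_
      rintro r ⟨hr, hr0, hr1⟩
      rw [cov2' r (mem_list L2' L2_sr L2_rf hr) hr0 (fun k hk => hr1 k (by simpa using hk)), e1]
    exact h1 ht
  have hdec : ∃ a ∈ X Y, ∃ b ∈ X Y', ∃ w ∈ X ![2, 1], v = a * b * w := by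
    have h1 : VJ cs (isCartan 2) X {(1 : Fin 2)} ≤ X Y ⊔ X Y' ⊔ X ![2, 1] := by
      refine Sup_le ?_
      rintro r ⟨hr, hr0, k, hk, hk0⟩
      rcases cov2 r (mem_list L2' L2_sr L2_rf hr) hr0 ⟨k, by simpa using hk, hk0⟩ with rfl | rfl | rfl
      · rcases hY with ⟨rfl, rfl⟩ | ⟨rfl, rfl⟩
        · exact le_sup_left.trans le_sup_left
        · exact le_sup_right.trans le_sup_left
      · rcases hY with ⟨rfl, rfl⟩ | ⟨rfl, rfl⟩
        · exact le_sup_right.trans le_sup_left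
        · exact le_sup_left.trans le_sup_left
      · exact le_sup_right
    refine mem3 ?_ ?_ (com2 C S) (h1 hv)
    · refine cent2 C S.root₁ mem1 ?_
      rcases hY with ⟨rfl, rfl⟩ | ⟨rfl, rfl⟩ <;> decide +kernel
    · refine cent2 C S.root₂ mem1 ?_
      rcases hY with ⟨rfl, rfl⟩ | ⟨rfl, rfl⟩ <;> decide +kernel
  obtain ⟨a, ha, b', hb, w, hw, e⟩ := hdec
  have hxv : x v = a * b'⁻¹ * w⁻¹ := by rw [e, map_mul, map_mul, fY a ha, iY' b' hb, ic w hw]
  have mV : ∀ r ∈ [(![1, 0] : Fin 2 → ℤ), ![1, 1], ![2, 1]], X r ≤ VJ cs (isCartan 2) X {(1 : Fin 2)} := by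
    intro r hr
    refine le_Sup ?_
    have h1 : r ∈ L2 ∧ (∀ k, 0 ≤ r k) ∧ 0 < r 0 := by
      revert r hr
      decide +kernel
    exact ⟨rt2 r h1.1, h1.2.1, 0, by decide, h1.2.2⟩
  have mY : X Y ≤ VJ cs (isCartan 2) X {(1 : Fin 2)} := by
    rcases hY with ⟨rfl, rfl⟩ | ⟨rfl, rfl⟩ <;> exact mV _ (by decide +kernel)
  have mY' : X Y' ≤ VJ cs (isCartan 2) X {(1 : Fin 2)} := by
    rcases hY with ⟨rfl, rfl⟩ | ⟨rfl, rfl⟩ <;> exact mV _ (by decide +kernel)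
  have mc := mV ![2, 1] (by decide +kernel)
  have h1 : t * t = x v * v⁻¹ := by
    rw [map_mul, ic1 t ht1] at hxu
    rw [eq_mul_inv_iff_mul_eq, mul_assoc, ← hxu]; group
  have h2' : t * t ∈ VJ cs (isCartan 2) X {(1 : Fin 2)} := by
    rw [h1, hxv]
    exact mul_mem (mul_mem (mul_mem (mY ha) (inv_mem (mY' hb))) (inv_mem (mc hw))) (inv_mem hv)
  have h2 : t * t ∈ UJ cs (isCartan 2) X {(1 : Fin 2)} ⊓ VJ cs (isCartan 2) X {(1 : Fin 2)} :=
    ⟨mul_mem ht ht, h2'⟩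
  rw [UJ_inf_VJ R, Subgroup.mem_bot] at h2
  have h3 : t = 1 := (pe_of_mem R (rt2 _ (by decide)) ht1).eq_one hodd h2
  subst h3
  rw [one_mul] at hxu ⊢
  rw [hxv, e] at hxu
  have h4 : b'⁻¹ * w⁻¹ = b' * w := by
    rw [mul_assoc, mul_assoc] at hxu
    exact mul_left_cancel hxu
  have hbw : b' * w = w * b' := by
    refine cent2 C S.root₂ mem1 ?_ b' hb w hw
    rcases hY with ⟨rfl, rfl⟩ | ⟨rfl, rfl⟩ <;> decide +kernel
  have h5 : b' * w = 1 := by
    refine ((pe_of_mem R S.root₂ hb).of_commute (pe_of_mem R S.root hw) hbw).eq_one hodd ?_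
    nth_rewrite 2 [hbw]
    rw [← h4]
    group
  rw [e, mul_assoc, h5, mul_one]
  exact ha

theorem sigma_id {q : ℕ} (hq0 : Nat.card (X (sr 0)) = q ^ 2) (hq1 : Nat.card (X (sr 1)) = q) (h1 : 1 < q) :
    ∀ i, σ i = i := by
  have H := N.nx
  have R := N.rgd
  have key : ∀ i, Nat.card (X (sr (σ i))) = Nat.card (X (sr i)) := by
    intro i
    rw [← CardSup.card_X_rep R (wJ cs J) (isRoot_sr cs _ (σ i)), ← map_sr H i]
    exact Nat.card_congr ((X (sr i)).equivMapOfInjective x.toMonoidHom x.injective).toEquiv.symm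
  have hne : q ^ 2 ≠ q := by nlinarith
  intro i
  have hi := key i
  fin_cases i
  · rcases (by decide : ∀ k : Fin 2, k = 0 ∨ k = 1) (σ 0) with h | h
    · exact h
    · exfalso
      change Nat.card (X (sr (σ 0))) = Nat.card (X (sr 0)) at hi
      rw [h, hq0, hq1] at hi
      exact hne hi.symm
  · rcases (by decide : ∀ k : Fin 2, k = 0 ∨ k = 1) (σ 1) with h | h
    · exfalso
      change Nat.card (X (sr (σ 1))) = Nat.card (X (sr 1)) at hi
      rw [h, hq0, hq1] at hi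
      exact hne hi
    · exact h

/-- the case `J = {1}` -/
theorem p_one (hodd : Odd p) {q : ℕ} (hq0 : Nat.card (X (sr 0)) = q ^ 2)
    (hexp : ∀ i, ∀ u ∈ X (sr i), u ^ p = 1) (hσ : ∀ i, σ i = i) (hU : UInv X (sr 1)) (h1 : 1 < q) (h8 : q % 8 = 7)
    (hS : Syl p x (VJ cs (isCartan 2) X J)) (hN : NoO p x) (hJ : J = {1}) : Obs p x ∨ PCase p x := by
  have H := N.nx
  have R := N.rgd
  by_cases hno : Obs p x
  · exact Or.inl hno
  right
  have hrt := rt2 (cs := cs)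
  have hJl : ∀ k, k ∈ J ↔ k ∈ [(1 : Fin 2)] := by
    intro k
    rw [hJ]
    simp
  have hm : ∀ v ∈ L2, (X v).map x.toMonoidHom = X (wl (TypeC.A 2) [1] v) := fun v hv => by
    rw [TypeI.map_root H hσ (hrt v hv), rep_wl H hJl]
  have hθ : (X ![2, 1]).map x.toMonoidHom = X ![2, 1] := by
    rw [hm _ (by decide)]; congr 1; decide +kernel
  have e2 : (![2, 1] : Fin 2 → ℤ) = rep cs (isCartan 2) (cs.simple 0) (sr 1) := by
    rw [rep_simple_eq]; decide +kernel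
  have hUθ : UInv X ![2, 1] := by rw [e2]; exact hU.act R (isRoot_sr cs _ 1) _
  have cZ := cent2 C (hrt _ (by decide : ![2, 1] ∈ L2)) mem1 (by decide +kernel)
  have hinv : ∀ w ∈ X ![2, 1], x w = w⁻¹ := by
    refine inv_of_no_fix R N.xx hθ cZ fun u hu hxu => ?_
    by_contra hu1
    exact hno (obs_long C (hrt _ (by decide)) hUθ hθ (x_neg H (hrt _ (by decide)) (hrt _ (by decide)) hθ) hu hu1 hxu)
  have S : Sets cs (isCartan 2) X p x (({![1, 0]} : Finset (Fin 2 → ℤ)) : Set (Fin 2 → ℤ))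
      {![1, 1]} {![2, 1]} := by
    have mA : ∀ r, r ∈ (({![1, 0]} : Finset (Fin 2 → ℤ)) : Set (Fin 2 → ℤ)) → r = ![1, 0] :=
      fun r hr => by simpa using hr
    refine ⟨?_, ?_, ?_, ?_, ?_, ?_, ?_, ?_, ?_, ?_, ?_, ?_, ?_, ?_⟩
    · intro r hr; rw [mA r hr]; exact hrt _ (by decide)
    · rintro r rfl; exact hrt _ (by decide)
    · rintro r rfl; exact hrt _ (by decide)
    · intro r hr
      rw [mA r hr]
      exact ⟨![1, 1], rfl, by rw [hm _ (by decide)]; congr 1; decide +kernel⟩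
    · rintro s rfl
      exact ⟨![1, 0], by simp, by rw [hm _ (by decide)]; congr 1; decide +kernel⟩
    · intro r hr s hs
      rw [mA r hr, mA s hs]
      refine comm_of_z C mem1 (hrt _ (by decide)) (by decide +kernel) (by decide +kernel) ?_
      rw [Ne, form_eq_zero_iff cs (hrt _ (by decide))]
      decide +kernel
    · rintro r rfl s rfl; exact cZ
    · intro r hr s hs
      rw [mA r hr, show s = ![2, 1] from hs]
      exact cent2 C (hrt _ (by decide)) mem1 (by decide +kernel)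
    · rintro r rfl s rfl
      exact cent2 C (hrt _ (by decide)) mem1 (by decide +kernel)
    · intro r hr s hs a ha b hb
      rw [mA r hr] at ha
      rw [show s = ![1, 1] from hs] at hb
      obtain ⟨w, hw, e⟩ := com2 C sq1 a ha b hb
      exact ⟨w, le_Sup (X := X) (S := {![2, 1]}) rfl hw, e⟩
    · rintro r rfl; exact hinv
    · intro r hr
      rw [mA r hr]; exact exp_all R hexp (hrt _ (by decide))
    · refine ⟨Pi.evalAddMonoidHom (fun _ : Fin 2 => ℤ) 0 - 3 • Pi.evalAddMonoidHom (fun _ : Fin 2 => ℤ) 1, ?_, ?_, ?_⟩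
      · intro r hr
        rw [mA r hr]; simp
      · rintro r rfl; simp
      · rintro r rfl; simp
    · refine ⟨3 • Pi.evalAddMonoidHom (fun _ : Fin 2 => ℤ) 1 - 2 • Pi.evalAddMonoidHom (fun _ : Fin 2 => ℤ) 0, ?_, ?_⟩
      · rintro r rfl; simp
      · rintro r rfl; simp
  refine S.pcase R hodd N.xx ?_ hS hN ?_ (a := q) ?_ (Or.inr h8) h1
  · ext v
    constructor
    · rintro ⟨hv, hv0, k, hk, hk0⟩
      rcases cov2 v (mem_list L2' L2_sr L2_rf hv) hv0 ⟨k, fun h => hk ((hJl k).2 h), hk0⟩ with h2 | h2 | h2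
      · left; left; simpa using h2
      · left; right; exact h2
      · right; exact h2
    · intro hv
      have h3 : v ∈ [(![1, 0] : Fin 2 → ℤ), ![1, 1], ![2, 1]] := by
        rcases hv with (hv | hv) | hv
        · have h4 : v = ![1, 0] := by simpa using hv
          rw [h4]; simp
        · rw [show v = ![1, 1] from hv]; simp
        · rw [show v = ![2, 1] from hv]; simp
      have h4 : v ∈ L2 ∧ (∀ k, 0 ≤ v k) ∧ 0 < v 0 := by
        clear hv
        revert v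
        decide +kernel
      exact ⟨hrt v h4.1, h4.2.1, 0, by rw [hJ]; decide, h4.2.2⟩
  · intro r hr s hs t ht
    have hr' : r = ![1, 0] := by simpa using hr
    have hs' : s = ![1, 0] := by simpa using hs
    subst hr' hs'
    obtain ⟨htr, m, a, b, hm0, ha, hb, he⟩ := ht
    have h2 : t = ![1, 0] := by
      refine Slope.eq_of_cross htr (hrt _ (by decide)) hm0 (show (0 : ℤ) < a + b by omega) ?_
      rw [he, add_smul]
    rw [h2]; exact hr
  · rw [Finset.prod_singleton]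
    have e0 : (![1, 0] : Fin 2 → ℤ) = sr 0 := by decide +kernel
    rw [e0, hq0]

/-- the case `J = ∅` -/
theorem p_empty (hodd : Odd p) {q : ℕ} (hq0 : Nat.card (X (sr 0)) = q ^ 2)
    (hexp : ∀ i, ∀ u ∈ X (sr i), u ^ p = 1) (hσ : ∀ i, σ i = i) (hU : UInv X (sr 1)) (h1 : 1 < q) (h8 : q % 8 = 7)
    (hS : Syl p x (VJ cs (isCartan 2) X J)) (hN : NoO p x) (hJ : J = ∅) : Obs p x ∨ PCase p x := by
  have hp : p.Prime := Fact.out
  have hp2 : p ≠ 2 := by rintro rfl; exact absurd hodd (by decide)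
  have H := N.nx
  have R := N.rgd
  by_cases hno : Obs p x
  · exact Or.inl hno
  right
  have hrt := rt2 (cs := cs)
  have hJl : ∀ k, k ∈ J ↔ k ∈ ([] : List (Fin 2)) := by
    intro k
    rw [hJ]
    simp
  have hwl : ∀ v : Fin 2 → ℤ, wl (TypeC.A 2) [] v = v := fun v => by
    funext k
    unfold wl
    rw [if_neg List.not_mem_nil]
  have hm : ∀ v ∈ L2, (X v).map x.toMonoidHom = X v := fun v hv => by
    rw [TypeI.map_root H hσ (hrt v hv), rep_wl H hJl, hwl]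
  have hm' : ∀ v ∈ L2, (X (-v)).map x.toMonoidHom = X (-v) := fun v hv =>
    x_neg H (hrt v hv) (hrt v hv) (hm v hv)
  have e1 : (sr 1 : Fin 2 → ℤ) = ![0, 1] := by decide +kernel
  have e2 : (![2, 1] : Fin 2 → ℤ) = rep cs (isCartan 2) (cs.simple 0) (sr 1) := by
    rw [rep_simple_eq]; decide +kernel
  have hUc1 : UInv X ![0, 1] := by rw [← e1]; exact hU
  have hUc : UInv X ![2, 1] := by rw [e2]; exact hU.act R (isRoot_sr cs _ 1) _
  have inv : ∀ r, r ∈ LR 2 → UInv X r → (X r).map x.toMonoidHom = X r → (X (-r)).map x.toMonoidHom = X (-r) →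
      ∀ w ∈ X r, x w = w⁻¹ := by
    intro r hr hUr h2 h3
    have hrr := C.root r hr
    refine inv_of_no_fix R N.xx h2 (fun a ha b hb => C.cent r hr r hrr (form_pos cs _ hrr.ne_zero).le a ha b hb)
      fun u hu hxu => ?_
    by_contra hu1
    exact hno (obs_long C hrr hUr h2 h3 hu hu1 hxu)
  have ic := inv _ mem1 hUc (hm _ (by decide)) (hm' _ (by decide))
  have ic1 := inv _ mem2 hUc1 (hm _ (by decide)) (hm' _ (by decide))
  have ic' := inv _ (neg_mem C mem1) hUc.neg (hm' _ (by decide)) (by rw [neg_neg]; exact hm _ (by decide))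
  have ic1' := inv _ (neg_mem C mem2) hUc1.neg (hm' _ (by decide)) (by rw [neg_neg]; exact hm _ (by decide))
  have aby : ∀ r ∈ [(![1, 0] : Fin 2 → ℤ), ![1, 1]], ∀ a ∈ X r, ∀ b ∈ X r, a * b = b * a := by
    intro r hr
    have h2 : r ∈ L2 ∧ r ≠ ![2, 1] ∧ r ≠ -![2, 1] ∧ ip (ee r) (ee ![2, 1]) ≠ 0 := by
      revert r
      decide +kernel
    refine comm_of_z C mem1 (hrt _ h2.1) h2.2.1 h2.2.2.1 ?_
    rw [Ne, form_eq_zero_iff cs (hrt _ (by decide))]
    exact h2.2.2.2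
  -- the conclusion
  have fin : ∀ {Y Y' b : Fin 2 → ℤ}, Sq cs (isCartan 2) 1 Y Y' ![2, 1] b →
      ((Y = ![1, 0] ∧ Y' = ![1, 1]) ∨ (Y = ![1, 1] ∧ Y' = ![1, 0])) → b ∈ LR 2 → (∀ w ∈ X b, x w = w⁻¹) →
      (∀ w ∈ X Y', x w = w⁻¹) → PCase p x := by
    intro Y Y' b S hY hb ib iY'
    have hYl : Y ∈ [(![1, 0] : Fin 2 → ℤ), ![1, 1]] ∧ Y ∈ L2 := by
      rcases hY with ⟨rfl, -⟩ | ⟨rfl, -⟩ <;> decide +kernel
    have ab := aby Y hYl.1
    have fY : ∀ w ∈ X Y, x w = w := by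
      intro w hw
      have hxw : x w ∈ X Y := by rw [← hm Y hYl.2]; exact Subgroup.mem_map_of_mem x.toMonoidHom hw
      by_contra hne
      refine not_one_inv C S mem1 hb hp hp2 ib (u := w⁻¹ * x w) (mul_mem (inv_mem hw) hxw) ?_ ?_ iY'
        (hm _ (by decide))
      · intro h0
        exact hne (inv_mul_eq_one.1 h0).symm
      · rw [map_mul, map_inv, N.xx, mul_inv_rev, inv_inv]
    refine ⟨X Y, fY, ?_, ?_, hN, ab, exp_all R hexp (hrt _ hYl.2), q, ?_, Or.inr h8, h1⟩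
    · intro u
      refine ⟨1, ?_⟩
      rw [pow_one]
      exact Subtype.ext (exp_all R hexp (hrt _ hYl.2) u u.2)
    · intro Q hQ hfix
      obtain ⟨k, hk, hk'⟩ := hS Q hQ hfix
      refine ⟨k, hk, fun u hu => ?_⟩
      refine fix_in N C hodd S hY fY iY' ic ic1 ?_ (by rw [map_mul, map_mul, map_inv, hk, hfix u hu])
      exact VJ_le_U J (hk' u hu)
    · rcases hY with ⟨rfl, -⟩ | ⟨rfl, -⟩
      · have e0 : (![1, 0] : Fin 2 → ℤ) = sr 0 := by decide +kernel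
        rw [e0, hq0]
      · have e0 : (![1, 1] : Fin 2 → ℤ) = rep cs (isCartan 2) (cs.simple 1) (sr 0) := by
          rw [rep_simple_eq]; decide +kernel
        rw [e0, CardSup.card_X_rep R _ (isRoot_sr cs _ 0), hq0]
  by_cases hy : ∃ u ∈ X ![1, 0], u ≠ 1 ∧ x u = u
  · by_cases hy' : ∃ u ∈ X ![1, 1], u ≠ 1 ∧ x u = u
    · exfalso
      obtain ⟨u, hu, hu1, hxu⟩ := hy
      obtain ⟨v, hv, hv1, hxv⟩ := hy'
      exact hno (obs_both C sq1 hodd ic ic' ic1 ic1' (hm _ (by decide)) (hm' _ (by decide)) (hm _ (by decide))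
        (hm' _ (by decide)) hu hu1 hxu hv hv1 hxv)
    · refine fin sq1 (Or.inl ⟨rfl, rfl⟩) mem2 ic1 ?_
      refine inv_of_no_fix R N.xx (hm _ (by decide)) (aby _ (by decide +kernel)) fun u hu hxu => ?_
      by_contra hu1
      exact hy' ⟨u, hu, hu1, hxu⟩
  · refine fin sq2 (Or.inr ⟨rfl, rfl⟩) (neg_mem C mem2) ic1' ?_
    refine inv_of_no_fix R N.xx (hm _ (by decide)) (aby _ (by decide +kernel)) fun u hu hxu => ?_
    by_contra hu1
    exact hy ⟨u, hu, hu1, hxu⟩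

/-- **`U₄(q)`, `q ≡ 7 mod 8`.** -/
theorem p_U4 (hodd : Odd p) {q : ℕ} (hq0 : Nat.card (X (sr 0)) = q ^ 2) (hq1 : Nat.card (X (sr 1)) = q)
    (hexp : ∀ i, ∀ u ∈ X (sr i), u ^ p = 1) (hU : UInv X (sr 1)) (h1 : 1 < q) (h8 : q % 8 = 7)
    (hS : Syl p x (VJ cs (isCartan 2) X J)) (hN : NoO p x) (h0 : (∀ i, σ i = i) → (0 : Fin 2) ∉ J) :
    Obs p x ∨ PCase p x := by
  have hσ := sigma_id N C hq0 hq1 h1
  have h0 := h0 hσ
  by_cases hJ : (1 : Fin 2) ∈ J
  · refine p_one N C hodd hq0 hexp hσ hU h1 h8 hS hN ?_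
    ext k
    fin_cases k
    · exact ⟨fun h => absurd h h0, fun h => absurd h (by decide)⟩
    · exact ⟨fun _ => rfl, fun _ => hJ⟩
  · refine p_empty N C hodd hq0 hexp hσ hU h1 h8 hS hN ?_
    ext k
    fin_cases k
    · exact ⟨fun h => absurd h h0, fun h => absurd h (by simp)⟩
    · exact ⟨fun h => absurd h hJ, fun h => absurd h (by simp)⟩

end Two

end Cfsg.Agent.H286.PU4
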