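import Cfsg.Agent.H286.Comb

/-!
# The chain theorem

`NF` the normal form of an involutory automorphism `x`, the diagram has an end node `i0` and a chain `i0 - i1 - i2 - i3`
of simple bonds (`i0` has no other neighbour, `i1` no other neighbour): then `Obs p x`.
-/

set_option autoImplicit false
set_option linter.unusedSectionVars false

namespace Cfsg.Agent.H286.Chain

open CoxeterSystem Cfsg.Agent.ChevalleyStructure.CoxeterGeom Cfsg.Agent.Tits.Roots Cfsg.Agent.Tits.Core
  Cfsg.Agent.Tits.RootComb Cfsg.Agent.Tits.Exchange Cfsg.Agent.Nodes.Comb Cfsg.Agent.Nodes.Reps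
  Cfsg.Agent.Nodes.BNOf Cfsg.Agent.Nodes.RGDLib Cfsg.Agent.Nodes.Bruhat Cfsg.Agent.Nodes.StabComb
  Cfsg.Agent.Nodes.OppDec Cfsg.Agent.Nodes.Coroot Cfsg.Agent.KFacts.RgdSL Cfsg.Agent.UGT.U2.FOne
  Cfsg.Agent.H286.Obs Cfsg.Agent.H286.RootObs Cfsg.Agent.H286.Comb

variable {I W K : Type*} [Fintype I] [DecidableEq I] [Group W] [Group K] {M : CoxeterMatrix I}
  {cs : CoxeterSystem M W} {A : I → I → ℤ} {h : IsCartan M A} {p : ℕ} {T : Subgroup K} {n : I → K}
  {X : (I → ℤ) → Subgroup K}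

section NX

variable {x : MulAut K} {φ : W ≃* W} {σ : I → I} {J : Set I} (H : NX cs h p T n X x φ σ J)

include H

omit H in
theorem rs (i j : I) : rep cs h (cs.simple i) (sr j) = sr j - A i j • sr i := by rw [rep_simple_eq, pairing_sr]

theorem map_sr (i : I) : (X (sr i)).map x.toMonoidHom = X (rep cs h (wJ cs J) (sr (σ i))) := by
  have h1 := H.xX 1 i
  rwa [map_one, Module.End.one_apply, map_one, mul_one] at h1

theorem map_sr_add {i j : I} (hji : A j i = -1) (hji' : A (σ j) (σ i) = -1) :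
    (X (sr i + sr j)).map x.toMonoidHom = X (rep cs h (wJ cs J) (sr (σ i) + sr (σ j))) := by
  have h1 := H.xX (cs.simple j) i
  rw [H.φ_simple, rep_mul_apply, rep_simple_eq, rep_simple_eq, pairing_sr, pairing_sr, hji, hji'] at h1
  rwa [neg_one_smul, sub_neg_eq_add, neg_one_smul, sub_neg_eq_add] at h1

theorem x_neg [Finite W] {b b' : I → ℤ} (hb : IsRoot cs h b) (hb' : IsRoot cs h b')
    (hx : (X b).map x.toMonoidHom = X b') : (X (-b)).map x.toMonoidHom = X (-b') := by
  obtain ⟨b'', hb'', h1, h2⟩ := H.exists_xX hb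
  rw [hx] at h1
  rw [X_injective H.rgd hb' hb'' h1]
  exact h2

theorem map_back {b b' : I → ℤ} (hx : (X b).map x.toMonoidHom = X b') : (X b').map x.toMonoidHom = X b := by
  rw [← hx, H.map_map]

theorem sigma_M [Finite W] (i j : I) : M (σ i) (σ j) = M i j := FFour.sigma_matrix H.φ_simple i j

theorem sigma_inj : Function.Injective σ := fun a b hab => by rw [← H.σσ a, hab, H.σσ]

theorem sigma_zero [Finite W] {i j : I} (hne : i ≠ j) (h0 : A i j = 0) : A (σ i) (σ j) = 0 := by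
  have h1 := sigma_M H i j
  have h2 := h.rel i j hne
  have h3 := h.rel (σ i) (σ j) fun e => hne (sigma_inj H e)
  omega

theorem sigma_one [Finite W] {i j : I} (hne : i ≠ j) (h0 : A i j = -1) (h0' : A j i = -1) : A (σ i) (σ j) = -1 := by
  have h1 := sigma_M H i j
  have h2 := h.rel i j hne
  have h3 := h.rel (σ i) (σ j) fun e => hne (sigma_inj H e)
  omega

theorem sigma_ne_zero [Finite W] {i j : I} (hne : i ≠ j) (h0 : A i j ≠ 0) : A (σ i) (σ j) ≠ 0 := by
  have h1 := sigma_M H i j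
  have h2 := h.rel i j hne
  have h3 := h.rel (σ i) (σ j) fun e => hne (sigma_inj H e)
  omega

/-- two adjacent nodes are not both in `J` -/
theorem not_both {i j : I} (hne : i ≠ j) (h0 : A i j ≠ 0) (hi : i ∈ J) : j ∉ J := fun hj =>
  h0 (A_zero_of_comm cs h hne (H.Jcomm i hi j hj))

theorem not_mem_of_sigma {i : I} (hi : σ i ≠ i) : i ∉ J := fun hJ => hi (H.Jσ i hJ)

open Classical in
theorem wJ_sr [Finite W] {i : I} (hi : i ∉ J) (k : I) :
    rep cs h (wJ cs J) (sr i) k = if k ∈ J then -A k i else (sr i : I → ℤ) k := by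
  rw [rep_wJ_apply cs h H.Jcomm]
  split_ifs with hk
  · rw [pairing_sr, sr_ne (ne_of_mem_of_not_mem hk hi), zero_sub]
  · rfl

theorem wJ_sr_fix [Finite W] {i : I} (hi : i ∉ J) (hn : ∀ k ∈ J, A k i = 0) : rep cs h (wJ cs J) (sr i) = sr i := by
  funext k
  rw [wJ_sr H hi]
  split_ifs with hk
  · rw [hn k hk, neg_zero, sr_ne (ne_of_mem_of_not_mem hk hi)]
  · rfl

theorem wJ_sr_one [Finite W] {i j : I} (hi : i ∉ J) (hj : j ∈ J) (hji : A j i = -1)
    (hn : ∀ k ∈ J, k ≠ j → A k i = 0) : rep cs h (wJ cs J) (sr i) = sr j + sr i := by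
  funext k
  rw [wJ_sr H hi, Pi.add_apply]
  by_cases hkj : k = j
  · subst hkj
    rw [if_pos hj, hji, sr_self, sr_ne (ne_of_mem_of_not_mem hj hi)]; norm_num
  · rw [sr_ne hkj, zero_add]
    split_ifs with hk
    · rw [hn k hk hkj, neg_zero, sr_ne (ne_of_mem_of_not_mem hk hi)]
    · rfl

theorem wJ_sr_two [Finite W] {i j j' : I} (hi : i ∉ J) (hj : j ∈ J) (hj' : j' ∈ J) (hjj : j ≠ j') (hji : A j i = -1)
    (hji' : A j' i = -1) (hn : ∀ k ∈ J, k ≠ j → k ≠ j' → A k i = 0) :
    rep cs h (wJ cs J) (sr i) = sr j + sr i + sr j' := by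
  funext k
  rw [wJ_sr H hi, Pi.add_apply, Pi.add_apply]
  by_cases hkj : k = j
  · subst hkj
    rw [if_pos hj, hji, sr_self, sr_ne (ne_of_mem_of_not_mem hj hi), sr_ne hjj]; norm_num
  by_cases hkj' : k = j'
  · subst hkj'
    rw [if_pos hj', hji', sr_self, sr_ne (ne_of_mem_of_not_mem hj' hi), sr_ne hjj.symm]; norm_num
  · rw [sr_ne hkj, zero_add, sr_ne hkj', add_zero]
    split_ifs with hk
    · rw [hn k hk hkj hkj', neg_zero, sr_ne (ne_of_mem_of_not_mem hk hi)]
    · rfl

end NX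

/-- commuting simple root groups with signs -/
theorem comm_nodes [Finite W] (R : RGD cs h p T n X) {i j : I} (hne : i ≠ j) (h0 : A i j = 0) {a b : K}
    (ha : a ∈ X (sr i) ∨ a ∈ X (-sr i)) (hb : b ∈ X (sr j) ∨ b ∈ X (-sr j)) : Commute a b := by
  have hc := comm_of_A_zero cs h hne h0
  rcases ha with ha | ha <;> rcases hb with hb | hb
  · exact comm_of_comm R hne hc (Or.inl rfl) (Or.inl rfl) a ha b hb
  · exact comm_of_comm R hne hc (Or.inl rfl) (Or.inr rfl) a ha b hb
  · exact comm_of_comm R hne hc (Or.inr rfl) (Or.inl rfl) a ha b hb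
  · exact comm_of_comm R hne hc (Or.inr rfl) (Or.inr rfl) a ha b hb

/-- transport of commuting root groups under the Weyl group -/
theorem comm_act [Finite W] (R : RGD cs h p T n X) {c d : I → ℤ} (hc : IsRoot cs h c) (hd : IsRoot cs h d)
    (hcd : ∀ a, a ∈ X c ∨ a ∈ X (-c) → ∀ b, b ∈ X d ∨ b ∈ X (-d) → Commute a b) (w : W) :
    ∀ a, a ∈ X (rep cs h w c) ∨ a ∈ X (-rep cs h w c) → ∀ b, b ∈ X (rep cs h w d) ∨ b ∈ X (-rep cs h w d) →
      Commute a b := by
  obtain ⟨g, hg⟩ := exists_rp cs R.nsys w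
  have key : ∀ y, IsRoot cs h y → ∀ a, a ∈ X (rep cs h w y) ∨ a ∈ X (-rep cs h w y) →
      g⁻¹ * a * g ∈ X y ∨ g⁻¹ * a * g ∈ X (-y) := by
    intro y hy a ha
    rw [← map_neg, ← R.conj_rp hg hy, ← R.conj_rp hg hy.neg, mem_cj, mem_cj] at ha
    exact ha
  intro a ha b hb
  have h1 := hcd _ (key c hc a ha) _ (key d hd b hb)
  have h2 := h1.map (MulAut.conj g).toMonoidHom
  have e : ∀ y : K, (MulAut.conj g).toMonoidHom (g⁻¹ * y * g) = y := by
    intro y
    change g * (g⁻¹ * y * g) * g⁻¹ = y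
    group
  rwa [e, e] at h2

section Main

variable [hp : Fact p.Prime] [Finite W] [Finite K] {x d : MulAut K} {φ : W ≃* W} {σ : I → I} {J : Set I} {g : K}

/-- **natJ for the simple roots.** -/
theorem false_one (N : NF cs h p T n X x d φ σ J g) {i j : I} (hi : i ∉ J) (hσ : σ i = i) (hj : j ∈ J)
    (hji : A j i = -1) (hij : A i j = -1) (hn : ∀ k ∈ J, k ≠ j → A k i = 0) : False := by
  have hne : j ≠ i := fun e => hi (e ▸ hj)
  refine N.false_of_natJ hj (a2_simple cs h hne hji hij) ?_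
  rw [map_sr N.nx, hσ, wJ_sr_one N.nx hi hj hji hn]

/-- two adjacent fixed simple roots -/
theorem obs_two (hp2 : Odd p) (N : NF cs h p T n X x d φ σ J g) {i j : I} (hi : i ∉ J) (hj : j ∉ J) (hσi : σ i = i)
    (hσj : σ j = j) (hji : A j i = -1) (hij : A i j = -1) (hni : ∀ k ∈ J, A k i = 0) (hnj : ∀ k ∈ J, A k j = 0) :
    Obs p x := by
  have H := N.nx
  have hne : i ≠ j := by
    rintro rfl
    have := h.diag i
    omega
  have hA := a2_simple cs h hne hij hji
  have ei : rep cs h (wJ cs J) (sr i) = sr i := wJ_sr_fix H hi hni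
  have ej : rep cs h (wJ cs J) (sr j) = sr j := wJ_sr_fix H hj hnj
  have h1 : (X (sr i)).map x.toMonoidHom = X (sr i) := by rw [map_sr H, hσi, ei]
  have h2 : (X (sr j)).map x.toMonoidHom = X (sr j) := by rw [map_sr H, hσj, ej]
  have h3 : (X (sr i + sr j)).map x.toMonoidHom = X (sr i + sr j) := by
    rw [map_sr_add H hji (by rw [hσi, hσj]; exact hji), hσi, hσj, map_add, ei, ej]
  exact obs_two_fix N.rgd hp2 N.xx hA h1 (x_neg H hA.rx hA.rx h1) h2 (x_neg H hA.ry hA.ry h2) h3
    (x_neg H hA.rxy hA.rxy h3)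

/-- **The chain theorem.** -/
theorem obs_chain (hp2 : Odd p) (N : NF cs h p T n X x d φ σ J g) {i0 i1 i2 i3 : I} (n02 : i0 ≠ i2) (n13 : i1 ≠ i3)
    (n03 : i0 ≠ i3) (a01 : A i0 i1 = -1) (a10 : A i1 i0 = -1) (a12 : A i1 i2 = -1) (a21 : A i2 i1 = -1)
    (a23 : A i2 i3 = -1) (a32 : A i3 i2 = -1) (h0 : ∀ k, k ≠ i0 → k ≠ i1 → A k i0 = 0)
    (h1 : ∀ k, k ≠ i0 → k ≠ i1 → k ≠ i2 → A k i1 = 0) : Obs p x := by
  have H := N.nx
  have R := N.rgd
  have hne : ∀ {i j : I}, A i j = -1 → i ≠ j := by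
    rintro i j hij rfl
    have := h.diag i
    omega
  have n01 := hne a01
  have n12 := hne a12
  have n23 := hne a23
  by_cases hσ0 : σ i0 = i0
  · -- `σ` fixes `i0`, `i1`, `i2`
    have hσ1 : σ i1 = i1 := by
      by_contra hcon
      have e1 : A (σ i1) (σ i0) ≠ 0 := sigma_ne_zero H n01.symm (by omega)
      rw [hσ0] at e1
      refine e1 (h0 _ (fun e => n01 ?_) hcon)
      rw [← hσ0] at e
      exact (sigma_inj H e).symm
    have hσ2 : σ i2 = i2 := by
      by_contra hcon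
      have e1 : A (σ i2) (σ i1) ≠ 0 := sigma_ne_zero H n12.symm (by omega)
      rw [hσ1] at e1
      refine e1 (h1 _ (fun e => n02 ?_) (fun e => n12 ?_) hcon)
      · rw [← hσ0] at e; exact (sigma_inj H e).symm
      · rw [← hσ1] at e; exact (sigma_inj H e).symm
    by_cases m0 : i0 ∈ J
    · have m1 : i1 ∉ J := not_both H n01 (by omega) m0
      by_cases m2 : i2 ∈ J
      · -- the swapped roots
        have m3 : i3 ∉ J := not_both H n23 (by omega) m2
        have e1 : rep cs h (wJ cs J) (sr i1) = sr i0 + sr i1 + sr i2 :=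
          wJ_sr_two H m1 m0 m2 n02 a01 a21 fun k hk hk0 hk2 => h1 k hk0 (fun e => m1 (e ▸ hk)) hk2
        have hx : (X (sr i1)).map x.toMonoidHom = X (sr i0 + sr i1 + sr i2) := by
          rw [map_sr H, hσ1, e1]
        -- `w = s0 s1` maps `α_0`, `α_2` to `α_1`, `α_0 + α_1 + α_2`
        obtain ⟨w, hw⟩ : ∃ w, w = cs.simple i0 * cs.simple i1 := ⟨_, rfl⟩
        have a02 : A i0 i2 = 0 := A_zero_symm h (h0 i2 n02.symm n12.symm)
        have a03 : A i0 i3 = 0 := A_zero_symm h (h0 i3 n03.symm n13.symm)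
        have a13 : A i1 i3 = 0 := A_zero_symm h (h1 i3 n03.symm n13.symm n23.symm)
        have w0 : rep cs h w (sr i0) = sr i1 := by
          rw [hw, rep_mul_apply, rs, a10, map_sub, map_smul, rep_simple_sr, rs, a01]
          module
        have w2 : rep cs h w (sr i2) = sr i0 + sr i1 + sr i2 := by
          rw [hw, rep_mul_apply, rs, a12, map_sub, map_smul, rs, rs, a01, a02]
          module
        have w3 : rep cs h w (sr i3) = sr i3 := by
          rw [hw, rep_mul_apply, rs, a13, map_sub, map_smul, rs, rs, a03, a01]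
          module
        have r0 := isRoot_sr cs h i0
        have r1 := isRoot_sr cs h i1
        have r2 := isRoot_sr cs h i2
        have r3 := isRoot_sr cs h i3
        have rc : IsRoot cs h (sr i0 + sr i1 + sr i2) := w2 ▸ r2.act w
        have c02 : ∀ a, a ∈ X (sr i1) ∨ a ∈ X (-sr i1) → ∀ b, b ∈ X (sr i0 + sr i1 + sr i2) ∨
            b ∈ X (-(sr i0 + sr i1 + sr i2)) → Commute a b := by
          have := comm_act R r0 r2 (fun a ha b hb => comm_nodes R n02 a02 ha hb) w
          rwa [w0, w2] at this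
        have c13 : ∀ v ∈ X (sr i3), ∀ b, b ∈ X (sr i1) ∨ b ∈ X (-sr i1) → Commute v b :=
          fun v hv b hb => (comm_nodes R n13 a13 hb (Or.inl hv)).symm
        have hA : A2 cs h (sr i0 + sr i1 + sr i2) (sr i3) := by
          have := A2.act (a2_simple cs h n23 a23 a32) w
          rwa [w2, w3] at this
        have hx' := map_back H hx
        exact obs_swapA2 R hp2 N.xx hA hx' (x_neg H rc r1 hx') (fun a ha b hb => (c02 b hb a ha).symm) c13
      · exact (false_one N m1 hσ1 m0 a01 a10 fun k hk hk0 => by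
          by_cases hk2 : k = i2
          · exact absurd (hk2 ▸ hk) m2
          · exact h1 k hk0 (fun e => m1 (e ▸ hk)) hk2).elim
    · by_cases m1 : i1 ∈ J
      · exact (false_one N m0 hσ0 m1 a10 a01 fun k hk hk1 => h0 k (fun e => m0 (e ▸ hk)) hk1).elim
      · by_cases m2 : i2 ∈ J
        · exact (false_one N m1 hσ1 m2 a21 a12 fun k hk hk2 =>
            h1 k (fun e => m0 (e ▸ hk)) (fun e => m1 (e ▸ hk)) hk2).elim
        · exact obs_two hp2 N m0 m1 hσ0 hσ1 a10 a01 (fun k hk => h0 k (fun e => m0 (e ▸ hk)) (fun e => m1 (e ▸ hk)))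
            (fun k hk => h1 k (fun e => m0 (e ▸ hk)) (fun e => m1 (e ▸ hk)) (fun e => m2 (e ▸ hk)))
  · -- `σ` moves `i0`
    have ne01 : σ i0 ≠ i1 := by
      intro e
      -- the neighbour `i2` of `i1 = σ i0`
      have e1 : A (σ i2) (σ i1) ≠ 0 := sigma_ne_zero H n12.symm (by omega)
      have e2 : σ i1 = i0 := by rw [← e, H.σσ]
      rw [e2] at e1
      have e3 : σ i2 = i1 := by
        by_contra hcon
        exact e1 (h0 _ (fun e4 => n12 (by rw [← e2] at e4; exact (sigma_inj H e4).symm)) hcon)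
      rw [← e] at e3
      exact n02 (sigma_inj H e3).symm
    have ne02 : σ i0 ≠ i2 := by
      intro e
      -- `i2` has the neighbours `i1`, `i3`
      have e1 : σ i2 = i0 := by rw [← e, H.σσ]
      have b1 : A (σ i1) (σ i2) ≠ 0 := sigma_ne_zero H n12 (by omega)
      have b3 : A (σ i3) (σ i2) ≠ 0 := sigma_ne_zero H n23.symm (by omega)
      rw [e1] at b1 b3
      have f1 : σ i1 = i1 := by
        by_contra hcon
        exact b1 (h0 _ (fun e4 => n12 (by rw [← e1] at e4; exact sigma_inj H e4)) hcon)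
      have f3 : σ i3 = i1 := by
        by_contra hcon
        exact b3 (h0 _ (fun e4 => n23 (by rw [← e1] at e4; exact (sigma_inj H e4).symm)) hcon)
      rw [← f1] at f3
      exact n13 (sigma_inj H f3).symm
    have a0 : A i0 (σ i0) = 0 := A_zero_symm h (h0 _ hσ0 ne01)
    have a1 : A (σ i0) i1 = 0 := h1 _ hσ0 ne01 ne02
    have hσ1 : σ i1 ≠ i1 := by
      intro e
      have e1 : A (σ i0) (σ i1) ≠ 0 := sigma_ne_zero H n01 (by omega)
      rw [e] at e1
      exact e1 a1
    have m0 : i0 ∉ J := not_mem_of_sigma H hσ0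
    have m0' : σ i0 ∉ J := not_mem_of_sigma H (by rw [H.σσ]; exact fun e => hσ0 e.symm)
    have m1' : σ i1 ∉ J := not_mem_of_sigma H (by rw [H.σσ]; exact fun e => hσ1 e.symm)
    have e1 : rep cs h (wJ cs J) (sr (σ i0)) = sr (σ i0) := by
      refine wJ_sr_fix H m0' fun k hk => ?_
      have e2 : A (σ k) i0 = 0 := by
        refine h0 _ (fun e3 => m0' ?_) (fun e3 => m1' ?_)
        · rw [← e3, H.σσ]; exact hk
        · rw [← e3, H.σσ]; exact hk
      have hk0 : σ k ≠ i0 := fun e3 => m0' (by rw [← e3, H.σσ]; exact hk)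
      have e3 := sigma_zero H hk0 e2
      rwa [H.σσ] at e3
    have hx : (X (sr i0)).map x.toMonoidHom = X (sr (σ i0)) := by rw [map_sr H, e1]
    exact obs_swapA2 R hp2 N.xx (a2_simple cs h n01 a01 a10) hx
      (x_neg H (isRoot_sr cs h i0) (isRoot_sr cs h _) hx)
      (fun a ha b hb => comm_nodes R (fun e => hσ0 e.symm) a0 ha hb)
      (fun v hv b hb => (comm_nodes R ne01 a1 hb (Or.inl hv)).symm)

end Main

end Cfsg.Agent.H286.Chain
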