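import Cfsg.Agent.H286.TypeII
import Cfsg.Agent.H286.PADE

/-!
# `PCase` for `Ω₈⁻(q)`: the diagram `B₃`
-/

set_option autoImplicit false
set_option linter.unusedSectionVars false

namespace Cfsg.Agent.H286.PB3

open CoxeterSystem Cfsg.Agent.ChevalleyStructure.CoxeterGeom Cfsg.Agent.Tits.Roots Cfsg.Agent.Tits.Core
  Cfsg.Agent.Tits.RootComb Cfsg.Agent.Tits.Exchange Cfsg.Agent.Nodes.Comb Cfsg.Agent.Nodes.Reps
  Cfsg.Agent.Nodes.BNOf Cfsg.Agent.Nodes.RGDLib Cfsg.Agent.Nodes.Bruhat Cfsg.Agent.Nodes.StabComb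
  Cfsg.Agent.Nodes.OppDec Cfsg.Agent.Nodes.Coroot Cfsg.Agent.KFacts.RgdSL Cfsg.Agent.UGT.U2.FOne
  Cfsg.Agent.H286.Obs Cfsg.Agent.H286.RootObs Cfsg.Agent.H286.Comb Cfsg.Agent.H286.Chain Cfsg.Agent.H286.Row
  Cfsg.Agent.H286.PSplit Cfsg.Agent.H286.PSets Cfsg.Agent.H286.RowsA Cfsg.Agent.Nodes.LeviDec
  Cfsg.Agent.H286.PADE Cfsg.Agent.H286.TypeII Cfsg.Agent.H286.NatB Cfsg.Agent.H286.SqObs Cfsg.Agent.Nodes.Chart
open Cfsg.Agent.Nodes.BNOf.RGD (Sup le_Sup Sup_le Sup_mono)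
open Cfsg.Agent.Nodes Cfsg.Agent.Nodes.TypeC Cfsg.Agent.Nodes.TypeCForm Cfsg.Agent.Nodes.KindBC
open Cfsg.Agent.OddHalf.DblR.MinusComb (a2_rt)
open scoped commutatorElement

/-- the positive roots -/
def LB : List (Fin 3 → ℤ) := [![2, 2, 1], ![1, 2, 1], ![0, 2, 1], ![1, 1, 1], ![0, 1, 1], ![1, 1, 0], ![1, 0, 0],
  ![0, 1, 0], ![0, 0, 1]]

def LB' : List (Fin 3 → ℤ) := LB ++ LB.map fun v => -v

def SAb : List (Fin 3 → ℤ) := [![2, 2, 1], ![1, 1, 1], ![1, 1, 0]]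
def SBb : List (Fin 3 → ℤ) := [![0, 2, 1], ![0, 1, 0], ![0, 1, 1]]
def SZb : List (Fin 3 → ℤ) := [![1, 2, 1]]

theorem LB_chk : chkR (TypeC.A 3) LB = true := by decide +kernel
theorem LB_sr : ∀ i, sr i ∈ LB' := by decide +kernel
theorem LB_rf : ∀ v ∈ LB', ∀ i, rf (TypeC.A 3) i v ∈ LB' := by decide +kernel

theorem covB : ∀ v ∈ LB', (∀ k, 0 ≤ v k) → (∃ k : Fin 3, k ∉ [(0 : Fin 3), 2] ∧ 0 < v k) →
    v ∈ SAb ∨ v ∈ SBb ∨ v ∈ SZb := by decide +kernel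
theorem covB' : ∀ v, (v ∈ SAb ∨ v ∈ SBb ∨ v ∈ SZb) → v ∈ LB ∧ (∀ k, 0 ≤ v k) ∧ 0 < v 1 := by
  have h1 : ∀ v ∈ SAb ++ SBb ++ SZb, v ∈ LB ∧ (∀ k, 0 ≤ v k) ∧ 0 < v 1 := by decide +kernel
  intro v hv
  refine h1 v ?_
  rw [List.mem_append, List.mem_append]
  tauto
theorem mapB : ∀ v ∈ SAb, wl (TypeC.A 3) [0, 2] v ∈ SBb := by decide +kernel
theorem mapB' : ∀ v ∈ SBb, wl (TypeC.A 3) [0, 2] v ∈ SAb ∧
    wl (TypeC.A 3) [0, 2] (wl (TypeC.A 3) [0, 2] v) = v := by decide +kernel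
theorem closB : ∀ v ∈ LB', 0 < v 0 → v 1 = v 0 → v ∈ SAb := by decide +kernel
theorem SA_eq : ∀ v ∈ SAb, 0 < v 0 ∧ v 1 = v 0 := by decide +kernel
theorem fAB : (∀ v ∈ SAb, 0 < 3 * v 0 - 2 * v 1) ∧ (∀ v ∈ SBb, 3 * v 0 - 2 * v 1 < 0) ∧
    ∀ v ∈ SZb, 3 * v 0 - 2 * v 1 < 0 := by decide +kernel
theorem fBB : (∀ v ∈ SBb, 0 < v 1 - 3 * v 0) ∧ ∀ v ∈ SZb, v 1 - 3 * v 0 < 0 := by decide +kernel

theorem ipAA : ∀ r ∈ SAb, ∀ s ∈ SAb, (r = s ∧ r = ![2, 2, 1]) ∨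
    (0 ≤ ip (ee r) (ee s) ∧ (ip (ee r) (ee r) = 2 ∨ ip (ee s) (ee s) = 2)) := by decide +kernel
theorem ipAZ : ∀ r ∈ SAb, ∀ s ∈ SZb, 0 ≤ ip (ee r) (ee s) ∧ ip (ee s) (ee s) = 2 := by decide +kernel
theorem ipBZ : ∀ r ∈ SBb, ∀ s ∈ SZb, 0 ≤ ip (ee r) (ee s) ∧ ip (ee s) (ee s) = 2 := by decide +kernel
theorem ipZZ : ∀ r ∈ SZb, ∀ s ∈ SZb, 0 ≤ ip (ee r) (ee s) ∧ ip (ee s) (ee s) = 2 := by decide +kernel
theorem ipAB : ∀ r ∈ SAb, ∀ s ∈ SBb, (0 ≤ ip (ee r) (ee s) ∧ (ip (ee r) (ee r) = 2 ∨ ip (ee s) (ee s) = 2)) ∨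
    (r = ![2, 2, 1] ∧ s = ![0, 2, 1]) ∨ (r = ![1, 1, 1] ∧ s = ![0, 1, 0]) ∨ (r = ![1, 1, 0] ∧ s = ![0, 1, 1]) := by
  decide +kernel

theorem rt1 : rt ((0 : Fin 3), true) (2, true) = ![1, 1, 1] ∧ rt (ng ((2 : Fin 3), true)) (1, true) = ![0, 1, 0] ∧
    rt ((0 : Fin 3), true) (2, false) = ![1, 1, 0] ∧ rt (ng ((2 : Fin 3), false)) (1, true) = ![0, 1, 1] ∧
    rt ((0 : Fin 3), true) (0, true) = ![2, 2, 1] ∧ rt ((1 : Fin 3), true) (1, true) = ![0, 2, 1] ∧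
    rt ((0 : Fin 3), true) (1, true) = ![1, 2, 1] := by decide +kernel

section

variable {W K : Type*} [Group W] [Fintype W] [Group K] {cs : CoxeterSystem (CoxeterMatrix.B 3) W} {p : ℕ}
  {T : Subgroup K} {nn : Fin 3 → K} {X : (Fin 3 → ℤ) → Subgroup K} {x d : MulAut K} {φ : W ≃* W}
  {σ : Fin 3 → Fin 3} {J : Set (Fin 3)} {g : K} [Fact p.Prime] [Finite K]
  (N : NF cs (isCartan 3) p T nn X x d φ σ J g) {z : (Fin 3 → ℤ) → K}
  (C : Cls cs (isCartan 3) p T nn X (RB 3) X z)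

include C in
theorem cent_ip {r s : Fin 3 → ℤ} (hr : IsRoot cs (isCartan 3) r) (hs : IsRoot cs (isCartan 3) s)
    (h0 : 0 ≤ ip (ee r) (ee s)) (h2 : ip (ee r) (ee r) = 2 ∨ ip (ee s) (ee s) = 2) :
    ∀ a ∈ X r, ∀ b ∈ X s, a * b = b * a := by
  intro a ha b hb
  have f0 : 0 ≤ form cs (isCartan 3) r s := (form_nonneg_iff cs hs).2 h0
  rcases h2 with h2 | h2
  · exact (C.cent r ((mem_RB_iff_ip cs hr).2 h2) s hs (by rwa [form_comm]) b hb a ha).symm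
  · exact C.cent s ((mem_RB_iff_ip cs hs).2 h2) r hr f0 a ha b hb

include N C in
/-- **`Ω₈⁻(q)`** -/
theorem p_B3 (hodd : Odd p) {q : ℕ} (hq0 : Nat.card (X (sr 0)) = q) (hq1 : Nat.card (X (sr 1)) = q)
    (hq2 : Nat.card (X (sr 2)) = q ^ 2) (hexp : ∀ i, ∀ u ∈ X (sr i), u ^ p = 1) (h2 : Odd q) (h1 : 1 < q)
    (hS : Syl p x (VJ cs (isCartan 3) X J)) (hN : NoO p x) : Obs p x ∨ PCase p x := by
  have H := N.nx
  have R := N.rgd
  have hσ := TypeI.sigma_id_nx H (by norm_num)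
  by_cases hno : Obs p x
  · exact Or.inl hno
  right
  rcases three N C hodd with h | hJ
  · exact absurd h hno
  have hrt : ∀ v ∈ LB, IsRoot cs (isCartan 3) v := isRoot_list LB_chk
  have hrt' : ∀ v, (v ∈ SAb ∨ v ∈ SBb ∨ v ∈ SZb) → IsRoot cs (isCartan 3) v := fun v hv => hrt v (covB' v hv).1
  have hJl : ∀ k, k ∈ J ↔ k ∈ [(0 : Fin 3), 2] := by
    intro k
    rw [hJ]
    simp
  have hm : ∀ v ∈ LB, (X v).map x.toMonoidHom = X (wl (TypeC.A 3) [0, 2] v) := fun v hv => by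
    rw [TypeI.map_root H hσ (hrt v hv), rep_wl H hJl]
  have hθ : (X ![1, 2, 1]).map x.toMonoidHom = X ![1, 2, 1] := by
    rw [hm _ (by decide)]; congr 1; decide +kernel
  obtain ⟨r1, r2, r3, r4, r5, r6, r7⟩ := rt1
  have hAθ : A2 cs (isCartan 3) ![1, 2, 1] (rt (ng ((1 : Fin 3), true)) (2, true)) := by
    have h3 := a2_rt cs (x := ((0 : Fin 3), true)) (y := (1, true)) (z := (2, true)) (by decide) (by decide) (by decide)
    rwa [r7] at h3
  have hinv := inv_of_not_obs R hodd N.xx hAθ hθ (x_neg H (hrt _ (by decide)) (hrt _ (by decide)) hθ) hno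
  have hab : ∀ a ∈ X ![2, 2, 1], ∀ b ∈ X ![2, 2, 1], a * b = b * a := by
    have hs : (![1, 2, 1] : Fin 3 → ℤ) ∈ RB 3 := by rw [← r7]; exact rt_mem_RB (by decide)
    refine comm_of_z C hs (hrt _ (by decide)) (by decide +kernel) (by decide +kernel) ?_
    rw [Ne, form_eq_zero_iff cs (hrt _ (by decide))]
    decide +kernel
  have hle : X ![1, 2, 1] ≤ Sup X {v | v ∈ SZb} := le_Sup (by simp [SZb])
  have pairA2 : ∀ {r s : Fin 3 → ℤ}, A2 cs (isCartan 3) r s → r + s = ![1, 2, 1] → ∀ a ∈ X r, ∀ b ∈ X s,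
      ∃ z ∈ Sup X {v | v ∈ SZb}, b * a = a * b * z := by
    intro r s hA e a ha b hb
    refine ⟨⁅b⁻¹, a⁻¹⁆, hle ?_, by rw [commutatorElement_def]; group⟩
    rw [← e, add_comm]
    exact A2.comm_mem R hA.symm (inv_mem hb) (inv_mem ha)
  have S : Sets cs (isCartan 3) X p x ((SAb.toFinset : Finset (Fin 3 → ℤ)) : Set (Fin 3 → ℤ))
      {v | v ∈ SBb} {v | v ∈ SZb} := by
    have mA : ∀ r, r ∈ ((SAb.toFinset : Finset (Fin 3 → ℤ)) : Set (Fin 3 → ℤ)) → r ∈ SAb :=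
      fun r hr => by simpa using hr
    have cAZ : ∀ r ∈ SAb, ∀ s ∈ SZb, ∀ a ∈ X r, ∀ b ∈ X s, a * b = b * a := fun r hr s hs =>
      cent_ip C (hrt' _ (Or.inl hr)) (hrt' _ (Or.inr (Or.inr hs))) (ipAZ r hr s hs).1 (Or.inr (ipAZ r hr s hs).2)
    have cBZ : ∀ r ∈ SBb, ∀ s ∈ SZb, ∀ a ∈ X r, ∀ b ∈ X s, a * b = b * a := fun r hr s hs =>
      cent_ip C (hrt' _ (Or.inr (Or.inl hr))) (hrt' _ (Or.inr (Or.inr hs))) (ipBZ r hr s hs).1
        (Or.inr (ipBZ r hr s hs).2)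
    refine ⟨?_, ?_, ?_, ?_, ?_, ?_, ?_, ?_, ?_, ?_, ?_, ?_, ?_, ?_⟩
    · exact fun r hr => hrt' r (Or.inl (mA r hr))
    · exact fun r hr => hrt' r (Or.inr (Or.inl hr))
    · exact fun r hr => hrt' r (Or.inr (Or.inr hr))
    · intro r hr
      exact ⟨_, mapB r (mA r hr), hm r (covB' r (Or.inl (mA r hr))).1⟩
    · intro s hs
      obtain ⟨h3, h4⟩ := mapB' s hs
      exact ⟨_, by simpa using h3, by rw [hm _ (covB' _ (Or.inl h3)).1, h4]⟩
    · intro r hr s hs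
      rcases ipAA r (mA r hr) s (mA s hs) with ⟨rfl, rfl⟩ | ⟨h3, h4⟩
      · exact hab
      · exact cent_ip C (hrt' _ (Or.inl (mA r hr))) (hrt' _ (Or.inl (mA s hs))) h3 h4
    · intro r hr s hs
      exact cent_ip C (hrt' _ (Or.inr (Or.inr hr))) (hrt' _ (Or.inr (Or.inr hs))) (ipZZ r hr s hs).1
        (Or.inr (ipZZ r hr s hs).2)
    · exact fun r hr s hs => cAZ r (mA r hr) s hs
    · exact fun r hr s hs => cBZ r hr s hs
    · intro r hr s hs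
      have hr' := mA r hr
      rcases ipAB r hr' s hs with ⟨h3, h4⟩ | ⟨rfl, rfl⟩ | ⟨rfl, rfl⟩ | ⟨rfl, rfl⟩
      · intro a ha b hb
        exact ⟨1, one_mem _, by
          rw [mul_one]
          exact (cent_ip C (hrt' _ (Or.inl hr')) (hrt' _ (Or.inr (Or.inl hs))) h3 h4 a ha b hb).symm⟩
      · intro a ha b hb
        have hsq := sq_three (cs := cs)
        rw [r5, r6, r7] at hsq
        obtain ⟨w, hw, e⟩ := comm_rr C hsq hb ha
        refine ⟨w, hle hw, ?_⟩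
        have e1 := cAZ _ hr' ![1, 2, 1] (by simp [SZb]) a ha w hw
        have e2 := cBZ _ hs ![1, 2, 1] (by simp [SZb]) b hb w hw
        rw [e, mul_assoc a b w, e2, ← mul_assoc, ← mul_assoc, e1]
      · refine pairA2 ?_ (by decide +kernel)
        have h3 := a2_rt cs (x := ((0 : Fin 3), true)) (y := (2, true)) (z := (1, true)) (by decide) (by decide)
          (by decide)
        rwa [r1, r2] at h3
      · refine pairA2 ?_ (by decide +kernel)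
        have h3 := a2_rt cs (x := ((0 : Fin 3), true)) (y := (2, false)) (z := (1, true)) (by decide) (by decide)
          (by decide)
        rwa [r3, r4] at h3
    · intro r hr
      have h3 : r = ![1, 2, 1] := by simpa [SZb] using hr
      rw [h3]; exact hinv
    · intro r hr
      exact exp_all R hexp (hrt' r (Or.inl (mA r hr)))
    · refine ⟨3 • Pi.evalAddMonoidHom (fun _ : Fin 3 => ℤ) 0 - 2 • Pi.evalAddMonoidHom (fun _ : Fin 3 => ℤ) 1, ?_, ?_, ?_⟩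
      · intro r hr
        simpa using fAB.1 r (mA r hr)
      · intro r hr
        simpa using fAB.2.1 r hr
      · intro r hr
        simpa using fAB.2.2 r hr
    · refine ⟨Pi.evalAddMonoidHom (fun _ : Fin 3 => ℤ) 1 - 3 • Pi.evalAddMonoidHom (fun _ : Fin 3 => ℤ) 0, ?_, ?_⟩
      · intro r hr
        simpa using fBB.1 r hr
      · intro r hr
        simpa using fBB.2 r hr
  refine S.pcase R hodd N.xx ?_ hS hN ?_ (a := q ^ 2) ?_ (Or.inl ?_) ?_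
  · ext v
    constructor
    · rintro ⟨hv, hv0, k, hk, hk0⟩
      rcases covB v (mem_list LB' LB_sr LB_rf hv) hv0 ⟨k, fun h => hk ((hJl k).2 h), hk0⟩ with h2 | h2 | h2
      · left; left; simpa using h2
      · left; right; exact h2
      · right; exact h2
    · intro hv
      have h3 : v ∈ SAb ∨ v ∈ SBb ∨ v ∈ SZb := by
        rcases hv with (hv | hv) | hv
        · left; simpa using hv
        · right; left; exact hv
        · right; right; exact hv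
      obtain ⟨h4, h5, h6⟩ := covB' v h3
      exact ⟨hrt v h4, h5, 1, by rw [hJ]; decide, h6⟩
  · intro r hr s hs t ht
    obtain ⟨htr, m, a, b, hm0, ha, hb, he⟩ := ht
    have hr' : r ∈ SAb := by simpa using hr
    have hs' : s ∈ SAb := by simpa using hs
    obtain ⟨r0, r1'⟩ := SA_eq r hr'
    obtain ⟨s0, s1'⟩ := SA_eq s hs'
    have e0 := congrFun he 0
    have e1 := congrFun he 1
    simp only [Pi.smul_apply, Pi.add_apply, smul_eq_mul] at e0 e1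
    have t0 : 0 < t 0 := by
      have h3 : 0 < m * t 0 := by rw [e0]; positivity
      exact (mul_pos_iff_of_pos_left hm0).1 h3
    have t1 : t 1 = t 0 := by
      have h3 : m * t 1 = m * t 0 := by rw [e0, e1, r1', s1']
      exact mul_left_cancel₀ hm0.ne' h3
    simpa using closB t (mem_list LB' LB_sr LB_rf htr) t0 t1
  · have hc : ∀ (v : Fin 3 → ℤ) (i : Fin 3) (w : W), rep cs (isCartan 3) w (sr i) = v →
        Nat.card (X v) = Nat.card (X (sr i)) := by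
      rintro _ i w rfl
      exact CardSup.card_X_rep R w (isRoot_sr cs _ i)
    have c1 : Nat.card (X ![2, 2, 1]) = q ^ 2 := by
      rw [hc _ 2 (cs.simple 0 * cs.simple 1) (by
        rw [rep_mul_apply, rep_simple_eq, rep_simple_eq]; decide +kernel), hq2]
    have c2 : Nat.card (X ![1, 1, 1]) = q := by
      rw [hc _ 1 (cs.simple 0 * cs.simple 2) (by
        rw [rep_mul_apply, rep_simple_eq, rep_simple_eq]; decide +kernel), hq1]
    have c3 : Nat.card (X ![1, 1, 0]) = q := by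
      rw [hc _ 1 (cs.simple 0) (by rw [rep_simple_eq]; decide +kernel), hq1]
    have h3 : SAb.toFinset = {![2, 2, 1], ![1, 1, 1], ![1, 1, 0]} := by
      simp [SAb]
    rw [h3, Finset.prod_insert (by decide +kernel), Finset.prod_pair (by decide +kernel), c1, c2, c3]
    ring
  · obtain ⟨k, rfl⟩ := h2
    have h3 : (2 * k + 1) ^ 2 = 4 * (k * (k + 1)) + 1 := by ring
    obtain ⟨m, hm⟩ := Nat.even_mul_succ_self k
    rw [h3, show k * (k + 1) = k * k.succ from rfl, hm]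
    omega
  · nlinarith

end

end Cfsg.Agent.H286.PB3
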