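import Cfsg.Agent.H286.Row
import Cfsg.Agent.H31.OddNFP

/-!
# `Row` from the normal forms of the involutory automorphisms
-/

set_option autoImplicit false
set_option linter.unusedSectionVars false

namespace Cfsg.Agent.H286.RowOf

open CoxeterSystem Cfsg.Agent.ChevalleyStructure.CoxeterGeom Cfsg.Agent.Tits.Roots Cfsg.Agent.Tits.Core
  Cfsg.Agent.Tits.RootComb Cfsg.Agent.Nodes.Comb Cfsg.Agent.Nodes.Reps Cfsg.Agent.Nodes.BNOf Cfsg.Agent.Nodes.BNOf.RGD
  Cfsg.Agent.Nodes.RGDLib Cfsg.Agent.UGT.U2.FOne Cfsg.Agent.H286.Obs Cfsg.Agent.H286.Row Cfsg.Agent.Nodes.LeviDec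

variable {I W K : Type*} [Fintype I] [DecidableEq I] [Group W] [Group K] {M : CoxeterMatrix I}
  {cs : CoxeterSystem M W} {A : I → I → ℤ} {h : IsCartan M A} {p : ℕ} {T : Subgroup K} {n : I → K}
  {X : (I → ℤ) → Subgroup K} [Finite W] [Finite K]

/-- **`Row` from the normal forms.** -/
theorem row_of_nf [IsSimpleGroup K] [hp : Fact p.Prime] (hp2 : p ≠ 2) (R : RGD cs h p T n X) (hG : G1 cs h X = ⊤)
    (hrow : ∀ (x : MulAut K) (φ : W ≃* W) (σ : I → I) (J : Set I) (g : K), NF cs h p T n X x 1 φ σ J g →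
      Syl p x (VJ cs h X J) → NoO p x → Obs p x ∨ SectionalPRankLE 2 4 K ∨ PCase p x) : Row p K := by
  intro x hxx hx1
  obtain ⟨k, x', φ, σ, J, g, hx', N, h1, h2⟩ := Cfsg.Agent.H31.OddNFP.exists_nf hp2 R hG x hxx hx1
  rcases hrow x' φ σ J g N h1 h2 with h3 | h3 | h3
  · rw [← hx']; exact Or.inl (obs_congr _ h3)
  · exact Or.inr (Or.inl h3)
  · rw [← hx']; exact Or.inr (Or.inr (pcase_congr _ h3))

/-- **`Row` from the normal forms**, if always `Obs`. -/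
theorem row_of_obs [IsSimpleGroup K] [hp : Fact p.Prime] (hp2 : p ≠ 2) (R : RGD cs h p T n X) (hG : G1 cs h X = ⊤)
    (hrow : ∀ (x : MulAut K) (φ : W ≃* W) (σ : I → I) (J : Set I) (g : K), NF cs h p T n X x 1 φ σ J g → Obs p x) :
    Row p K :=
  row_of_nf hp2 R hG fun x φ σ J g N _ _ => Or.inl (hrow x φ σ J g N)

end Cfsg.Agent.H286.RowOf
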