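import Cfsg.Agent.H286.NatB
import Cfsg.Agent.H286.RowsA
import Cfsg.Agent.OddHalf.DblR.SheetMinus

/-!
# `Obs` for the orthogonal groups: classical root groups = the roots `± e_i ± e_j` of a diagram `B_n`

* `typeII` : `n ≥ 4`;
* `three` : `n = 3`: `Obs` or `J = {0, 2}`;
* `seven` : `n = 3`, all root groups of the same order: `Obs`.
-/

set_option autoImplicit false
set_option linter.unusedSectionVars false

namespace Cfsg.Agent.H286.TypeII

open CoxeterSystem Cfsg.Agent.ChevalleyStructure.CoxeterGeom Cfsg.Agent.Tits.Roots Cfsg.Agent.Tits.Core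
  Cfsg.Agent.Tits.RootComb Cfsg.Agent.Tits.Exchange Cfsg.Agent.Nodes.Comb Cfsg.Agent.Nodes.Reps
  Cfsg.Agent.Nodes.BNOf Cfsg.Agent.Nodes.RGDLib Cfsg.Agent.Nodes.Bruhat Cfsg.Agent.Nodes.StabComb
  Cfsg.Agent.Nodes.OppDec Cfsg.Agent.Nodes.Coroot Cfsg.Agent.KFacts.RgdSL Cfsg.Agent.UGT.U2.FOne
  Cfsg.Agent.H286.Obs Cfsg.Agent.H286.RootObs Cfsg.Agent.H286.Comb Cfsg.Agent.H286.Chain
  Cfsg.Agent.H286.Quad Cfsg.Agent.H286.RowsA
  Cfsg.Agent.Nodes.Chart Cfsg.Agent.Nodes.Perp Cfsg.Agent.Nodes.ShortSum Cfsg.Agent.H286.SqObs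
  Cfsg.Agent.H286.TypeI Cfsg.Agent.H286.NatB
open Cfsg.Agent.Nodes Cfsg.Agent.Nodes.TypeC Cfsg.Agent.Nodes.TypeCForm Cfsg.Agent.Nodes.KindBC
open Cfsg.Agent.OddHalf.DblR.MinusComb (a2_rt)

section WJ

variable {I W K : Type*} [Fintype I] [DecidableEq I] [Group W] [Fintype W] [Group K] {M : CoxeterMatrix I}
  {cs : CoxeterSystem M W} {A : I → I → ℤ} {h : IsCartan M A} {p : ℕ} {T : Subgroup K} {n : I → K}
  {X : (I → ℤ) → Subgroup K} {x : MulAut K} {φ : W ≃* W} {σ : I → I} {J : Set I}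
  (H : NX cs h p T n X x φ σ J)

include H in
/-- `w_J` for `J = {i, j}` -/
theorem wJ_two {i j : I} (hij : i ≠ j) (hJ : J = {i, j}) (b : I → ℤ) :
    rep cs h (wJ cs J) b = rep cs h (cs.simple i) (rep cs h (cs.simple j) b) := by
  classical
  have hi : i ∈ J := by rw [hJ]; exact Or.inl rfl
  have hj : j ∈ J := by rw [hJ]; exact Or.inr rfl
  have hA : A i j = 0 := A_zero_of_comm cs h hij (H.Jcomm i hi j hj)
  funext k
  rw [rep_wJ_apply cs h H.Jcomm]
  by_cases hki : k = i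
  · subst hki
    rw [if_pos hi, rep_simple_apply_self, rep_simple_eq cs h j b]
    have e : b - pairing A j b • sr j = b + (-pairing A j b) • sr j := by module
    rw [e, pairing_add, pairing_smul, pairing_sr, hA, Pi.add_apply, Pi.smul_apply, sr_ne hij]
    simp
  · rw [rep_simple_apply cs h i _ k hki]
    by_cases hkj : k = j
    · subst hkj
      rw [if_pos hj, rep_simple_apply_self]
    · rw [rep_simple_apply cs h j _ k hkj, if_neg]
      rw [hJ]
      rintro (h1 | h1)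
      · exact hki h1
      · exact hkj h1

end WJ

section B

variable {n : ℕ} {W K : Type*} [Group W] [Fintype W] [Group K] {cs : CoxeterSystem (CoxeterMatrix.B n) W} {p : ℕ}
  {T : Subgroup K} {nn : Fin n → K} {X : (Fin n → ℤ) → Subgroup K} {x d : MulAut K} {φ : W ≃* W}
  {σ : Fin n → Fin n} {J : Set (Fin n)} {g : K}

theorem rep_rt (j : Fin n) (a b : Fin n × Bool) :
    rep cs (isCartan n) (cs.simple j) (rt a b) = rt (sg j a) (sg j b) := by
  rw [rep_simple]
  exact eq_rt (ee_refl_of (ee_rt a b))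

theorem orth_rt {a b c d : Fin n × Bool} (hcd : Ok c d) (h0 : ip (wt a + wt b) (wt c + wt d) = 0) :
    form cs (isCartan n) (rt a b) (rt c d) = 0 := by
  rw [form_eq_zero_iff cs (isRoot_rt cs hcd), ee_rt, ee_rt, h0]

theorem A_up {i j : Fin n} (hij : (i : ℕ) + 1 = j) : A n j i = -1 := by
  rw [A_apply, if_neg, if_neg, if_pos hij]
  · omega
  · intro e; rw [e] at hij; omega

theorem A_dn {i j : Fin n} (hij : (i : ℕ) + 1 = j) (hj : (j : ℕ) + 1 < n) : A n i j = -1 := by
  rw [A_apply, if_neg, if_pos hij, if_pos hj]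
  intro e; rw [e] at hij; omega

theorem A_far {i j : Fin n} (h1 : i ≠ j) (h2 : (i : ℕ) + 1 ≠ j) (h3 : (j : ℕ) + 1 ≠ i) : A n i j = 0 := by
  rw [A_apply, if_neg h1, if_neg h2, if_neg h3]

variable [Fact p.Prime] [Finite K] (N : NF cs (isCartan n) p T nn X x d φ σ J g)

include N in
/-- rank at least five -/
theorem five (hodd : Odd p) (hn : 5 ≤ n) : Obs p x := by
  obtain ⟨i0, e0⟩ : ∃ i : Fin n, (i : ℕ) = 0 := ⟨⟨0, by omega⟩, rfl⟩
  obtain ⟨i1, e1⟩ : ∃ i : Fin n, (i : ℕ) = 1 := ⟨⟨1, by omega⟩, rfl⟩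
  obtain ⟨i2, e2⟩ : ∃ i : Fin n, (i : ℕ) = 2 := ⟨⟨2, by omega⟩, rfl⟩
  obtain ⟨i3, e3⟩ : ∃ i : Fin n, (i : ℕ) = 3 := ⟨⟨3, by omega⟩, rfl⟩
  have ne : ∀ i j : Fin n, (i : ℕ) ≠ j → i ≠ j := fun i j h e => h (congrArg Fin.val e)
  have ne' : ∀ i j : Fin n, i ≠ j → (i : ℕ) ≠ j := fun i j h e => h (Fin.ext e)
  refine obs_chain hodd N (i0 := i0) (i1 := i1) (i2 := i2) (i3 := i3) (ne _ _ (by omega)) (ne _ _ (by omega))
    (ne _ _ (by omega)) (A_dn (by omega) (by omega)) (A_up (by omega)) (A_dn (by omega) (by omega)) (A_up (by omega))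
    (A_dn (by omega) (by omega)) (A_up (by omega)) ?_ ?_
  · intro k h0 h1
    have h0' := ne' _ _ h0
    have h1' := ne' _ _ h1
    exact A_far h0 (by omega) (by omega)
  · intro k h0 h1 h2
    have h0' := ne' _ _ h0
    have h1' := ne' _ _ h1
    have h2' := ne' _ _ h2
    exact A_far h1 (by omega) (by omega)

variable {z : (Fin n → ℤ) → K} (C : Cls cs (isCartan n) p T nn X (RB n) X z)

theorem two_ne_zero' {a b : Fin n × Bool} (hab : a.1 ≠ b.1) : form cs (isCartan n) (rt b b) (rt a b) ≠ 0 := by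
  rw [Ne, form_eq_zero_iff cs (isRoot_rt cs (Or.inl hab)), ee_rt, ee_rt, ip_add_wt, Pi.add_apply, Pi.add_apply,
    wt_apply, wt_apply, if_neg hab, if_pos rfl]
  unfold sn
  rcases b with ⟨b, s⟩
  cases s <;> simp

/-- the involutions of two orthogonal long roots with disjoint supports -/
theorem sep_two (hp : p.Prime) (hodd : p ≠ 2) {a b a' b' : Fin n × Bool} (hab : a.1 ≠ b.1) (hab' : a'.1 ≠ b'.1)
    (h1 : b.1 ≠ a'.1) (h2 : b.1 ≠ b'.1) (C : Cls cs (isCartan n) p T nn X (RB n) X z) :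
    Sep X z (rt a b) (rt a' b') := by
  refine sep_of_root C hp hodd (rt_mem_RB hab) (rt_mem_RB hab') (y := rt b b) (isRoot_rt cs (Or.inr rfl)) ?_
    (two_ne_zero' hab) ?_ ?_
  · refine orth_rt (Or.inl hab') ?_
    rw [ip_add_wt, Pi.add_apply, Pi.add_apply, wt_apply, wt_apply, if_neg h1.symm, if_neg h2.symm]
    ring
  · intro e
    have h3 := congrArg (fun x => ee x a.1) e
    simp only [ee_rt, Pi.add_apply, wt_apply] at h3
    rw [if_neg hab] at h3
    rcases a with ⟨a, s⟩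
    cases s <;> simp at h3
  · intro e
    have h3 := congrArg (fun x => ee x a.1) e
    simp only [ee_neg, ee_rt, Pi.add_apply, Pi.neg_apply, wt_apply] at h3
    rw [if_neg hab] at h3
    rcases a with ⟨a, s⟩
    cases s <;> simp at h3

end B

section Four

variable {W K : Type*} [Group W] [Fintype W] [Group K] {cs : CoxeterSystem (CoxeterMatrix.B 4) W} {p : ℕ}
  {T : Subgroup K} {nn : Fin 4 → K} {X : (Fin 4 → ℤ) → Subgroup K} {x d : MulAut K} {φ : W ≃* W}
  {σ : Fin 4 → Fin 4} {J : Set (Fin 4)} {g : K} [Fact p.Prime] [Finite K]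
  (N : NF cs (isCartan 4) p T nn X x d φ σ J g) {z : (Fin 4 → ℤ) → K}
  (C : Cls cs (isCartan 4) p T nn X (RB 4) X z)

include N C in
theorem four (hodd : Odd p) : Obs p x := by
  have hp : p.Prime := Fact.out
  have hp2 : p ≠ 2 := by rintro rfl; exact absurd hodd (by decide)
  have H := N.nx
  have hσ := sigma_id_nx H (by norm_num)
  have h01 : A 4 0 1 = -1 := by decide
  have h10 : A 4 1 0 = -1 := by decide
  have h12 : A 4 1 2 = -1 := by decide
  have h21 : A 4 2 1 = -1 := by decide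
  rcases chain3 hodd N (i0 := 0) (i1 := 1) (i2 := 2) h01 h10 h12 h21 (by decide) (by decide) (hσ 0) (hσ 1) with
    h1 | ⟨m0, m1, m2⟩
  · exact h1
  have m3 : (3 : Fin 4) ∉ J := J_sep H m2 (by decide)
  have hJ : J = {0, 2} := by
    ext k
    fin_cases k
    · exact ⟨fun _ => Or.inl rfl, fun _ => m0⟩
    · exact ⟨fun h => absurd h m1, fun h => by rcases h with h | h <;> exact absurd h (by decide)⟩
    · exact ⟨fun _ => Or.inr rfl, fun _ => m2⟩
    · exact ⟨fun h => absurd h m3, fun h => by rcases h with h | h <;> exact absurd h (by decide)⟩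
  have key : ∀ a b : Fin 4 × Bool, Ok a b → (X (rt a b)).map x.toMonoidHom =
      X (rt (sg 0 (sg 2 a)) (sg 0 (sg 2 b))) := by
    intro a b hab
    rw [map_root H hσ (isRoot_rt cs hab), wJ_two H (by decide) hJ, rep_rt, rep_rt]
  obtain ⟨a, ha⟩ : ∃ a : Fin 4 × Bool, a = (0, true) := ⟨_, rfl⟩
  obtain ⟨b, hb⟩ : ∃ b : Fin 4 × Bool, b = (2, false) := ⟨_, rfl⟩
  obtain ⟨a', ha'⟩ : ∃ a : Fin 4 × Bool, a = (1, true) := ⟨_, rfl⟩
  obtain ⟨b', hb'⟩ : ∃ b : Fin 4 × Bool, b = (3, false) := ⟨_, rfl⟩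
  have s1 : sg 0 (sg 2 a) = a' := by rw [ha, ha']; decide
  have s2 : sg 0 (sg 2 b) = b' := by rw [hb, hb']; decide
  have s3 : sg 0 (sg 2 (ng a)) = ng a' := by rw [ha, ha']; decide
  have s4 : sg 0 (sg 2 (ng b)) = ng b' := by rw [hb, hb']; decide
  have hab : a.1 ≠ b.1 := by rw [ha, hb]; decide
  have hab' : a'.1 ≠ b'.1 := by rw [ha', hb']; decide
  have haa' : a'.1 ≠ a.1 := by rw [ha, ha']; decide
  have hba' : b.1 ≠ a'.1 := by rw [hb, ha']; decide
  have hbb' : b.1 ≠ b'.1 := by rw [hb, hb']; decide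
  have hab'' : a.1 ≠ b'.1 := by rw [ha, hb']; decide
  refine obs_swapZ C H.xx hp (rt_mem_RB hab) (rt_mem_RB hab') ?_ (by rw [key a b (Or.inl hab), s1, s2]) ?_
    (sep_two hp hp2 hab hab' hba' hbb' C)
  · refine orth_rt (Or.inl hab') ?_
    rw [ip_add_wt, Pi.add_apply, Pi.add_apply, wt_apply, wt_apply, wt_apply, wt_apply, if_neg haa',
      if_neg hba'.symm, if_neg hab''.symm, if_neg hbb'.symm]
    ring
  · rw [← rt_ng, ← rt_ng, key (ng a) (ng b) (Or.inl hab), s3, s4]

end Four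

section Three

variable {W K : Type*} [Group W] [Fintype W] [Group K] {cs : CoxeterSystem (CoxeterMatrix.B 3) W} {p : ℕ}
  {T : Subgroup K} {nn : Fin 3 → K} {X : (Fin 3 → ℤ) → Subgroup K} {x d : MulAut K} {φ : W ≃* W}
  {σ : Fin 3 → Fin 3} {J : Set (Fin 3)} {g : K} [Fact p.Prime] [Finite K]
  (N : NF cs (isCartan 3) p T nn X x d φ σ J g) {z : (Fin 3 → ℤ) → K}
  (C : Cls cs (isCartan 3) p T nn X (RB 3) X z)

include N in
theorem three_key (hJ : J = {0, 2}) (a b : Fin 3 × Bool) (hab : Ok a b) : (X (rt a b)).map x.toMonoidHom =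
    X (rt (sg 0 (sg 2 a)) (sg 0 (sg 2 b))) := by
  have H := N.nx
  rw [map_root H (sigma_id_nx H (by norm_num)) (isRoot_rt cs hab), wJ_two H (by decide) hJ, rep_rt, rep_rt]

include N C in
theorem three (hodd : Odd p) : Obs p x ∨ J = {0, 2} := by
  have hp : p.Prime := Fact.out
  have H := N.nx
  have R := N.rgd
  have hσ := sigma_id_nx H (by norm_num)
  have h01 : A 3 0 1 = -1 := by decide
  have h10 : A 3 1 0 = -1 := by decide
  have c0 : ∀ k : Fin 3, k ≠ 0 → k ≠ 1 → A 3 k 0 = 0 := by decide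
  have c1 : ∀ k : Fin 3, k ≠ 0 → k ≠ 1 → k ≠ 2 → A 3 k 1 = 0 := by decide
  by_cases m1 : (1 : Fin 3) ∈ J
  · have m0 : (0 : Fin 3) ∉ J := fun h => J_sep H h (by decide : ((0 : Fin 3) : ℕ) + 1 = (1 : Fin 3)) m1
    exact (false_one N m0 (hσ 0) m1 h10 h01 fun k hk hk1 => c0 k (fun e => m0 (e ▸ hk)) hk1).elim
  by_cases m0 : (0 : Fin 3) ∈ J
  · by_cases m2 : (2 : Fin 3) ∈ J
    · right
      ext k
      fin_cases k
      · exact ⟨fun _ => Or.inl rfl, fun _ => m0⟩
      · exact ⟨fun h => absurd h m1, fun h => by rcases h with h | h <;> exact absurd h (by decide)⟩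
      · exact ⟨fun _ => Or.inr rfl, fun _ => m2⟩
    · exact (false_one N m1 (hσ 1) m0 h01 h10 fun k hk hk0 =>
        c1 k hk0 (fun e => m1 (e ▸ hk)) (fun e => m2 (e ▸ hk))).elim
  · by_cases m2 : (2 : Fin 3) ∈ J
    · left
      have hfix : ∀ a b : Fin 3 × Bool, Ok a b → (X (rt a b)).map x.toMonoidHom = X (rt (sg 2 a) (sg 2 b)) := by
        intro a b hab
        rw [map_root H hσ (isRoot_rt cs hab), wJ_one H m2 (fun k hk hk2 => ?_), rep_rt]
        fin_cases k
        · exact absurd hk m0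
        · exact absurd hk m1
        · exact absurd rfl hk2
      obtain ⟨a, ha⟩ : ∃ a : Fin 3 × Bool, a = (0, true) := ⟨_, rfl⟩
      obtain ⟨b, hb⟩ : ∃ b : Fin 3 × Bool, b = (1, true) := ⟨_, rfl⟩
      obtain ⟨c, hc⟩ : ∃ b : Fin 3 × Bool, b = (2, true) := ⟨_, rfl⟩
      have sa : sg 2 a = a := by rw [ha]; decide
      have sb : sg 2 b = b := by rw [hb]; decide
      have sc : sg 2 c = ng c := by rw [hc]; decide
      have sa' : sg 2 (ng a) = ng a := by rw [ha]; decide
      have sb' : sg 2 (ng b) = ng b := by rw [hb]; decide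
      have sc' : sg 2 (ng c) = c := by rw [hc]; decide
      have hab : a.1 ≠ b.1 := by rw [ha, hb]; decide
      have hac : a.1 ≠ c.1 := by rw [ha, hc]; decide
      have hbc : b.1 ≠ c.1 := by rw [hb, hc]; decide
      have ncc : (ng c).1 = c.1 := rfl
      -- `c = a - c`, `c' = a + c`, `d = b + c`, `d' = b - c`
      have e1 : rt a (ng c) + rt b c = rt a c + rt b (ng c) := by
        apply ee_injective
        rw [ee_add, ee_add, ee_rt, ee_rt, ee_rt, ee_rt]; abel
      have hcm : ∀ {u v u' v' : Fin 3 × Bool}, u.1 ≠ v.1 → u'.1 ≠ v'.1 → ip (wt u + wt v) (wt u' + wt v') = 0 →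
          ∀ e, e ∈ X (rt u v) ∨ e ∈ X (-rt u v) → ∀ f, f ∈ X (rt u' v') ∨ f ∈ X (-rt u' v') → Commute e f := by
        intro u v u' v' h1 h2 h0 e he f hf
        have f0 : form cs (isCartan 3) (rt u v) (rt u' v') = 0 := orth_rt (Or.inl h2) h0
        have r1 := isRoot_rt cs (Or.inl h1 : Ok u v)
        have r2 := rt_mem_RB h2
        rcases he with he | he <;> rcases hf with hf | hf
        · exact C.cent _ r2 _ r1 f0.ge e he f hf
        · exact C.cent _ (neg_mem C r2) _ r1 (by rw [form_neg_right, f0, neg_zero]) e he f hf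
        · exact C.cent _ r2 _ r1.neg (by rw [form_neg_left, f0, neg_zero]) e he f hf
        · exact C.cent _ (neg_mem C r2) _ r1.neg (by rw [form_neg_left, form_neg_right, f0, neg_zero, neg_zero]) e he
            f hf
      have hip : ∀ u v : Fin 3 × Bool, u.1 ≠ v.1 → ip (wt u + wt v) (wt u + wt (ng v)) = 0 := by
        intro u v h1
        have h2 := ip_wt_ng (ng v)
        rw [ng_ng] at h2
        rw [ip_add_left, ip_add_right, ip_add_right, ip_wt_self, h2, ip_wt_ne h1.symm,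
          ip_wt_ne (a := u) (b := ng v) h1]
        norm_num
      have hr1 : rt (ng a) (ng (ng c)) = -rt a (ng c) := rt_ng a (ng c)
      have hr2 : rt (ng a) (ng c) = -rt a c := rt_ng a c
      have hr3 : rt (ng b) (ng (ng c)) = -rt b (ng c) := rt_ng b (ng c)
      have hr4 : rt (ng b) (ng c) = -rt b c := rt_ng b c
      refine obs_quad hodd R N.xx (c := rt a (ng c)) (c' := rt a c) (d := rt b c) (d' := rt b (ng c))
        ?_ ?_ ?_ ?_ e1 ?_ ?_ ?_ ?_ ?_ ?_
      · have := a2_rt cs (x := a) (y := ng c) (z := b) hac hab hbc.symm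
        rwa [ng_ng, rt_comm c b] at this
      · have := a2_rt cs (x := a) (y := c) (z := b) hac hab hbc.symm
        rwa [rt_comm (ng c) b] at this
      · have := a2_rt cs (x := a) (y := ng c) (z := ng b) hac hab hbc.symm
        rw [rt_comm _ (ng b), hr3] at this
        exact this
      · have := a2_rt cs (x := a) (y := c) (z := ng b) hac hab hbc.symm
        rw [rt_comm _ (ng b), hr4] at this
        exact this
      · exact fun e he f hf => (hcm hac (show a.1 ≠ (ng c).1 from hac) (hip a c hac) f hf e he).symm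
      · exact hcm hbc (show b.1 ≠ (ng c).1 from hbc) (hip b c hbc)
      · rw [hfix a (ng c) (Or.inl hac), sa, sc']
      · rw [← hr1, ← hr2, hfix (ng a) (ng (ng c)) (Or.inl hac), sa', ng_ng, sc]
      · rw [hfix b c (Or.inl hbc), sb, sc]
      · rw [← hr4, ← hr3, hfix (ng b) (ng c) (Or.inl hbc), sb', sc', ng_ng]
    · left
      exact obs_two hodd N m0 m1 (hσ 0) (hσ 1) h10 h01 (fun k hk => c0 k (fun e => m0 (e ▸ hk)) (fun e => m1 (e ▸ hk)))
        (fun k hk => c1 k (fun e => m0 (e ▸ hk)) (fun e => m1 (e ▸ hk)) (fun e => m2 (e ▸ hk)))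

theorem sq_three : Sq cs (isCartan 3) 2 (rt ((1 : Fin 3), true) (1, true)) (rt ((0 : Fin 3), true) (0, true))
    (rt ((0 : Fin 3), true) (1, true)) (sr 0) := by
  have h01 : (((0 : Fin 3), true) : Fin 3 × Bool).1 ≠ ((1 : Fin 3), true).1 := by decide
  refine ⟨by norm_num, isRoot_rt cs (Or.inr rfl), isRoot_rt cs (Or.inr rfl), isRoot_rt cs (Or.inl h01),
    isRoot_sr cs _ 0, ?_, ?_, ?_, ?_⟩
  · exact orth_rt (Or.inr rfl) (by decide)
  · have h1 : rep cs (isCartan 3) (cs.simple 0) (rt ((0 : Fin 3), true) (0, true)) =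
        rt ((1 : Fin 3), true) (1, true) := by
      rw [rep_rt]
      congr 1
    rw [← h1, form_rep]
  · apply ee_injective
    rw [two_smul, ee_add, ee_add, ee_rt, ee_rt, ee_rt]
    abel
  · apply ee_injective
    rw [two_smul, sub_eq_add_neg, ee_add, ee_add, ee_neg, ee_sr, ee_rt, ee_rt]
    decide

include N C in
/-- **`Ω₇(q)`.** -/
theorem seven (hodd : Odd p) (hcard : Nat.card (X (sr 0)) = Nat.card (X (rt ((1 : Fin 3), true) (1, true)))) :
    Obs p x := by
  have hp : p.Prime := Fact.out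
  have hp2 : p ≠ 2 := by rintro rfl; exact absurd hodd (by decide)
  rcases three N C hodd with h1 | hJ
  · exact h1
  have key := three_key N hJ
  have h01 : (((0 : Fin 3), true) : Fin 3 × Bool).1 ≠ ((1 : Fin 3), true).1 := by decide
  refine (false_of_natB C sq_three (rt_mem_RB h01) ?_ hp hp2 ?_ hcard N (by rw [hJ]; exact Or.inl rfl) ?_ ?_).elim
  · rw [sr_eq_rt]
    refine rt_mem_RB ?_
    decide
  · rw [rep_rt]
    congr 1
  · rw [key _ _ (Or.inr rfl)]
    congr 1
  · rw [key _ _ (Or.inl h01), rt_comm]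
    congr 1

end Three

section Main

variable {n : ℕ} {W K : Type*} [Group W] [Fintype W] [Group K] {cs : CoxeterSystem (CoxeterMatrix.B n) W} {p : ℕ}
  {T : Subgroup K} {nn : Fin n → K} {X : (Fin n → ℤ) → Subgroup K} {x d : MulAut K} {φ : W ≃* W}
  {σ : Fin n → Fin n} {J : Set (Fin n)} {g : K} [Fact p.Prime] [Finite K]
  (N : NF cs (isCartan n) p T nn X x d φ σ J g) {z : (Fin n → ℤ) → K}
  (C : Cls cs (isCartan n) p T nn X (RB n) X z)

include N C in
/-- **Type II, rank at least four.** -/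
theorem typeII (hodd : Odd p) (hn : 4 ≤ n) : Obs p x := by
  rcases hn.eq_or_lt with rfl | h
  · exact four N C hodd
  · exact five N hodd h

end Main

end Cfsg.Agent.H286.TypeII
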