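import Cfsg.Agent.H286.RootObs
import Cfsg.Agent.UGT.U2.FOne.Star
import Cfsg.Agent.UGT.U2.FOne.FFourComb

/-!
# Root combinatorics for the normal form of an involutory automorphism

* `A2.act`, `a2_simple` : `A₂`-pairs;
* `rep_wJ_apply` : the action of the longest element of a commuting parabolic subgroup, in coordinates;
* `comm_iff`, `A_zero`, ... ; the images of the simple root groups under `NX`.
-/

set_option autoImplicit false
set_option linter.unusedSectionVars false

namespace Cfsg.Agent.H286.Comb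

open CoxeterSystem Cfsg.Agent.ChevalleyStructure.CoxeterGeom Cfsg.Agent.Tits.Roots Cfsg.Agent.Tits.Core
  Cfsg.Agent.Tits.RootComb Cfsg.Agent.Tits.Exchange Cfsg.Agent.Nodes.Comb Cfsg.Agent.Nodes.Reps
  Cfsg.Agent.Nodes.BNOf Cfsg.Agent.Nodes.RGDLib Cfsg.Agent.Nodes.Bruhat Cfsg.Agent.Nodes.StabComb
  Cfsg.Agent.Nodes.OppDec Cfsg.Agent.Nodes.Coroot Cfsg.Agent.KFacts.RgdSL Cfsg.Agent.UGT.U2.FOne
  Cfsg.Agent.H286.Obs Cfsg.Agent.H286.RootObs

variable {I W K : Type*} [Fintype I] [DecidableEq I] [Group W] [Group K] {M : CoxeterMatrix I}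
  {cs : CoxeterSystem M W} {A : I → I → ℤ} {h : IsCartan M A} {p : ℕ} {T : Subgroup K} {n : I → K}
  {X : (I → ℤ) → Subgroup K}

section Abs

theorem A2.act [Finite W] {c d : I → ℤ} (hA : A2 cs h c d) (w : W) : A2 cs h (rep cs h w c) (rep cs h w d) := by
  have key : ∀ z, ∃ z', z = rep cs h w z' := fun z => ⟨rep cs h w⁻¹ z, by
    rw [← rep_mul_apply, mul_inv_cancel, map_one, Module.End.one_apply]⟩
  refine ⟨hA.rx.act w, hA.ry.act w, ?_, ?_, ?_, ?_, ?_, ?_, ?_, ?_⟩
  · rw [cpr_rep cs h w _ hA.ry, hA.cxy]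
  · rw [cpr_rep cs h w _ hA.rx, hA.cyx]
  · intro z hz
    obtain ⟨z', rfl⟩ := key z
    rw [hA.b1 z' ((btwn_act_iff w).1 hz), map_add]
  · intro z hz
    obtain ⟨z', rfl⟩ := key z
    rw [← map_neg] at hz
    exact hA.b2 z' ((btwn_act_iff w).1 hz)
  · intro z hz
    obtain ⟨z', rfl⟩ := key z
    rw [← map_neg, ← map_add] at hz
    rw [hA.b3 z' ((btwn_act_iff w).1 hz)]
  · intro z hz
    obtain ⟨z', rfl⟩ := key z
    rw [← map_neg, ← map_add] at hz
    rw [hA.b4 z' ((btwn_act_iff w).1 hz)]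
  · intro z hz
    obtain ⟨z', rfl⟩ := key z
    rw [← map_add] at hz
    exact hA.b5 z' ((btwn_act_iff w).1 hz)
  · intro z hz
    obtain ⟨z', rfl⟩ := key z
    rw [← map_add] at hz
    exact hA.b6 z' ((btwn_act_iff w).1 hz)

theorem pairing_sr (i j : I) : pairing A i (sr j) = A i j := by rw [sr, pairing_single, mul_one]

/-- commuting nodes -/
theorem A_zero_of_comm (cs : CoxeterSystem M W) (h : IsCartan M A) {i j : I} (hne : i ≠ j)
    (hc : cs.simple i * cs.simple j = cs.simple j * cs.simple i) : A i j = 0 := by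
  have h1 := congrArg (fun w => rep cs h w (sr j)) hc
  simp only [rep_mul_apply] at h1
  rw [rep_simple_sr, map_neg, rep_simple_eq, map_sub, rep_simple_sr, map_smul, rep_simple_eq] at h1
  have h2 := congrFun h1 i
  simp only [Pi.neg_apply, Pi.sub_apply, Pi.smul_apply, smul_eq_mul, sr_self, sr_ne hne, pairing_sr] at h2
  omega

theorem comm_of_A_zero (cs : CoxeterSystem M W) (h : IsCartan M A) {i j : I} (hne : i ≠ j) (h0 : A i j = 0) :
    cs.simple i * cs.simple j = cs.simple j * cs.simple i := by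
  have hM : M i j = 2 := by
    rcases h.rel i j hne with h1 | h1 | h1 | h1 <;> omega
  have h1 : (cs.simple i * cs.simple j) ^ 2 = 1 := by
    rw [← hM]; exact cs.simple_mul_simple_pow i j
  rw [pow_two] at h1
  calc cs.simple i * cs.simple j = cs.simple i * cs.simple j * (cs.simple i * cs.simple j) *
        (cs.simple j * (cs.simple i * cs.simple i) * cs.simple j) * (cs.simple j * cs.simple i) := by
        rw [cs.simple_mul_simple_self, mul_one, cs.simple_mul_simple_self, mul_one]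
        calc cs.simple i * cs.simple j = cs.simple i * (cs.simple j * (cs.simple i * (cs.simple j * cs.simple j) *
            cs.simple i)) := by
              rw [cs.simple_mul_simple_self, mul_one, cs.simple_mul_simple_self, mul_one]
          _ = _ := by group
    _ = cs.simple j * cs.simple i := by
      rw [h1, cs.simple_mul_simple_self, mul_one, cs.simple_mul_simple_self, one_mul, one_mul]

theorem A_zero_symm (h : IsCartan M A) {i j : I} (h0 : A i j = 0) : A j i = 0 := by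
  by_cases hij : i = j
  · subst hij; exact h0
  · rcases h.rel i j hij with h1 | h1 | h1 | h1 <;> omega

/-- the roots of a plane of type `A₂` -/
theorem root_of_supp_a2 [Finite W] (cs : CoxeterSystem M W) (h : IsCartan M A) {i j : I} (hne : i ≠ j)
    (h1 : A i j = -1) (h2 : A j i = -1) {z : I → ℤ} (hz : IsRoot cs h z) (hs : Supp i j z) :
    z = sr i ∨ z = -sr i ∨ z = sr j ∨ z = -sr j ∨ z = sr i + sr j ∨ z = -(sr i + sr j) := by
  obtain ⟨v, hv, k, hk, rfl⟩ := exists_of_supp cs h hz hs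
  let P : (I → ℤ) → Prop := fun z => z = sr i ∨ z = -sr i ∨ z = sr j ∨ z = -sr j ∨ z = sr i + sr j ∨ z = -(sr i + sr j)
  have hpi : ∀ z, P z → P (rep cs h (cs.simple i) z) := by
    have e1 : rep cs h (cs.simple i) (sr i) = -sr i := rep_simple_sr cs h i
    have e2 : rep cs h (cs.simple i) (sr j) = sr i + sr j := by
      rw [rep_simple_eq, pairing_sr, h1]; module
    rintro z (rfl | rfl | rfl | rfl | rfl | rfl)
    · exact Or.inr (Or.inl e1)
    · left; rw [map_neg, e1, neg_neg]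
    · exact Or.inr (Or.inr (Or.inr (Or.inr (Or.inl e2))))
    · exact Or.inr (Or.inr (Or.inr (Or.inr (Or.inr (by rw [map_neg, e2])))))
    · right; right; left; rw [map_add, e1, e2]; abel
    · right; right; right; left; rw [map_neg, map_add, e1, e2]; abel
  have hpj : ∀ z, P z → P (rep cs h (cs.simple j) z) := by
    have e1 : rep cs h (cs.simple j) (sr j) = -sr j := rep_simple_sr cs h j
    have e2 : rep cs h (cs.simple j) (sr i) = sr i + sr j := by
      rw [rep_simple_eq, pairing_sr, h2]; module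
    rintro z (rfl | rfl | rfl | rfl | rfl | rfl)
    · exact Or.inr (Or.inr (Or.inr (Or.inr (Or.inl e2))))
    · exact Or.inr (Or.inr (Or.inr (Or.inr (Or.inr (by rw [map_neg, e2])))))
    · exact Or.inr (Or.inr (Or.inr (Or.inl e1)))
    · right; right; left; rw [map_neg, e1, neg_neg]
    · left; rw [map_add, e1, e2]; abel
    · right; left; rw [map_neg, map_add, e1, e2]; abel
  change P _
  have hk' : P (sr k) := by
    rcases hk with rfl | rfl
    · exact Or.inl rfl
    · exact Or.inr (Or.inr (Or.inl rfl))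
  clear hz hs
  unfold WJ at hv
  induction hv using Subgroup.closure_induction_left with
  | one => rw [map_one, Module.End.one_apply]; exact hk'
  | mul_left w hw v _ ih =>
    obtain ⟨l, hl, rfl⟩ := hw
    rw [rep_mul_apply]
    rcases hl with rfl | rfl
    · exact hpi _ ih
    · exact hpj _ ih
  | inv_mul_cancel w hw v _ ih =>
    obtain ⟨l, hl, rfl⟩ := hw
    rw [rep_mul_apply, cs.inv_simple]
    rcases hl with rfl | rfl
    · exact hpi _ ih
    · exact hpj _ ih

/-- two simple roots joined by a simple bond -/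
theorem a2_simple [Finite W] (cs : CoxeterSystem M W) (h : IsCartan M A) {i j : I} (hne : i ≠ j)
    (h1 : A i j = -1) (h2 : A j i = -1) : A2 cs h (sr i) (sr j) := by
  have hsupp : ∀ {x y z : I → ℤ}, Btwn cs h x y z → Supp i j x → Supp i j y → Supp i j z := by
    rintro x y z ⟨-, m, a, b, hm, -, -, he⟩ hx hy k hk hk'
    have h3 := congrFun he k
    simp only [Pi.add_apply, Pi.smul_apply, smul_eq_mul, hx k hk hk', hy k hk hk', mul_zero, add_zero] at h3
    exact (mul_eq_zero.1 h3).resolve_left hm.ne'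
  have si : Supp i j (sr i) := fun k hk _ => sr_ne hk
  have sj : Supp i j (sr j) := fun k _ hk => sr_ne hk
  have si' : Supp i j (-sr i) := fun k hk hk' => by rw [Pi.neg_apply, si k hk hk', neg_zero]
  have sj' : Supp i j (-sr j) := fun k hk hk' => by rw [Pi.neg_apply, sj k hk hk', neg_zero]
  have sij : Supp i j (sr i + sr j) := fun k hk hk' => by rw [Pi.add_apply, si k hk hk', sj k hk hk', add_zero]
  have ei : (sr i : I → ℤ) i = 1 := sr_self i
  have ej : (sr j : I → ℤ) j = 1 := sr_self j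
  have eij : (sr i : I → ℤ) j = 0 := sr_ne hne.symm
  have eji : (sr j : I → ℤ) i = 0 := sr_ne hne
  have cases6 : ∀ {x y z : I → ℤ}, Btwn cs h x y z → Supp i j x → Supp i j y →
      ∃ m a b : ℤ, 0 < m ∧ 0 < a ∧ 0 < b ∧ m * z i = a * x i + b * y i ∧ m * z j = a * x j + b * y j ∧
      ((z = sr i ∧ z i = 1 ∧ z j = 0) ∨ (z = -sr i ∧ z i = -1 ∧ z j = 0) ∨ (z = sr j ∧ z i = 0 ∧ z j = 1) ∨
        (z = -sr j ∧ z i = 0 ∧ z j = -1) ∨ (z = sr i + sr j ∧ z i = 1 ∧ z j = 1) ∨
        (z = -(sr i + sr j) ∧ z i = -1 ∧ z j = -1)) := by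
    intro x y z hz hx hy
    have hs := hsupp hz hx hy
    obtain ⟨hzr, m, a, b, hm, ha, hb, he⟩ := hz
    refine ⟨m, a, b, hm, ha, hb, congrFun he i, congrFun he j, ?_⟩
    rcases root_of_supp_a2 cs h hne h1 h2 hzr hs with rfl | rfl | rfl | rfl | rfl | rfl
    · exact Or.inl ⟨rfl, ei, eij⟩
    · exact Or.inr (Or.inl ⟨rfl, by rw [Pi.neg_apply, ei], by rw [Pi.neg_apply, eij, neg_zero]⟩)
    · exact Or.inr (Or.inr (Or.inl ⟨rfl, eji, ej⟩))
    · exact Or.inr (Or.inr (Or.inr (Or.inl ⟨rfl, by rw [Pi.neg_apply, eji, neg_zero], by rw [Pi.neg_apply, ej]⟩)))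
    · exact Or.inr (Or.inr (Or.inr (Or.inr (Or.inl ⟨rfl, by rw [Pi.add_apply, ei, eji, add_zero],
        by rw [Pi.add_apply, eij, ej, zero_add]⟩))))
    · exact Or.inr (Or.inr (Or.inr (Or.inr (Or.inr ⟨rfl, by rw [Pi.neg_apply, Pi.add_apply, ei, eji, add_zero],
        by rw [Pi.neg_apply, Pi.add_apply, eij, ej, zero_add]⟩))))
  have ri := isRoot_sr cs h i
  have rj := isRoot_sr cs h j
  refine ⟨ri, rj, ?_, ?_, ?_, ?_, ?_, ?_, ?_, ?_⟩
  · rw [cpr_sr, pairing_sr, h2]
  · rw [cpr_sr, pairing_sr, h1]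
  · intro z hz
    obtain ⟨m, a, b, hm, ha, hb, e1, e2, h3⟩ := cases6 hz si sj
    rw [ei, eji] at e1
    rw [eij, ej] at e2
    rcases h3 with ⟨h3, u, v⟩ | ⟨h3, u, v⟩ | ⟨h3, u, v⟩ | ⟨h3, u, v⟩ | ⟨h3, u, v⟩ | ⟨h3, u, v⟩ <;> rw [u] at e1 <;>
      rw [v] at e2 <;> first | exact h3 | (exfalso; omega)
  · intro z hz
    obtain ⟨m, a, b, hm, ha, hb, e1, e2, h3⟩ := cases6 hz si' sj
    rw [Pi.neg_apply, ei, eji] at e1
    rw [Pi.neg_apply, eij, ej] at e2
    rcases h3 with ⟨h3, u, v⟩ | ⟨h3, u, v⟩ | ⟨h3, u, v⟩ | ⟨h3, u, v⟩ | ⟨h3, u, v⟩ | ⟨h3, u, v⟩ <;> rw [u] at e1 <;>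
      rw [v] at e2 <;> omega
  · intro z hz
    obtain ⟨m, a, b, hm, ha, hb, e1, e2, h3⟩ := cases6 hz si' sij
    rw [Pi.neg_apply, Pi.add_apply, ei, eji] at e1
    rw [Pi.neg_apply, Pi.add_apply, eij, ej] at e2
    rcases h3 with ⟨h3, u, v⟩ | ⟨h3, u, v⟩ | ⟨h3, u, v⟩ | ⟨h3, u, v⟩ | ⟨h3, u, v⟩ | ⟨h3, u, v⟩ <;> rw [u] at e1 <;>
      rw [v] at e2 <;> first | exact h3 | (exfalso; omega)
  · intro z hz
    obtain ⟨m, a, b, hm, ha, hb, e1, e2, h3⟩ := cases6 hz sj' sij
    rw [Pi.neg_apply, Pi.add_apply, ei, eji] at e1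
    rw [Pi.neg_apply, Pi.add_apply, eij, ej] at e2
    rcases h3 with ⟨h3, u, v⟩ | ⟨h3, u, v⟩ | ⟨h3, u, v⟩ | ⟨h3, u, v⟩ | ⟨h3, u, v⟩ | ⟨h3, u, v⟩ <;> rw [u] at e1 <;>
      rw [v] at e2 <;> first | exact h3 | (exfalso; omega)
  · intro z hz
    obtain ⟨m, a, b, hm, ha, hb, e1, e2, h3⟩ := cases6 hz sij sj
    rw [Pi.add_apply, ei, eji] at e1
    rw [Pi.add_apply, eij, ej] at e2
    rcases h3 with ⟨h3, u, v⟩ | ⟨h3, u, v⟩ | ⟨h3, u, v⟩ | ⟨h3, u, v⟩ | ⟨h3, u, v⟩ | ⟨h3, u, v⟩ <;> rw [u] at e1 <;>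
      rw [v] at e2 <;> omega
  · intro z hz
    obtain ⟨m, a, b, hm, ha, hb, e1, e2, h3⟩ := cases6 hz sij si
    rw [Pi.add_apply, ei, eji] at e1
    rw [Pi.add_apply, eij, ej] at e2
    rcases h3 with ⟨h3, u, v⟩ | ⟨h3, u, v⟩ | ⟨h3, u, v⟩ | ⟨h3, u, v⟩ | ⟨h3, u, v⟩ | ⟨h3, u, v⟩ <;> rw [u] at e1 <;>
      rw [v] at e2 <;> omega

open Classical in
/-- the elements of a commuting parabolic subgroup, in coordinates -/
theorem rep_WJ_apply (cs : CoxeterSystem M W) (h : IsCartan M A) {J : Set I}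
    (hJ : ∀ i ∈ J, ∀ j ∈ J, cs.simple i * cs.simple j = cs.simple j * cs.simple i) {w : W} (hw : w ∈ WJ cs J) :
    ∃ S : Set I, S ⊆ J ∧ ∀ x k, rep cs h w x k = if k ∈ S then x k - pairing A k x else x k := by
  have hstep : ∀ l ∈ J, ∀ v : W, (∃ S : Set I, S ⊆ J ∧ ∀ x k, rep cs h v x k =
      if k ∈ S then x k - pairing A k x else x k) → ∃ S : Set I, S ⊆ J ∧ ∀ x k, rep cs h (cs.simple l * v) x k =
      if k ∈ S then x k - pairing A k x else x k := by
    rintro l hl v ⟨S, hS, hv⟩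
    have key : ∀ x, pairing A l (rep cs h v x) = if l ∈ S then -pairing A l x else pairing A l x := by
      intro x
      have e1 : pairing A l (rep cs h v x) = ∑ k, (A l k * x k - if k = l then (if l ∈ S then 2 * pairing A l x else 0)
          else 0) := by
        unfold pairing
        refine Finset.sum_congr rfl fun k _ => ?_
        rw [hv]
        by_cases hk : k = l
        · subst hk
          rw [if_pos rfl]
          split_ifs with hkS
          · rw [h.diag]; unfold pairing; ring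
          · ring
        · rw [if_neg hk, sub_zero]
          split_ifs with hkS
          · rw [A_zero_of_comm cs h (Ne.symm hk) (hJ l hl k (hS hkS))]; ring
          · rfl
      rw [e1, Finset.sum_sub_distrib, Finset.sum_ite_eq' Finset.univ l, if_pos (Finset.mem_univ l)]
      change pairing A l x - _ = _
      split_ifs
      · ring
      · ring
    by_cases hlS : l ∈ S
    · refine ⟨S \ {l}, Set.diff_subset.trans hS, fun x k => ?_⟩
      rw [rep_mul_apply]
      by_cases hk : k = l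
      · subst hk
        rw [rep_simple_apply_self, key, if_pos hlS, hv, if_pos hlS, if_neg (by simp)]; ring
      · rw [rep_simple_apply cs h l _ k hk, hv]
        simp [hk]
    · refine ⟨insert l S, Set.insert_subset hl hS, fun x k => ?_⟩
      rw [rep_mul_apply]
      by_cases hk : k = l
      · subst hk
        rw [rep_simple_apply_self, key, if_neg hlS, hv, if_neg hlS, if_pos (by simp)]
      · rw [rep_simple_apply cs h l _ k hk, hv]
        simp [hk]
  unfold WJ at hw
  induction hw using Subgroup.closure_induction_left with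
  | one => exact ⟨∅, Set.empty_subset _, fun x k => by simp⟩
  | mul_left w hw v _ ih =>
    obtain ⟨l, hl, rfl⟩ := hw
    exact hstep l hl v ih
  | inv_mul_cancel w hw v _ ih =>
    obtain ⟨l, hl, rfl⟩ := hw
    rw [cs.inv_simple]
    exact hstep l hl v ih

open Classical in
/-- **The longest element of a commuting parabolic subgroup, in coordinates.** -/
theorem rep_wJ_apply [Finite W] (cs : CoxeterSystem M W) (h : IsCartan M A) {J : Set I}
    (hJ : ∀ i ∈ J, ∀ j ∈ J, cs.simple i * cs.simple j = cs.simple j * cs.simple i) (x : I → ℤ) (k : I) :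
    rep cs h (wJ cs J) x k = if k ∈ J then x k - pairing A k x else x k := by
  obtain ⟨S, hS, hv⟩ := rep_WJ_apply cs h hJ (isLongest_wJ cs J).mem
  have hSJ : S = J := by
    refine Set.Subset.antisymm hS fun j hj => ?_
    by_contra hjS
    have h1 := hv (sr j) j
    rw [if_neg hjS, Cfsg.Agent.UGT.U2.FOne.rep_wJ_sr cs h hJ hj, Pi.neg_apply, sr_self] at h1
    omega
  rw [hv, hSJ]

end Abs

end Cfsg.Agent.H286.Comb
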