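import Cfsg.Agent.H286.TypeI

/-!
# The natural module lemma for a `B₂`-plane

`r`, `r'` short roots, `sr j = r' - r`, `s = r + r'` long roots (`Sq cs h m r r' s (sr j)`), all four root groups of the
same order. In the normal form, `j ∈ J` and `x (X r) = X r'` are incompatible.
-/

set_option autoImplicit false
set_option linter.unusedSectionVars false

namespace Cfsg.Agent.H286.NatB

open CoxeterSystem Cfsg.Agent.ChevalleyStructure.CoxeterGeom Cfsg.Agent.Tits.Roots Cfsg.Agent.Tits.Core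
  Cfsg.Agent.Tits.RootComb Cfsg.Agent.Tits.Exchange Cfsg.Agent.Nodes.Comb Cfsg.Agent.Nodes.Reps
  Cfsg.Agent.Nodes.BNOf Cfsg.Agent.Nodes.RGDLib Cfsg.Agent.Nodes.Bruhat Cfsg.Agent.Nodes.StabComb
  Cfsg.Agent.Nodes.OppDec Cfsg.Agent.Nodes.Coroot Cfsg.Agent.KFacts.RgdSL Cfsg.Agent.UGT.U2.FOne
  Cfsg.Agent.H286.Obs Cfsg.Agent.H286.RootObs Cfsg.Agent.H286.Comb Cfsg.Agent.H286.Chain
  Cfsg.Agent.Nodes.Chart Cfsg.Agent.Nodes.Perp Cfsg.Agent.Nodes.ShortSum Cfsg.Agent.H286.SqObs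
  Cfsg.Agent.H286.TypeI
open Cfsg.Agent.Nodes
open scoped commutatorElement

variable {I W K : Type*} [Fintype I] [DecidableEq I] [Group W] [Fintype W] [Group K] {M : CoxeterMatrix I}
  {cs : CoxeterSystem M W} {A : I → I → ℤ} {h : IsCartan M A} {p : ℕ} {T : Subgroup K} {n : I → K}
  {X : (I → ℤ) → Subgroup K} {R : Set (I → ℤ)} {z : (I → ℤ) → K} (C : Cls cs h p T n X R X z)
  {m : ℤ} {r r' s : I → ℤ} {j : I} (S : Sq cs h m r r' s (sr j)) (hs : s ∈ R) (ha : sr j ∈ R)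

include C S

section Comm

include ha in
theorem cm1 {a c : K} (h1 : a ∈ X (sr j)) (h2 : c ∈ X r') : c * a = a * c :=
  C.cent _ ha r' S.root₂ (by rw [form_comm]; exact S.b₂_pos.le) c h2 a h1

include ha in
theorem cm2 {a c : K} (h1 : a ∈ X (-sr j)) (h2 : c ∈ X r) : c * a = a * c :=
  C.cent _ (neg_mem C ha) r S.root₁ (by rw [form_neg_right, form_comm]; have := S.b₁_neg; omega) c h2 a h1

include hs in
theorem cm3 {a c : K} (h1 : a ∈ RA X (sr j)) (h2 : c ∈ X s) : a * c = c * a := by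
  have h3 : RA X (sr j) ≤ Subgroup.centralizer {c} := by
    refine sup_le ?_ ?_
    · intro a ha
      rw [Subgroup.mem_centralizer_singleton_iff]
      exact C.cent _ hs _ S.rootb (by rw [form_comm, S.xb]) a ha c h2
    · intro a ha
      rw [Subgroup.mem_centralizer_singleton_iff]
      exact C.cent _ hs _ S.rootb.neg (by rw [form_neg_left, form_comm, S.xb, neg_zero]) a ha c h2
  exact Subgroup.mem_centralizer_singleton_iff.1 (h3 h1)

include hs in
theorem cm4 {a c : K} (h1 : a ∈ X r) (h2 : c ∈ X s) : a * c = c * a :=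
  C.cent _ hs _ S.root₁ (by rw [form_comm]; exact S.x₁_pos.le) a h1 c h2

include hs in
theorem cm4' {a c : K} (h1 : a ∈ X r') (h2 : c ∈ X s) : a * c = c * a :=
  C.cent _ hs _ S.root₂ (by rw [form_comm]; exact S.x₂_pos.le) a h1 c h2

theorem form_ne : form cs h r s ≠ 0 ∧ form cs h r' s ≠ 0 :=
  ⟨by rw [form_comm]; exact S.x₁_pos.ne', by rw [form_comm]; exact S.x₂_pos.ne'⟩

theorem root_ne : (r ≠ s ∧ r ≠ -s) ∧ (r' ≠ s ∧ r' ≠ -s) := by
  refine ⟨S.ne_x, ?_⟩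
  have h1 : form cs h s r' ≠ 0 := S.x₂_pos.ne'
  have h2 : form cs h r' r = 0 := by rw [form_comm]; exact S.orth
  exact Sq.ne_of_form (w := r) h2 (S.x₁_pos).ne'

theorem orth' : form cs h r' r = 0 := by rw [form_comm]; exact S.orth

/-- `[X (-a), X r'] ⊆ X r · X s` -/
theorem comm_a {y c : K} (hy : y ∈ X (-sr j)) (hc : c ∈ X r') (hs : s ∈ R) :
    ∃ e ∈ X r, ∃ w ∈ X s, y * c * y⁻¹ = e * w * c := by
  have S' : Sq cs h m r' r s (-sr j) := by
    refine ⟨S.pos, S.root₂, S.root₁, S.root, S.rootb.neg, orth' C S, S.len.symm, ?_, ?_⟩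
    · rw [S.add, add_comm]
    · rw [smul_neg, S.sub]; abel
  have n1 : -sr j ≠ r' := fun e => S'.ne_b.1 e.symm
  have n2 : -sr j ≠ -r' := fun e => S'.ne_b.2 (by rw [e, neg_neg])
  obtain ⟨e, he, w, hw, h2⟩ : ∃ v ∈ X r, ∃ w ∈ X s, ⁅y, c⁆ = v * w := by
    refine mem_sup_of_cm (fun a ha c hc => cm4 C S hs ha hc) ?_
    refine btw_le ?_ (C.rgd.comm (-sr j) r' S.rootb.neg S.root₂ n1 n2 y hy c hc)
    intro t ht
    rcases S'.btwn' ht.symm with rfl | rfl
    · exact le_sup_left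
    · exact le_sup_right
  refine ⟨e, he, w, hw, ?_⟩
  rw [← h2, commutatorElement_def]; group

theorem comm_rr {u c : K} (hu : u ∈ X r) (hc : c ∈ X r') : ∃ w ∈ X s, u * c = w * (c * u) := by
  refine ⟨⁅u, c⁆, btw_le ?_ (C.rgd.comm r r' S.root₁ S.root₂ S.ne₁ S.ne₂ u hu c hc), by
    rw [commutatorElement_def]; group⟩
  intro t ht
  rw [S.btwn ht]

include hs in
theorem eq_one_of_eq (hp : p.Prime) (hodd : p ≠ 2) {g c w : K} (hg : g ∈ X r) (hc : c ∈ X r') (hw : w ∈ X s)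
    (e : g = c * w) : g = 1 ∧ c = 1 ∧ w = 1 := by
  have : Fact p.Prime := ⟨hp⟩
  have zz := C.z_sq s hs
  have z1 := C.z_inv s hs r S.root₁ (root_ne C S).1.1 (root_ne C S).1.2 (form_ne C S).1 g hg
  have z2 := C.z_inv s hs r' S.root₂ (root_ne C S).2.1 (root_ne C S).2.2 (form_ne C S).2 c hc
  have z3 : z s * w * z s = w := by
    rw [C.z_cent s hs w hw, mul_assoc, zz, mul_one]
  have hcw := cm4' C S hs hc hw
  have h1 : z s * (c * w) * z s = (z s * c * z s) * (z s * w * z s) := by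
    calc z s * (c * w) * z s = z s * c * 1 * w * z s := by group
      _ = z s * c * (z s * z s) * w * z s := by rw [zz]
      _ = _ := by group
  rw [← e, z1, z2, z3, e, mul_inv_rev] at h1
  have h2 : w⁻¹ = w := by
    have h3 : w⁻¹ * c⁻¹ = w * c⁻¹ := by
      rw [h1]
      rw [inv_mul_eq_iff_eq_mul, ← mul_assoc, hcw, mul_inv_cancel_right]
    exact mul_right_cancel h3
  have hw1 : w = 1 := by
    refine PE.eq_one (hp.odd_of_ne_two hodd) (pe_of_mem C.rgd S.root hw) ?_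
    nth_rewrite 1 [← h2]
    rw [inv_mul_cancel]
  rw [hw1, mul_one] at e
  have h3 : g ∈ X r ⊓ X r' := ⟨hg, e ▸ hc⟩
  rw [X_inf_X C.rgd S.root₁ S.root₂ S.ne₁, Subgroup.mem_bot] at h3
  exact ⟨h3, by rw [← e, h3], hw1⟩

end Comm

/-- the `p`-elements of `⟨X_a, X_{-a}⟩` centralising an element of `X r'` modulo `X s` are in `X a` -/
theorem mem_of_fix [Finite K] (hs : s ∈ R) (ha : sr j ∈ R) (hp : p.Prime) (hodd : p ≠ 2)
    (hrep : rep cs h (cs.simple j) r' = r) {c w : K} (hc : c ∈ X r') (hc1 : c ≠ 1) (hw : w ∈ X s) {g : K}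
    (hg : g ∈ RA X (sr j)) (hgc : g * c * g⁻¹ = c * w) {k : ℕ} (hk : g ^ p ^ k = 1) : g ∈ X (sr j) := by
  have : Fact p.Prime := ⟨hp⟩
  have R' := C.rgd
  have hg' : g ∈ LJ cs h T X {j} := by
    have h1 : RA X (sr j) ≤ LJ cs h T X {j} := by
      refine sup_le (X_le_LJ ⟨isRoot_sr cs h j, fun k hk => sr_ne fun e => hk e⟩)
        (X_le_LJ ⟨(isRoot_sr cs h j).neg, fun k hk => ?_⟩)
      rw [Pi.neg_apply, sr_ne (fun e => hk e), neg_zero]
    exact h1 hg
  obtain ⟨v, hv, b₁, hb₁, m', hm, b₂, hb₂, e⟩ := exists_cellJ R' hg'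
  have hB : ∀ b ∈ BJ cs h T X {j}, ∃ u ∈ X (sr j), ∃ t ∈ T, b = u * t := by
    intro b hb
    obtain ⟨v, hv, u, hu, t, ht, rfl⟩ := mem_BJ' R' (i := j) (Set.mem_singleton j) hb
    have h1 : RGD.Sup X (PosJ cs h {j} \ {sr j}) ≤ ⊥ := by
      refine RGD.Sup_le ?_
      rintro z ⟨⟨hz, hz0, hz1⟩, hz2⟩
      exact absurd (hz.eq_sr hz0 j fun k hk => hz1 k hk) hz2
    rw [Subgroup.mem_bot.1 (h1 hv), one_mul]
    exact ⟨u, hu, t, ht, rfl⟩
  have hw' : v = 1 ∨ v = cs.simple j := by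
    have h1 : WJ cs {j} ≤ Subgroup.zpowers (cs.simple j) := by
      unfold WJ
      rw [Set.image_singleton, Subgroup.closure_le, Set.singleton_subset_iff]
      exact Subgroup.mem_zpowers _
    obtain ⟨k, rfl⟩ := Subgroup.mem_zpowers_iff.1 (h1 hv)
    have h2 : cs.simple j ^ (2 : ℤ) = 1 := by
      rw [zpow_ofNat, pow_two, cs.simple_mul_simple_self]
    rcases Int.even_or_odd' k with ⟨l, rfl | rfl⟩
    · left; rw [zpow_mul, h2, one_zpow]
    · right; rw [zpow_add, zpow_mul, h2, one_zpow, one_mul, zpow_one]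
  -- `b ∈ B_{j}` normalises `X r'`, `X s`
  have hnr : ∀ b ∈ BJ cs h T X {j}, ∀ v ∈ X r', b * v * b⁻¹ ∈ X r' := by
    intro b hb v hv
    obtain ⟨u, hu, t, ht, rfl⟩ := hB b hb
    have h1 := R'.tor _ S.root₂ t ht
    have h2 : t * v * t⁻¹ ∈ cj t (X r') := conj_mem_cj.2 hv
    rw [h1] at h2
    have h3 := cm1 C S ha hu h2
    have h4 : u * t * v * (u * t)⁻¹ = t * v * t⁻¹ := by
      calc u * t * v * (u * t)⁻¹ = u * (t * v * t⁻¹) * u⁻¹ := by group
        _ = t * v * t⁻¹ := by rw [← h3]; group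
    rw [h4]
    exact h2
  have hns : ∀ b ∈ BJ cs h T X {j}, ∀ v ∈ X s, b * v * b⁻¹ ∈ X s := by
    intro b hb v hv
    obtain ⟨u, hu, t, ht, rfl⟩ := hB b hb
    have h1 := R'.tor _ S.root t ht
    have h2 : t * v * t⁻¹ ∈ cj t (X s) := conj_mem_cj.2 hv
    rw [h1] at h2
    have h3 := cm3 C S hs (a := u) (Subgroup.mem_sup_left hu) h2
    have h4 : u * t * v * (u * t)⁻¹ = t * v * t⁻¹ := by
      calc u * t * v * (u * t)⁻¹ = u * (t * v * t⁻¹) * u⁻¹ := by group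
        _ = t * v * t⁻¹ := by rw [h3]; group
    rw [h4]
    exact h2
  rcases hw' with rfl | rfl
  · have h1 : g ∈ BJ cs h T X {j} := by
      rw [e]
      exact mul_mem (mul_mem hb₁ (T_le_BJ hm.mem_of_one)) hb₂
    obtain ⟨u, hu, t, ht, hut⟩ := hB g h1
    exact mem_of_pow R' (isRoot_sr cs h j) hu ht hut hk
  · exfalso
    have h1 : m' * (b₂ * c * b₂⁻¹) * m'⁻¹ ∈ X r := by
      have h2 := R'.conj_mem hm S.root₂ (hnr b₂ hb₂ c hc)
      rwa [hrep] at h2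
    have h2 : m' * (b₂ * c * b₂⁻¹) * m'⁻¹ = (b₁⁻¹ * c * b₁⁻¹⁻¹) * (b₁⁻¹ * w * b₁⁻¹⁻¹) := by
      rw [e] at hgc
      calc m' * (b₂ * c * b₂⁻¹) * m'⁻¹ = b₁⁻¹ * (b₁ * m' * b₂ * c * (b₁ * m' * b₂)⁻¹) * b₁ := by group
        _ = _ := by rw [hgc]; group
    have h3 := eq_one_of_eq C S hs hp hodd h1 (hnr _ (inv_mem hb₁) c hc) (hns _ (inv_mem hb₁) w hw) h2
    apply hc1
    have h4 : c = b₁ * (b₁⁻¹ * c * b₁⁻¹⁻¹) * b₁⁻¹ := by group
    rw [h4, h3.2.1]; group

/-- **The natural module lemma for a `B₂`-plane.** -/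
theorem false_of_natB [Finite K] (hs : s ∈ R) (ha : sr j ∈ R) (hp : p.Prime) (hodd : p ≠ 2)
    (hrep : rep cs h (cs.simple j) r' = r) (hcard : Nat.card (X (sr j)) = Nat.card (X r)) {x d : MulAut K}
    {φ : W ≃* W} {σ : I → I} {J : Set I} {g : K} (N : NF cs h p T n X x d φ σ J g) (hj : j ∈ J)
    (hx : (X r).map x.toMonoidHom = X r') (hxs : (X s).map x.toMonoidHom = X s) : False := by
  have : Fact p.Prime := ⟨hp⟩
  have R' := C.rgd
  obtain ⟨u, hu, hu1⟩ : ∃ u ∈ X r, u ≠ 1 := by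
    by_contra hcon
    push Not at hcon
    exact X_ne_bot R' S.root₁ ((Subgroup.eq_bot_iff_forall _).2 hcon)
  have hc : x u ∈ X r' := by
    rw [← hx]; exact Subgroup.mem_map_of_mem x.toMonoidHom hu
  have hc1 : x u ≠ 1 := fun h0 => hu1 (by
    have := congrArg x h0
    rwa [N.xx, map_one] at this)
  obtain ⟨w0, hw0, e0⟩ := comm_rr C S hu hc
  -- `x v = v w`
  have hxw : ∀ w ∈ X s, x w ∈ X s := fun w hw => by
    rw [← hxs]; exact Subgroup.mem_map_of_mem x.toMonoidHom hw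
  have hxv : x (u * x u) = w0⁻¹ * (u * x u) := by
    rw [map_mul, N.xx, e0]; group
  -- `X s` commutes with `u`, `x u`
  have cu : ∀ w ∈ X s, u * w = w * u := fun w hw => cm4 C S hs hu hw
  have cc : ∀ w ∈ X s, x u * w = w * x u := fun w hw => cm4' C S hs hc hw
  -- surjectivity
  have hcj : Nat.card (X (-sr j)) = Nat.card (X (sr j)) := by
    obtain ⟨k, hk⟩ := exists_rp cs R'.nsys (cs.simple j)
    have h1 := R'.conj_rp hk (isRoot_sr cs h j)
    rw [rep_simple_sr] at h1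
    rw [← h1]
    exact Nat.card_congr (Subgroup.equivMapOfInjective (X (sr j)) (MulAut.conj k).toMonoidHom
      (MulAut.conj k).injective).toEquiv.symm
  obtain ⟨y, hy, hyc⟩ : ∃ y ∈ X (-sr j), ∃ w ∈ X s, y * x u * y⁻¹ = u⁻¹ * w * x u := by
    choose! f hf w hw hfw using fun (y : X (-sr j)) => comm_a C S y.2 hc hs
    have hinj : Function.Injective (fun y : X (-sr j) => (⟨f y, hf y⟩ : X r)) := by
      intro y y' hyy
      have e : f y = f y' := congrArg Subtype.val hyy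
      have h1 := hfw y
      have h2 := hfw y'
      have h3 : ((y' : K)⁻¹ * (y : K)) * x u * ((y' : K)⁻¹ * (y : K))⁻¹ = x u * ((w y')⁻¹ * w y) := by
        have k1 : (y : K) * x u * (y : K)⁻¹ = ((y' : K) * x u * (y' : K)⁻¹) * ((w y')⁻¹ * w y) := by
          rw [h1, h2, e]
          have k2 := cc _ (mul_mem (inv_mem (hw y')) (hw y))
          calc f y' * w y * x u = f y' * w y' * (((w y')⁻¹ * w y) * x u) := by group
            _ = _ := by rw [← k2]; group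
        have k2 : (y' : K)⁻¹ * ((w y')⁻¹ * w y) = ((w y')⁻¹ * w y) * (y' : K)⁻¹ :=
          cm3 C S hs (Subgroup.mem_sup_right (inv_mem y'.2)) (mul_mem (inv_mem (hw y')) (hw y))
        calc ((y' : K)⁻¹ * (y : K)) * x u * ((y' : K)⁻¹ * (y : K))⁻¹ = (y' : K)⁻¹ * ((y : K) * x u * (y : K)⁻¹) * y' := by group
          _ = x u * ((y' : K)⁻¹ * ((w y')⁻¹ * w y)) * y' := by rw [k1]; group
          _ = _ := by rw [k2]; group
      have h4 : ((y' : K)⁻¹ * (y : K)) ∈ X (-sr j) := mul_mem (inv_mem y'.2) y.2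
      obtain ⟨k, hk⟩ := pe_of_mem R' S.rootb.neg h4
      have h5 := mem_of_fix C S hs ha hp hodd hrep hc hc1 (mul_mem (inv_mem (hw y')) (hw y))
        (Subgroup.mem_sup_right h4) h3 hk
      have h6 : ((y' : K)⁻¹ * (y : K)) ∈ X (sr j) ⊓ X (-sr j) := ⟨h5, h4⟩
      have hne : sr j ≠ -sr j := by
        intro e0
        have h7 := congrFun e0 j
        rw [Pi.neg_apply, sr_self] at h7
        omega
      rw [X_inf_X R' (isRoot_sr cs h j) (isRoot_sr cs h j).neg hne, Subgroup.mem_bot, inv_mul_eq_one] at h6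
      exact Subtype.ext h6.symm
    have hbij := (Nat.bijective_iff_injective_and_card _).2 ⟨hinj, by rw [hcj, hcard]⟩
    obtain ⟨y, hy⟩ := hbij.2 ⟨u⁻¹, inv_mem hu⟩
    have hy' : f y = u⁻¹ := congrArg Subtype.val hy
    exact ⟨y, y.2, w y, hw y, by rw [hfw, hy']⟩
  obtain ⟨w1, hw1, hyc⟩ := hyc
  have hyu := cm2 C S ha hy hu
  have hyRA : y ∈ RA X (sr j) := Subgroup.mem_sup_right hy
  have hconj : y * (u * x u) * y⁻¹ = w1 * x u := by
    calc y * (u * x u) * y⁻¹ = (y * u) * x u * y⁻¹ := by group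
      _ = u * (y * x u * y⁻¹) := by rw [← hyu]; group
      _ = w1 * x u := by rw [hyc]; group
  -- the set of `p`-elements fixing `u * x u` modulo `X s`
  have hset : ∀ k, k ∈ cj y⁻¹ (X (sr j)) ↔
      k ∈ RA X (sr j) ∧ (∃ w ∈ X s, k * (u * x u) * k⁻¹ = (u * x u) * w) ∧ ∃ m : ℕ, k ^ p ^ m = 1 := by
    intro k
    rw [mem_cj, inv_inv]
    have e1 : ∀ m : ℕ, (y * k * y⁻¹) ^ m = y * k ^ m * y⁻¹ := fun m => conj_pow
    constructor
    · intro hk
      refine ⟨?_, ⟨1, one_mem _, ?_⟩, ?_⟩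
      · have h1 : k = y⁻¹ * (y * k * y⁻¹) * y := by group
        rw [h1]
        exact mul_mem (mul_mem (inv_mem hyRA) (Subgroup.mem_sup_left hk)) hyRA
      · have h1 := cm1 C S ha hk hc
        have h1' := cm3 C S hs (Subgroup.mem_sup_left hk : y * k * y⁻¹ ∈ RA X (sr j)) hw1
        have h2 : k * (u * x u) * k⁻¹ = y⁻¹ * ((y * k * y⁻¹) * (y * (u * x u) * y⁻¹) * (y * k * y⁻¹)⁻¹) * y := by
          group
        have h3 : (y * k * y⁻¹) * (w1 * x u) * (y * k * y⁻¹)⁻¹ = w1 * x u := by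
          rw [mul_inv_eq_iff_eq_mul, ← mul_assoc, h1', mul_assoc, ← h1, mul_assoc, mul_assoc w1 (x u)]
        rw [mul_one, h2, hconj, h3, ← hconj]; group
      · obtain ⟨m, hm⟩ := R'.pgrp j ⟨_, hk⟩
        refine ⟨m, ?_⟩
        have h1 : (y * k * y⁻¹) ^ p ^ m = 1 := congrArg Subtype.val hm
        rw [e1] at h1
        have : k ^ p ^ m = y⁻¹ * (y * k ^ p ^ m * y⁻¹) * y := by group
        rw [this, h1]; group
    · rintro ⟨h1, ⟨w, hw, h2⟩, m, h3⟩
      have hk' : y * k * y⁻¹ ∈ RA X (sr j) := mul_mem (mul_mem hyRA h1) (inv_mem hyRA)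
      refine mem_of_fix C S hs ha hp hodd hrep hc hc1 hw hk' ?_ (k := m) (by
        rw [e1, h3]; group)
      have k1 : (y * k * y⁻¹) * (w1 * x u) * (y * k * y⁻¹)⁻¹ = w1 * x u * w := by
        rw [← hconj]
        have k2 := cm3 C S hs (inv_mem hyRA) hw
        calc y * k * y⁻¹ * (y * (u * x u) * y⁻¹) * (y * k * y⁻¹)⁻¹ = y * (k * (u * x u) * k⁻¹) * y⁻¹ := by group
          _ = y * (u * x u) * (w * y⁻¹) := by rw [h2]; group
          _ = _ := by rw [← k2]; group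
      have k2 := cm3 C S hs hk' hw1
      have k3 : (y * k * y⁻¹) * (w1 * x u) * (y * k * y⁻¹)⁻¹ = w1 * ((y * k * y⁻¹) * x u * (y * k * y⁻¹)⁻¹) := by
        rw [← mul_assoc, k2]; group
      rw [k3, mul_assoc w1 (x u) w] at k1
      exact mul_left_cancel k1
  refine N.ell j hj y⁻¹ (inv_mem hyRA) ?_
  have hxRA := N.x_RA hj
  have hle : (cj y⁻¹ (X (sr j))).map x.toMonoidHom ≤ cj y⁻¹ (X (sr j)) := by
    rintro _ ⟨k, hk, rfl⟩
    obtain ⟨h1, ⟨w, hw, h2⟩, m, h3⟩ := (hset k).1 hk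
    have hxk : x k ∈ RA X (sr j) := by rw [← hxRA]; exact Subgroup.mem_map_of_mem x.toMonoidHom h1
    refine (hset _).2 ⟨hxk, ⟨x w, hxw w hw, ?_⟩, m, ?_⟩
    · change x k * (u * x u) * (x k)⁻¹ = (u * x u) * x w
      have k1 : x k * (w0⁻¹ * (u * x u)) * (x k)⁻¹ = (w0⁻¹ * (u * x u)) * x w := by
        rw [← hxv, ← map_inv, ← map_mul, ← map_mul, h2, map_mul]
      have k2 := cm3 C S hs hxk (inv_mem hw0)
      have k3 : x k * (w0⁻¹ * (u * x u)) * (x k)⁻¹ = w0⁻¹ * (x k * (u * x u) * (x k)⁻¹) := by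
        rw [← mul_assoc, k2]; group
      rw [k3, mul_assoc w0⁻¹ (u * x u) (x w)] at k1
      exact mul_left_cancel k1
    · change x k ^ p ^ m = 1
      rw [← map_pow, h3, map_one]
  refine le_antisymm hle ?_
  intro k hk
  have h1 : x k ∈ cj y⁻¹ (X (sr j)) := hle (Subgroup.mem_map_of_mem x.toMonoidHom hk)
  exact ⟨x k, h1, N.xx k⟩

end Cfsg.Agent.H286.NatB
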