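import Mathlib

/-!
# The obstruction `Obs`

`Obs p x` (`x` an involutory automorphism of the finite group `K`): there are involutions `z`, `w`, `z` in the subgroup
generated by the `p`-elements of `C_K(x)`, `w` in the subgroup generated by the `p`-elements of `C_K(x) ∩ C(z)`. It is
impossible when this subgroup has dihedral Sylow 2-subgroups (`p` odd).

* `obs_of_central`, `obs_W`, `obs_swap` : the three sources of `Obs`;
* `even_of_inv`, `even_of_swap` : elements of even order.
-/

set_option autoImplicit false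
set_option linter.dupNamespace false

namespace Cfsg.Agent.H286.Obs

variable {K : Type*} [Group K]

/-- `p`-elements -/
def PE (p : ℕ) (g : K) : Prop := ∃ m : ℕ, g ^ p ^ m = 1

/-- the `p`-elements fixed by `x` -/
def FP (p : ℕ) (x : MulAut K) : Set K := {g | x g = g ∧ PE p g}

/-- The obstruction. -/
def Obs (p : ℕ) (x : MulAut K) : Prop :=
  ∃ z w : K, z ∈ Subgroup.closure (FP p x) ∧ z * z = 1 ∧ z ≠ 1 ∧ w * w = 1 ∧ w ≠ 1 ∧
    w ∈ Subgroup.closure {g | g ∈ FP p x ∧ g * z = z * g}

theorem PE.of_commute {p : ℕ} {g k : K} (hg : PE p g) (hk : PE p k) (hc : Commute g k) : PE p (g * k) := by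
  obtain ⟨m, hm⟩ := hg
  obtain ⟨l, hl⟩ := hk
  refine ⟨m + l, ?_⟩
  rw [hc.mul_pow]
  have h1 : g ^ p ^ (m + l) = 1 := by rw [pow_add, pow_mul, hm, one_pow]
  have h2 : k ^ p ^ (m + l) = 1 := by rw [add_comm, pow_add, pow_mul, hl, one_pow]
  rw [h1, h2, one_mul]

theorem PE.map {p : ℕ} {L : Type*} [Group L] {g : K} (hg : PE p g) (f : K →* L) : PE p (f g) := by
  obtain ⟨m, hm⟩ := hg
  exact ⟨m, by rw [← map_pow, hm, map_one]⟩

theorem PE.inv {p : ℕ} {g : K} (hg : PE p g) : PE p g⁻¹ := by
  obtain ⟨m, hm⟩ := hg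
  exact ⟨m, by rw [inv_pow, hm, inv_one]⟩

/-- a `p`-element which is an involution or trivial is trivial, `p` odd -/
theorem PE.eq_one {p : ℕ} (hp : Odd p) {v : K} (hv : PE p v) (h2 : v * v = 1) : v = 1 := by
  obtain ⟨m, hm⟩ := hv
  have h3 : orderOf v ∣ p ^ m := orderOf_dvd_of_pow_eq_one hm
  have h4 : orderOf v ∣ 2 := orderOf_dvd_of_pow_eq_one (by rw [pow_two, h2])
  have h5 : Nat.Coprime 2 (p ^ m) := Nat.coprime_two_left.2 hp.pow
  exact orderOf_eq_one_iff.1 (Nat.eq_one_of_dvd_coprimes h5 h4 h3)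

/-- an element of odd order is a power of its square -/
theorem exists_sq_pow {t : K} (ht : ¬ Even (orderOf t)) : ∃ k : ℕ, t = (t * t) ^ k := by
  rw [Nat.not_even_iff_odd] at ht
  obtain ⟨k, hk⟩ := ht
  refine ⟨k + 1, ?_⟩
  rw [← pow_two, ← pow_mul, show 2 * (k + 1) = orderOf t + 1 by omega, pow_succ, pow_orderOf_eq_one, one_mul]

/-- an element inverting a nontrivial `p`-element has even order -/
theorem even_of_inv {p : ℕ} (hp : Odd p) {t v : K} (hv : PE p v) (hv1 : v ≠ 1) (h : t * v * t⁻¹ = v⁻¹) :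
    Even (orderOf t) := by
  by_contra hcon
  obtain ⟨k, hk⟩ := exists_sq_pow hcon
  have h1 : t * v = v⁻¹ * t := by rw [← h]; group
  have h0 : t * v⁻¹ = v * t := by
    have h3 : t * v⁻¹ * t⁻¹ = v := by
      calc t * v⁻¹ * t⁻¹ = (t * v * t⁻¹)⁻¹ := by group
        _ = v := by rw [h, inv_inv]
    calc t * v⁻¹ = t * v⁻¹ * t⁻¹ * t := by group
      _ = v * t := by rw [h3]
  have h2 : Commute (t * t) v := by
    change t * t * v = v * (t * t)
    rw [mul_assoc, h1, ← mul_assoc, h0]
    group
  have h3 : Commute t v := by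
    rw [hk]
    exact h2.pow_left k
  have h4 : v = v⁻¹ := by rw [← h, h3.eq]; group
  exact hv1 (hv.eq_one hp (by nth_rewrite 1 [h4]; group))

/-- an element interchanging two different sets of elements by conjugation has even order -/
theorem even_of_swap {A B : Subgroup K} (hne : A ≠ B) {m : K} (h1 : ∀ a ∈ A, m * a * m⁻¹ ∈ B)
    (h2 : ∀ b ∈ B, m * b * m⁻¹ ∈ A) [Finite A] [Finite B] : Even (orderOf m) := by
  by_contra hcon
  obtain ⟨k, hk⟩ := exists_sq_pow hcon
  have key : ∀ C D : Subgroup K, (∀ a ∈ C, m * a * m⁻¹ ∈ D) → (∀ b ∈ D, m * b * m⁻¹ ∈ C) →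
      ∀ a ∈ C, m * a * m⁻¹ ∈ C := by
    intro C D h1 h2 a ha
    have h3 : ∀ j : ℕ, (m * m) ^ j * a * ((m * m) ^ j)⁻¹ ∈ C := by
      intro j
      induction j with
      | zero => simpa using ha
      | succ j ih =>
        have h4 := h2 _ (h1 _ ih)
        have h5 : (m * m) ^ (j + 1) * a * ((m * m) ^ (j + 1))⁻¹ =
            m * (m * ((m * m) ^ j * a * ((m * m) ^ j)⁻¹) * m⁻¹) * m⁻¹ := by
          rw [pow_succ']
          generalize (m * m) ^ j = q
          group
        rw [h5]; exact h4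
    have h4 := h3 k
    rw [← hk] at h4
    exact h4
  apply hne
  have hB : ∀ b ∈ B, b ∈ A := by
    intro b hb
    have hi : Function.Bijective (fun c : B => (⟨m * c * m⁻¹, key B A h2 h1 c c.2⟩ : B)) := by
      rw [← Finite.injective_iff_bijective]
      intro c d h
      have := congrArg Subtype.val h
      exact Subtype.ext (by simpa using this)
    obtain ⟨c, hc⟩ := hi.2 ⟨b, hb⟩
    have e : m * c * m⁻¹ = b := congrArg Subtype.val hc
    rw [← e]
    exact h2 c c.2
  have hA : ∀ a ∈ A, a ∈ B := by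
    intro b hb
    have hi : Function.Bijective (fun c : A => (⟨m * c * m⁻¹, key A B h1 h2 c c.2⟩ : A)) := by
      rw [← Finite.injective_iff_bijective]
      intro c d h
      have := congrArg Subtype.val h
      exact Subtype.ext (by simpa using this)
    obtain ⟨c, hc⟩ := hi.2 ⟨b, hb⟩
    have e : m * c * m⁻¹ = b := congrArg Subtype.val hc
    rw [← e]
    exact h1 c c.2
  exact le_antisymm (fun a ha => hA a ha) (fun b hb => hB b hb)

/-- the involution of a cyclic group of even order -/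
theorem exists_inv [Finite K] {t : K} (ht : Even (orderOf t)) : ∃ k : ℕ, (t ^ k) * (t ^ k) = 1 ∧ t ^ k ≠ 1 := by
  obtain ⟨k, hk⟩ := ht
  have h0 : 0 < orderOf t := orderOf_pos t
  refine ⟨k, ?_, ?_⟩
  · rw [← pow_add, ← hk, pow_orderOf_eq_one]
  · intro h
    have := orderOf_dvd_of_pow_eq_one h
    have := Nat.le_of_dvd (by omega) this
    omega

variable {p : ℕ} {x : MulAut K}

/-- **First source**: fixed `p`-elements `S`, `t ∈ ⟨S⟩` of even order commuting with `S`. -/
theorem obs_of_central [Finite K] {S : Set K} (hS : S ⊆ FP p x) {t : K} (ht : t ∈ Subgroup.closure S)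
    (hc : ∀ s ∈ S, Commute s t) (he : Even (orderOf t)) : Obs p x := by
  obtain ⟨k, h1, h2⟩ := exists_inv he
  refine ⟨t ^ k, t ^ k, Subgroup.closure_mono hS (pow_mem ht k), h1, h2, h1, h2, ?_⟩
  have h3 : S ⊆ {g | g ∈ FP p x ∧ g * t ^ k = t ^ k * g} := fun s hs => ⟨hS hs, ((hc s hs).pow_right k).eq⟩
  exact Subgroup.closure_mono h3 (pow_mem ht k)

theorem commute_closure {S T : Set K} (hc : ∀ s ∈ S, ∀ t ∈ T, Commute s t) {a b : K} (ha : a ∈ Subgroup.closure S)
    (hb : b ∈ Subgroup.closure T) : Commute a b := by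
  have h1 : ∀ t ∈ T, Commute a t := by
    intro t ht
    induction ha using Subgroup.closure_induction with
    | mem s hs => exact hc s hs t ht
    | one => exact Commute.one_left t
    | mul u v _ _ hu hv => exact hu.mul_left hv
    | inv u _ hu => exact hu.inv_left
  induction hb using Subgroup.closure_induction with
  | mem s hs => exact h1 s hs
  | one => exact Commute.one_right a
  | mul u v _ _ hu hv => exact hu.mul_right hv
  | inv u _ hu => exact hu.inv_right

/-- **Second source**: two commuting groups of even order generated by fixed `p`-elements. -/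
theorem obs_W [Finite K] {S T : Set K} (hS : S ⊆ FP p x) (hT : T ⊆ FP p x) (hc : ∀ s ∈ S, ∀ t ∈ T, Commute s t)
    {a b : K} (ha : a ∈ Subgroup.closure S) (hb : b ∈ Subgroup.closure T) (hea : Even (orderOf a))
    (heb : Even (orderOf b)) : Obs p x := by
  obtain ⟨k, h1, h2⟩ := exists_inv hea
  obtain ⟨l, h3, h4⟩ := exists_inv heb
  refine ⟨a ^ k, b ^ l, Subgroup.closure_mono hS (pow_mem ha k), h1, h2, h3, h4, ?_⟩
  have h5 : T ⊆ {g | g ∈ FP p x ∧ g * a ^ k = a ^ k * g} := fun s hs => ⟨hT hs,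
    (commute_closure hc (pow_mem ha k) (Subgroup.subset_closure hs)).symm.eq⟩
  exact Subgroup.closure_mono h5 (pow_mem hb l)

/-- the diagonal elements -/
theorem mem_diag {S : Set K} (hc : ∀ s ∈ S, ∀ s' ∈ S, Commute s (x s')) {y : K} (hy : y ∈ Subgroup.closure S) :
    y * x y ∈ Subgroup.closure {g | ∃ s ∈ S, g = s * x s} := by
  have hc' : ∀ a ∈ Subgroup.closure S, ∀ b ∈ Subgroup.closure S, Commute a (x b) := by
    intro a ha b hb
    refine commute_closure (S := S) (T := x '' S) ?_ ha ?_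
    · rintro s hs _ ⟨s', hs', rfl⟩
      exact hc s hs s' hs'
    · have h1 : (Subgroup.closure S).map x.toMonoidHom = Subgroup.closure (x '' S) := by
        rw [MonoidHom.map_closure]; rfl
      rw [← h1]
      exact ⟨b, hb, rfl⟩
  induction hy using Subgroup.closure_induction with
  | mem s hs => exact Subgroup.subset_closure ⟨s, hs, rfl⟩
  | one => rw [map_one, mul_one]; exact one_mem _
  | mul u v hu hv ihu ihv =>
    have h1 : u * v * x (u * v) = (u * x u) * (v * x v) := by
      have h2 := (hc' v hv u hu).eq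
      rw [map_mul]
      calc u * v * (x u * x v) = u * (v * x u) * x v := by group
        _ = u * (x u * v) * x v := by rw [h2]
        _ = _ := by group
    rw [h1]
    exact mul_mem ihu ihv
  | inv u hu ihu =>
    have h1 : u⁻¹ * x u⁻¹ = (u * x u)⁻¹ := by
      rw [map_inv, (hc' u hu u hu).eq]; group
    rw [h1]
    exact inv_mem ihu

theorem diag_subset (hxx : ∀ g, x (x g) = g) {S : Set K} (hS : ∀ s ∈ S, PE p s)
    (hc : ∀ s ∈ S, ∀ s' ∈ S, Commute s (x s')) : {g | ∃ s ∈ S, g = s * x s} ⊆ FP p x := by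
  rintro _ ⟨s, hs, rfl⟩
  refine ⟨?_, (hS s hs).of_commute ((hS s hs).map x.toMonoidHom) (hc s hs s hs)⟩
  rw [map_mul, hxx]
  exact (hc s hs s hs).symm.eq

/-- **Third source**: `p`-elements `S` commuting with `x S`, `z ∈ ⟨S⟩` centralising `S`, `z * x z` of even order. -/
theorem obs_swap [Finite K] (hxx : ∀ g, x (x g) = g) {S : Set K} (hS : ∀ s ∈ S, PE p s)
    (hc : ∀ s ∈ S, ∀ s' ∈ S, Commute s (x s')) {z : K} (hz : z ∈ Subgroup.closure S) (hzc : ∀ s ∈ S, Commute s z)
    (he : Even (orderOf (z * x z))) : Obs p x := by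
  refine obs_of_central (diag_subset hxx hS hc) (mem_diag hc hz) ?_ he
  rintro _ ⟨s, hs, rfl⟩
  have h1 : Commute s (x z) := by
    have : x z ∈ Subgroup.closure (x '' S) := by
      have h1 : (Subgroup.closure S).map x.toMonoidHom = Subgroup.closure (x '' S) := by
        rw [MonoidHom.map_closure]; rfl
      rw [← h1]
      exact ⟨z, hz, rfl⟩
    refine commute_closure (S := S) (T := x '' S) ?_ (Subgroup.subset_closure hs) this
    rintro s hs _ ⟨s', hs', rfl⟩
    exact hc s hs s' hs'
  have h2 : Commute (x s) z := by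
    have h3 : Commute (x s) (x (x z)) := by
      have := h1.map x.toMonoidHom
      exact this
    rwa [hxx] at h3
  have h4 : Commute (x s) (x z) := (hzc s hs).map x.toMonoidHom
  exact ((hzc s hs).mul_right h1).mul_left (h2.mul_right h4)

/-- `Obs` is invariant under conjugation. -/
theorem Obs.conj {k : K} (h : Obs p x) : Obs p (MulAut.congr (MulAut.conj k) x) := by
  obtain ⟨z, w, hz, h1, h2, h3, h4, hw⟩ := h
  have hact : ∀ g, (MulAut.congr (MulAut.conj k) x) (MulAut.conj k g) = MulAut.conj k (x g) := by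
    intro g
    change (MulAut.conj k) (x ((MulAut.conj k).symm (MulAut.conj k g))) = MulAut.conj k (x g)
    rw [MulEquiv.symm_apply_apply]
  have hFP : ∀ g ∈ FP p x, MulAut.conj k g ∈ FP p (MulAut.congr (MulAut.conj k) x) := by
    rintro g ⟨hg, hgp⟩
    exact ⟨by rw [hact, hg], hgp.map (MulAut.conj k).toMonoidHom⟩
  have key : ∀ (S : Set K) (T : Set K) (y : K), (∀ g ∈ S, MulAut.conj k g ∈ T) → y ∈ Subgroup.closure S →
      MulAut.conj k y ∈ Subgroup.closure T := by
    intro S T y hST hy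
    have h5 : (Subgroup.closure S).map (MulAut.conj k).toMonoidHom ≤ Subgroup.closure T := by
      rw [MonoidHom.map_closure, Subgroup.closure_le]
      rintro _ ⟨g, hg, rfl⟩
      exact Subgroup.subset_closure (hST g hg)
    exact h5 ⟨y, hy, rfl⟩
  refine ⟨MulAut.conj k z, MulAut.conj k w, key _ _ _ hFP hz, by rw [← map_mul, h1, map_one], ?_,
    by rw [← map_mul, h3, map_one], ?_, key _ _ _ ?_ hw⟩
  · intro h; exact h2 ((MulAut.conj k).injective (by rw [h, map_one]))
  · intro h; exact h4 ((MulAut.conj k).injective (by rw [h, map_one]))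
  · rintro g ⟨hg, hgz⟩
    exact ⟨hFP g hg, by rw [← map_mul, hgz, map_mul]⟩

end Cfsg.Agent.H286.Obs
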