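import Cfsg.Agent.UGT.U2.FOne.Main
import Cfsg.Agent.UGT.U2.FOne.NatJ
import Cfsg.Agent.UGT.U2.FOne.Star

/-!
# The normal form of an arbitrary involutory automorphism

`exists_nf` : every involutory automorphism `x` of a simple group with a root group datum of odd characteristic is, up to
an inner automorphism, in the normal form `NF` (with `d = 1`).
-/

set_option autoImplicit false
set_option linter.unusedSectionVars false

open scoped Pointwise

namespace Cfsg.Agent.H286.OddNF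

open CoxeterSystem Cfsg.Agent.ChevalleyStructure.CoxeterGeom Cfsg.Agent.Tits.Roots Cfsg.Agent.Tits.Core
  Cfsg.Agent.Tits.RootComb Cfsg.Agent.Nodes.Comb Cfsg.Agent.Nodes.Reps Cfsg.Agent.Nodes.BNOf Cfsg.Agent.Nodes.BNOf.RGD
  Cfsg.Agent.FixBN Cfsg.Agent.Tits.OfBN Cfsg.Agent.Tits.OppRes Cfsg.Agent.LieExceptional.BNPairCore
  Cfsg.Agent.OddHalf.Table.AutBldg Cfsg.Agent.OddHalf.Table.AutRGD Cfsg.Agent.OddHalf.Table.AutNorm
  Cfsg.Agent.Tits Cfsg.Agent.Nodes.RGDLib Cfsg.Agent.UGT.U2.FOne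
open Cfsg.Agent.Tits.Core.Bldg
open Cfsg.Agent.FixBN.Cox (Par Ad)

variable {I W K : Type*} [Fintype I] [DecidableEq I] [Group W] [Group K] {M : CoxeterMatrix I}
  {cs : CoxeterSystem M W} {A : I → I → ℤ} {h : IsCartan M A} {T : Subgroup K} {n : I → K}
  {X : (I → ℤ) → Subgroup K} [Finite W] [Finite K]

section Tp

variable {p : ℕ} [hp : Fact p.Prime] (R : RGD cs h p T n X) (hgen : B cs h T X ⊔ NN cs R.nsys = ⊤)
  [hN : (((R.bnPair hgen).B ⊓ (R.bnPair hgen).N).subgroupOf (R.bnPair hgen).N).Normal]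
  (cs' : CoxeterSystem M (WP (R.bnPair hgen)))
  (hcs : ∀ i, cs'.simple i = QuotientGroup.mk
    (⟨(eS R hgen i : K), (R.bnPair hgen).subset (eS R hgen i).2⟩ : (R.bnPair hgen).N))
  (hcore : (B cs h T X).normalCore = ⊥)

include R hgen cs' hcs hcore in
theorem exists_nf_tp (hp2 : p ≠ 2) (hG : G1 cs h X = ⊤) (x : MulAut K) (hxx : ∀ g, x (x g) = g) (hx1 : x ≠ 1) :
    ∃ (k : K) (x' : MulAut K) (φ : W ≃* W) (σ : I → I) (J : Set I) (g : K),
      MulAut.congr (MulAut.conj k) x' = x ∧ NF cs h p T n X x' 1 φ σ J g := by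
  have hS : Split (R.bnPair hgen) p (Sup X (Pos cs h)) := SplitRGD.split_of_rgd hp.out R hgen hcore
  have hW : Finite (WP (R.bnPair hgen)) := inferInstance
  have hC : Cox cs := inferInstance
  have hC' : Cox cs' := inferInstance
  have hth : (Bl R hgen cs' hcs).Thick := thick (R.bnPair hgen) (eS R hgen) cs' hcs
  obtain ⟨S, hSdef⟩ : ∃ S, S = Sy R hgen cs' hcs hcore := ⟨_, rfl⟩
  have hne : Nonempty (K ⧸ (R.bnPair hgen).B) := ⟨ch R hgen 1⟩
  obtain ⟨t, ht⟩ := TwOfBN.exists_tw hS (eS R hgen) cs' hcs x hxx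
  -- the two residues
  obtain ⟨J, L, b, c, e, hc, had, he, hce, hb, -, -⟩ := exists_apt S hth hp2 t
  obtain ⟨m0, hm0⟩ := exists_rp cs R.nsys (w0 cs)
  have hopp : (Bl R hgen cs' hcs).Opp (ch R hgen 1) (ch R hgen m0) := by
    change (Bl R hgen cs' hcs).δ _ _ = w0 cs'
    rw [δ_rp R hgen cs' hcs rp_one hm0, inv_one, one_mul, fw_w0 R hgen cs']
  have hopp' : (Bl R hgen cs' hcs).Opp c e := hce.trans had.long
  obtain ⟨k, hk1, hk2⟩ := exists_pos S hopp hopp' (by
    induction c using QuotientGroup.induction_on with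
    | _ a => exact ⟨a, by rw [smul_ch, mul_one]⟩)
  obtain ⟨t', ht'⟩ : ∃ t', t' = twCj S k t := ⟨_, rfl⟩
  obtain ⟨m', hm'⟩ : ∃ m' : Mv (Bl R hgen cs' hcs) K, m' = Mv.one _ _ := ⟨_, rfl⟩
  have hmτ : ∀ g, m'.τ g = g := by rw [hm']; exact fun _ => rfl
  have hmθ : ∀ c, m'.θ c = c := by rw [hm']; exact fun _ => rfl
  have hmφ : ∀ w, m'.φ w = w := by rw [hm']; exact fun _ => rfl
  have hcd' : Cd t' m' p := by
    refine Cd.mk' S hth hmφ ?_ ?_ ⟨1, odd_one, ?_⟩
    · intro g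
      rw [hmτ, hmτ]
    · intro v _ _
      rw [hmτ]
    · intro g
      rw [Function.iterate_one, hmτ]
  have hgd : t'.Gd J (ch R hgen 1) := by
    rw [ht']
    exact gd_twCj S k (by rw [hk1]; exact hc)
  have hgdL : t'.Gd L (ch R hgen m0) := by
    rw [ht']
    exact gd_twCj S k (by rw [hk2]; exact he)
  have hx' : MulAut.congr (MulAut.conj k) t'.τ = x := by
    ext g
    change k * t'.τ (k⁻¹ * g * k) * k⁻¹ = x g
    rw [ht', twCj_τ, ht]
    have h1 : k * (k⁻¹ * g * k) * k⁻¹ = g := by group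
    rw [h1]
    group
  have hm1 : (m'.τ : MulAut K) = 1 := MulEquiv.ext hmτ
  obtain ⟨g, hg⟩ := nf_core R hgen cs' hcs hcore hG t' m' hcd' (by
      by_contra hcon
      push Not at hcon
      apply hx1
      rw [← hx']
      have h1 : (t'.τ : MulAut K) = 1 := MulEquiv.ext hcon
      rw [h1, map_one]) (by rw [hm1, orderOf_one]; exact odd_one) hm0 hgd (by rw [ht']; exact had) hgdL (by
      rw [ht', twCj_θ, hk1, ← hb, ← hk2]
      have h1 := S.iso k (k⁻¹ • t.θ c) (ch R hgen m0)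
      rw [smul_inv_smul] at h1
      exact h1.symm) (by rw [hmθ]) (by rw [hmθ])
  rw [hm1] at hg
  exact ⟨k, t'.τ, _, _, _, g, hx', hg⟩

end Tp

/-- **The normal form of an involutory automorphism.** -/
theorem exists_nf [hs : IsSimpleGroup K] {p : ℕ} [hp : Fact p.Prime] (hp2 : p ≠ 2)
    (R : RGD cs h p T n X) (hG : G1 cs h X = ⊤) (x : MulAut K) (hxx : ∀ g, x (x g) = g) (hx1 : x ≠ 1) :
    ∃ (k : K) (x' : MulAut K) (φ : W ≃* W) (σ : I → I) (J : Set I) (g : K),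
      MulAut.congr (MulAut.conj k) x' = x ∧ NF cs h p T n X x' 1 φ σ J g := by
  have hI := nonempty_of_G1 hG
  have hgen := rgd_gen_of_G1 R hG
  have hcore : (B cs h T X).normalCore = ⊥ :=
    Cfsg.Agent.Tits.OfBN.normalCore_eq_bot (R.bnPair hgen) ⟨n hI.some, hI.some, rfl⟩
  obtain ⟨hN, cs', hcs, hW, hS⟩ := exists_setup R hgen hcore
  exact exists_nf_tp R hgen cs' hcs hcore hp2 hG x hxx hx1

end Cfsg.Agent.H286.OddNF
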