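import Cfsg.Agent.H286.PSplit
import Cfsg.Agent.H286.Chain
import Cfsg.Agent.Nodes.CardSup
import Cfsg.Agent.Nodes.Slope
import Cfsg.Agent.Nodes.LeviDec

/-!
# Splittings given by sets of roots
-/

set_option autoImplicit false
set_option linter.unusedSectionVars false

namespace Cfsg.Agent.H286.PSets

open CoxeterSystem Cfsg.Agent.ChevalleyStructure.CoxeterGeom Cfsg.Agent.Tits.Roots Cfsg.Agent.Tits.Core
  Cfsg.Agent.Tits.RootComb Cfsg.Agent.Tits.Exchange Cfsg.Agent.Nodes.Comb Cfsg.Agent.Nodes.Reps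
  Cfsg.Agent.Nodes.BNOf Cfsg.Agent.Nodes.RGDLib Cfsg.Agent.Nodes.Bruhat Cfsg.Agent.Nodes.StabComb
  Cfsg.Agent.Nodes.OppDec Cfsg.Agent.Nodes.Coroot Cfsg.Agent.KFacts.RgdSL Cfsg.Agent.UGT.U2.FOne
  Cfsg.Agent.H286.Obs Cfsg.Agent.H286.RootObs Cfsg.Agent.H286.Comb Cfsg.Agent.H286.Row
  Cfsg.Agent.H286.PSplit Cfsg.Agent.Nodes.LeviDec
open Cfsg.Agent.Nodes.BNOf.RGD (Sup le_Sup Sup_le Sup_mono)

variable {I W K : Type*} [Fintype I] [DecidableEq I] [Group W] [Group K] {M : CoxeterMatrix I}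
  {cs : CoxeterSystem M W} {A : I → I → ℤ} {h : IsCartan M A} {p : ℕ} {T : Subgroup K} {n : I → K}
  {X : (I → ℤ) → Subgroup K}

theorem Sup_eq_closure (S : Set (I → ℤ)) : Sup X S = Subgroup.closure {g | ∃ r ∈ S, g ∈ X r} := by
  apply le_antisymm
  · exact Sup_le fun r hr g hg => Subgroup.subset_closure ⟨r, hr, hg⟩
  · rw [Subgroup.closure_le]
    rintro g ⟨r, hr, hg⟩
    exact le_Sup hr hg

theorem comm_Sup {S S' : Set (I → ℤ)} (hc : ∀ r ∈ S, ∀ s ∈ S', ∀ a ∈ X r, ∀ b ∈ X s, a * b = b * a) {a b : K}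
    (ha : a ∈ Sup X S) (hb : b ∈ Sup X S') : a * b = b * a := by
  rw [Sup_eq_closure] at ha hb
  refine (commute_closure ?_ ha hb).eq
  rintro a ⟨r, hr, ha⟩ b ⟨s, hs, hb⟩
  exact hc r hr s hs a ha b hb

theorem com_Sup {S S' : Set (I → ℤ)} {Z : Subgroup K}
    (hc : ∀ r ∈ S, ∀ s ∈ S', ∀ a ∈ X r, ∀ b ∈ X s, ∃ z ∈ Z, b * a = a * b * z)
    (h1 : ∀ a ∈ Sup X S, ∀ z ∈ Z, a * z = z * a) (h2 : ∀ a ∈ Sup X S', ∀ z ∈ Z, a * z = z * a) {a b : K}
    (ha : a ∈ Sup X S) (hb : b ∈ Sup X S') : ∃ z ∈ Z, b * a = a * b * z := by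
  -- first for `b` in a root group
  have key : ∀ a ∈ Sup X S, ∀ s ∈ S', ∀ b ∈ X s, ∃ z ∈ Z, b * a = a * b * z := by
    intro a ha s hs b hb
    have ha' := ha
    rw [Sup_eq_closure] at ha'
    revert ha
    induction ha' using Subgroup.closure_induction with
    | mem a ha =>
      intro _
      obtain ⟨r, hr, ha⟩ := ha
      exact hc r hr s hs a ha b hb
    | one => exact fun _ => ⟨1, one_mem _, by group⟩
    | mul u v hu hv ihu ihv =>
      intro _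
      rw [← Sup_eq_closure] at hu hv
      obtain ⟨z, hz, e⟩ := ihu hu
      obtain ⟨z', hz', e'⟩ := ihv hv
      refine ⟨z' * z, mul_mem hz' hz, ?_⟩
      have e1 := h1 v hv z hz
      calc b * (u * v) = (b * u) * v := by group
        _ = u * b * (z * v) := by rw [e]; group
        _ = u * (b * v) * z := by rw [← e1]; group
        _ = u * v * b * (z' * z) := by rw [e']; group
    | inv u hu ihu =>
      intro _
      rw [← Sup_eq_closure] at hu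
      obtain ⟨z, hz, e⟩ := ihu hu
      refine ⟨z⁻¹, inv_mem hz, ?_⟩
      have e1 := h1 u hu z hz
      have e2 := h2 b (le_Sup hs hb) z hz
      -- `b u = u b z` gives `u⁻¹ b = b z u⁻¹`
      have e3 : u⁻¹ * b * u = b * z := by rw [mul_assoc, e]; group
      have e4 : b * z * u⁻¹ = u⁻¹ * b := by rw [← e3]; group
      have e5 : z * u⁻¹ = u⁻¹ * z := by rw [eq_inv_mul_iff_mul_eq, ← mul_assoc, e1, mul_inv_cancel_right]
      rw [← e4, mul_assoc b z, e5, mul_assoc, mul_assoc, mul_inv_cancel, mul_one]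
  have hb' := hb
  rw [Sup_eq_closure] at hb'
  revert hb
  induction hb' using Subgroup.closure_induction with
  | mem b hb =>
    intro _
    obtain ⟨s, hs, hb⟩ := hb
    exact key a ha s hs b hb
  | one => exact fun _ => ⟨1, one_mem _, by group⟩
  | mul u v hu hv ihu ihv =>
    intro _
    rw [← Sup_eq_closure] at hu hv
    obtain ⟨z, hz, e⟩ := ihu hu
    obtain ⟨z', hz', e'⟩ := ihv hv
    refine ⟨z * z', mul_mem hz hz', ?_⟩
    have e1 := h2 v hv z hz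
    calc u * v * a = u * (v * a) := by group
      _ = (u * a) * v * z' := by rw [e']; group
      _ = a * u * (z * v) * z' := by rw [e]; group
      _ = a * (u * v) * (z * z') := by rw [← e1]; group
  | inv u hu ihu =>
    intro _
    rw [← Sup_eq_closure] at hu
    obtain ⟨z, hz, e⟩ := ihu hu
    refine ⟨z⁻¹, inv_mem hz, ?_⟩
    have e1 := h2 u hu z hz
    have e1' := h1 a ha z hz
    -- `u a = a u z`
    have e2 : u⁻¹ * a * u = a * z⁻¹ := by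
      have h3 : u⁻¹ * a * u * z = a := by
        calc u⁻¹ * a * u * z = u⁻¹ * (a * u * z) := by group
          _ = a := by rw [← e]; group
      exact eq_mul_inv_of_mul_eq h3
    have e3 : z⁻¹ * u⁻¹ = u⁻¹ * z⁻¹ := by rw [← mul_inv_rev, ← mul_inv_rev, e1]
    calc u⁻¹ * a = (u⁻¹ * a * u) * u⁻¹ := by group
      _ = a * (z⁻¹ * u⁻¹) := by rw [e2]; group
      _ = a * u⁻¹ * z⁻¹ := by rw [e3]; group

theorem exp_Sup {S : Set (I → ℤ)} (hc : ∀ r ∈ S, ∀ s ∈ S, ∀ a ∈ X r, ∀ b ∈ X s, a * b = b * a)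
    (he : ∀ r ∈ S, ∀ a ∈ X r, a ^ p = 1) {a : K} (ha : a ∈ Sup X S) : a ^ p = 1 := by
  have ha' := ha
  rw [Sup_eq_closure] at ha'
  revert ha
  induction ha' using Subgroup.closure_induction with
  | mem a ha =>
    intro _
    obtain ⟨r, hr, ha⟩ := ha
    exact he r hr a ha
  | one => exact fun _ => one_pow p
  | mul u v hu hv ihu ihv =>
    intro _
    rw [← Sup_eq_closure] at hu hv
    rw [(show Commute u v from comm_Sup hc hu hv).mul_pow, ihu hu, ihv hv, one_mul]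
  | inv u hu ihu =>
    intro _
    rw [← Sup_eq_closure] at hu
    rw [inv_pow, ihu hu, inv_one]

theorem inv_Sup {S : Set (I → ℤ)} {x : MulAut K} (hc : ∀ r ∈ S, ∀ s ∈ S, ∀ a ∈ X r, ∀ b ∈ X s, a * b = b * a)
    (he : ∀ r ∈ S, ∀ a ∈ X r, x a = a⁻¹) {a : K} (ha : a ∈ Sup X S) : x a = a⁻¹ := by
  have ha' := ha
  rw [Sup_eq_closure] at ha'
  revert ha
  induction ha' using Subgroup.closure_induction with
  | mem a ha =>
    intro _
    obtain ⟨r, hr, ha⟩ := ha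
    exact he r hr a ha
  | one => exact fun _ => by rw [map_one, inv_one]
  | mul u v hu hv ihu ihv =>
    intro _
    rw [← Sup_eq_closure] at hu hv
    rw [map_mul, ihu hu, ihv hv, comm_Sup hc hu hv, mul_inv_rev]
  | inv u hu ihu =>
    intro _
    rw [← Sup_eq_closure] at hu
    rw [map_inv, ihu hu]

theorem pe_Sup {S : Set (I → ℤ)} (hc : ∀ r ∈ S, ∀ s ∈ S, ∀ a ∈ X r, ∀ b ∈ X s, a * b = b * a)
    (he : ∀ r ∈ S, ∀ a ∈ X r, PE p a) {a : K} (ha : a ∈ Sup X S) : PE p a := by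
  have ha' := ha
  rw [Sup_eq_closure] at ha'
  revert ha
  induction ha' using Subgroup.closure_induction with
  | mem a ha =>
    intro _
    obtain ⟨r, hr, ha⟩ := ha
    exact he r hr a ha
  | one => exact fun _ => ⟨0, one_pow _⟩
  | mul u v hu hv ihu ihv =>
    intro _
    rw [← Sup_eq_closure] at hu hv
    exact (ihu hu).of_commute (ihv hv) (comm_Sup hc hu hv)
  | inv u hu ihu =>
    intro _
    rw [← Sup_eq_closure] at hu
    exact (ihu hu).inv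

/-- The data of a splitting by sets of roots. -/
structure Sets (cs : CoxeterSystem M W) (h : IsCartan M A) (X : (I → ℤ) → Subgroup K) (p : ℕ) (x : MulAut K)
    (SA SB SZ : Set (I → ℤ)) : Prop where
  rA : ∀ r ∈ SA, IsRoot cs h r
  rB : ∀ r ∈ SB, IsRoot cs h r
  rZ : ∀ r ∈ SZ, IsRoot cs h r
  map : ∀ r ∈ SA, ∃ s ∈ SB, (X r).map x.toMonoidHom = X s
  map' : ∀ s ∈ SB, ∃ r ∈ SA, (X r).map x.toMonoidHom = X s
  cA : ∀ r ∈ SA, ∀ s ∈ SA, ∀ a ∈ X r, ∀ b ∈ X s, a * b = b * a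
  cZ : ∀ r ∈ SZ, ∀ s ∈ SZ, ∀ a ∈ X r, ∀ b ∈ X s, a * b = b * a
  cAZ : ∀ r ∈ SA, ∀ s ∈ SZ, ∀ a ∈ X r, ∀ b ∈ X s, a * b = b * a
  cBZ : ∀ r ∈ SB, ∀ s ∈ SZ, ∀ a ∈ X r, ∀ b ∈ X s, a * b = b * a
  com : ∀ r ∈ SA, ∀ s ∈ SB, ∀ a ∈ X r, ∀ b ∈ X s, ∃ z ∈ Sup X SZ, b * a = a * b * z
  inv : ∀ r ∈ SZ, ∀ z ∈ X r, x z = z⁻¹
  exp : ∀ r ∈ SA, ∀ a ∈ X r, a ^ p = 1
  fA : ∃ f : (I → ℤ) →+ ℤ, (∀ r ∈ SA, 0 < f r) ∧ (∀ r ∈ SB, f r < 0) ∧ ∀ r ∈ SZ, f r < 0
  fB : ∃ f : (I → ℤ) →+ ℤ, (∀ r ∈ SB, 0 < f r) ∧ ∀ r ∈ SZ, f r < 0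

variable {x : MulAut K} {SA SB SZ : Set (I → ℤ)}

theorem Sets.split [Finite W] (R : RGD cs h p T n X) (S : Sets cs h X p x SA SB SZ) {V : Subgroup K}
    (hV : V = Sup X (SA ∪ SB ∪ SZ)) : Split p x V (Sup X SA) (Sup X SB) (Sup X SZ) where
  le := by
    rw [hV]
    refine Sup_le ?_
    rintro r ((hr | hr) | hr)
    · exact (le_Sup hr).trans (le_sup_left.trans le_sup_left)
    · exact (le_Sup hr).trans (le_sup_right.trans le_sup_left)
    · exact (le_Sup hr).trans le_sup_right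
  leA := by rw [hV]; exact Sup_mono fun r hr => Or.inl (Or.inl hr)
  leB := by rw [hV]; exact Sup_mono fun r hr => Or.inl (Or.inr hr)
  leZ := by rw [hV]; exact Sup_mono fun r hr => Or.inr hr
  map := by
    unfold Sup
    rw [Subgroup.map_iSup]
    apply le_antisymm
    · refine iSup_le ?_
      rintro ⟨r, hr⟩
      obtain ⟨s, hs, e⟩ := S.map r hr
      rw [e]
      exact le_iSup (fun z : SB => X z.1) ⟨s, hs⟩
    · refine iSup_le ?_
      rintro ⟨s, hs⟩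
      obtain ⟨r, hr, e⟩ := S.map' s hs
      change X s ≤ _
      rw [← e]
      exact le_iSup (fun z : SA => (X z.1).map x.toMonoidHom) ⟨r, hr⟩
  cA a ha b hb := comm_Sup S.cA ha hb
  cZ a ha b hb := comm_Sup S.cZ ha hb
  cAZ a ha b hb := comm_Sup S.cAZ ha hb
  cBZ a ha b hb := comm_Sup S.cBZ ha hb
  com a ha b hb := com_Sup S.com (fun a ha b hb => comm_Sup S.cAZ ha hb) (fun a ha b hb => comm_Sup S.cBZ ha hb) ha hb
  inv z hz := inv_Sup S.cZ S.inv hz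
  exp a ha := exp_Sup S.cA S.exp ha
  expZ a ha := pe_Sup S.cZ (fun r hr a ha => pe_of_mem R (S.rZ r hr) ha) ha
  uniq a ha b hb z hz e := by
    obtain ⟨f, h1, h2, h3⟩ := S.fA
    obtain ⟨g, h4, h5⟩ := S.fB
    have m1 : SA ⊆ {x | IsRoot cs h x ∧ 0 < f x} := fun r hr => ⟨S.rA r hr, h1 r hr⟩
    have m2 : SB ⊆ {x | IsRoot cs h x ∧ f x < 0} := fun r hr => ⟨S.rB r hr, h2 r hr⟩
    have m3 : SZ ⊆ {x | IsRoot cs h x ∧ f x < 0} := fun r hr => ⟨S.rZ r hr, h3 r hr⟩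
    have m4 : SB ⊆ {x | IsRoot cs h x ∧ 0 < g x} := fun r hr => ⟨S.rB r hr, h4 r hr⟩
    have m5 : SZ ⊆ {x | IsRoot cs h x ∧ g x < 0} := fun r hr => ⟨S.rZ r hr, h5 r hr⟩
    have ha1 : a = 1 := by
      refine Cfsg.Agent.Nodes.Slope.sup_inf_sup R f (Sup_mono m1 ha) ?_
      have e1 : a = (b * z)⁻¹ := by rw [eq_inv_iff_mul_eq_one, ← mul_assoc]; exact e
      rw [e1]
      exact inv_mem (mul_mem (Sup_mono m2 hb) (Sup_mono m3 hz))
    refine ⟨ha1, ?_⟩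
    rw [ha1, one_mul] at e
    refine Cfsg.Agent.Nodes.Slope.sup_inf_sup R g (Sup_mono m4 hb) ?_
    rw [eq_inv_of_mul_eq_one_left e]
    exact inv_mem (Sup_mono m5 hz)

/-- **`PCase` from sets of roots.** -/
theorem Sets.pcase [Finite W] [Finite K] (R : RGD cs h p T n X) (hp : Odd p) (hxx : ∀ g, x (x g) = g) {s : Finset (I → ℤ)}
    (S : Sets cs h X p x s SB SZ) {J : Set I} (hJ : NotJ cs h J = (s : Set (I → ℤ)) ∪ SB ∪ SZ)
    (hS : Syl p x (VJ cs h X J)) (hN : NoO p x) (hcl : Cfsg.Agent.Nodes.Unique.Closed cs h (s : Set (I → ℤ))) {a : ℕ}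
    (hA : ∏ x ∈ s, Nat.card (X x) = a ^ 2) (ha : a % 8 = 1 ∨ a % 8 = 7) (ha1 : 1 < a) : PCase p x := by
  have h1 : VJ cs h X J = Sup X ((s : Set (I → ℤ)) ∪ SB ∪ SZ) := by
    unfold VJ; rw [hJ]
  refine PSplit.pcase (S.split R h1) hxx hp hS hN ?_ ha ha1
  refine (Cfsg.Agent.Nodes.CardSup.card_sup R ?_ hcl).trans hA
  intro r hr
  have h2 : r ∈ NotJ cs h J := by rw [hJ]; exact Or.inl (Or.inl hr)
  exact ⟨h2.1, h2.2.1⟩

end Cfsg.Agent.H286.PSets
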