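import Cfsg.Agent.H286.Row

/-!
# `PCase` from a splitting of the unipotent radical

`V = A B Z`, `x A = B`, `[A, B] ≤ Z`, `Z` central and inverted by `x`: the fixed points of `x` in `V` form an elementary
abelian group of order `|A|`.
-/

set_option autoImplicit false
set_option linter.dupNamespace false

namespace Cfsg.Agent.H286.PSplit

open Cfsg Cfsg.Agent.H286.Obs Cfsg.Agent.H286.Row

variable {K : Type*} [Group K] {p : ℕ} {x : MulAut K} {V A B Z : Subgroup K}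

/-- The data of a splitting. -/
structure Split (p : ℕ) (x : MulAut K) (V A B Z : Subgroup K) : Prop where
  le : V ≤ A ⊔ B ⊔ Z
  leA : A ≤ V
  leB : B ≤ V
  leZ : Z ≤ V
  map : A.map x.toMonoidHom = B
  cA : ∀ a ∈ A, ∀ b ∈ A, a * b = b * a
  cZ : ∀ a ∈ Z, ∀ b ∈ Z, a * b = b * a
  cAZ : ∀ a ∈ A, ∀ z ∈ Z, a * z = z * a
  cBZ : ∀ a ∈ B, ∀ z ∈ Z, a * z = z * a
  com : ∀ a ∈ A, ∀ b ∈ B, ∃ z ∈ Z, b * a = a * b * z
  inv : ∀ z ∈ Z, x z = z⁻¹
  exp : ∀ a ∈ A, a ^ p = 1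
  expZ : ∀ a ∈ Z, ∃ m : ℕ, a ^ p ^ m = 1
  uniq : ∀ a ∈ A, ∀ b ∈ B, ∀ z ∈ Z, a * b * z = 1 → a = 1 ∧ b = 1

/-- the products -/
def prod (S : Split p x V A B Z) : Subgroup K where
  carrier := {g | ∃ a ∈ A, ∃ b ∈ B, ∃ z ∈ Z, g = a * b * z}
  mul_mem' := by
    rintro _ _ ⟨a, ha, b, hb, z, hz, rfl⟩ ⟨a', ha', b', hb', z', hz', rfl⟩
    obtain ⟨w, hw, e⟩ := S.com a' ha' b hb
    refine ⟨a * a', mul_mem ha ha', b * b', mul_mem hb hb', w * z * z', mul_mem (mul_mem hw hz) hz', ?_⟩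
    have e1 := S.cAZ a' ha' z hz
    have e2 := S.cBZ b' hb' z hz
    have e3 := S.cBZ b' hb' w hw
    calc a * b * z * (a' * b' * z') = a * b * (z * a') * b' * z' := by group
      _ = a * (b * a') * (z * b') * z' := by rw [← e1]; group
      _ = a * a' * b * (w * b') * z * z' := by rw [e, ← e2]; group
      _ = a * a' * (b * b') * (w * z * z') := by rw [← e3]; group
  one_mem' := ⟨1, one_mem _, 1, one_mem _, 1, one_mem _, by group⟩
  inv_mem' := by
    rintro _ ⟨a, ha, b, hb, z, hz, rfl⟩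
    obtain ⟨w, hw, e⟩ := S.com a⁻¹ (inv_mem ha) b⁻¹ (inv_mem hb)
    refine ⟨a⁻¹, inv_mem ha, b⁻¹, inv_mem hb, w * z⁻¹, mul_mem hw (inv_mem hz), ?_⟩
    have e1 := S.cAZ a⁻¹ (inv_mem ha) z⁻¹ (inv_mem hz)
    have e2 := S.cBZ b⁻¹ (inv_mem hb) z⁻¹ (inv_mem hz)
    calc (a * b * z)⁻¹ = (z⁻¹ * b⁻¹) * a⁻¹ := by group
      _ = b⁻¹ * (z⁻¹ * a⁻¹) := by rw [← e2]; group
      _ = (b⁻¹ * a⁻¹) * z⁻¹ := by rw [← e1]; group
      _ = _ := by rw [e]; group

theorem dec (S : Split p x V A B Z) {v : K} (hv : v ∈ V) : ∃ a ∈ A, ∃ b ∈ B, ∃ z ∈ Z, v = a * b * z := by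
  have h1 : A ⊔ B ⊔ Z ≤ prod S := by
    refine sup_le (sup_le ?_ ?_) ?_
    · exact fun a ha => ⟨a, ha, 1, one_mem _, 1, one_mem _, by group⟩
    · exact fun b hb => ⟨1, one_mem _, b, hb, 1, one_mem _, by group⟩
    · exact fun z hz => ⟨1, one_mem _, 1, one_mem _, z, hz, by group⟩
  exact h1 (S.le hv)

/-- the fixed points in `V` -/
def P (x : MulAut K) (V : Subgroup K) : Subgroup K where
  carrier := {v | v ∈ V ∧ x v = v}
  mul_mem' := by
    rintro a b ⟨h1, h2⟩ ⟨h3, h4⟩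
    exact ⟨mul_mem h1 h3, by rw [map_mul, h2, h4]⟩
  one_mem' := ⟨one_mem _, map_one x⟩
  inv_mem' := by
    rintro a ⟨h1, h2⟩
    exact ⟨inv_mem h1, by rw [map_inv, h2]⟩

theorem mem_P {v : K} : v ∈ P x V ↔ v ∈ V ∧ x v = v := Iff.rfl

variable (S : Split p x V A B Z) (hxx : ∀ g, x (x g) = g)

include S

theorem x_mem_B {a : K} (ha : a ∈ A) : x a ∈ B := by
  rw [← S.map]; exact Subgroup.mem_map_of_mem x.toMonoidHom ha

theorem cB : ∀ a ∈ B, ∀ b ∈ B, a * b = b * a := by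
  intro a ha b hb
  rw [← S.map] at ha hb
  obtain ⟨a, ha, rfl⟩ := ha
  obtain ⟨b, hb, rfl⟩ := hb
  rw [← map_mul, S.cA a ha b hb, map_mul]

/-- a fixed element of `Z` is trivial -/
theorem z_one (hp : Odd p) {z : K} (hz : z ∈ Z) (hx : x z = z) : z = 1 := by
  rw [S.inv z hz] at hx
  refine PE.eq_one hp (S.expZ z hz) ?_
  nth_rewrite 1 [← hx]
  rw [inv_mul_cancel]

include hxx

/-- the form of the fixed elements -/
theorem fixed_form {a b z : K} (ha : a ∈ A) (hb : b ∈ B) (hz : z ∈ Z) (h : x (a * b * z) = a * b * z) : b = x a := by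
  have hb' := hb
  rw [← S.map] at hb'
  obtain ⟨c, hc, rfl⟩ := hb'
  change x (a * x c * z) = a * x c * z at h
  have hxa := x_mem_B S ha
  obtain ⟨w, hw, e⟩ := S.com c hc (x a) hxa
  have e1 : x (a * x c * z) = c * x a * (w * z⁻¹) := by
    rw [map_mul, map_mul, hxx, S.inv z hz, e]; group
  rw [e1] at h
  -- `(a⁻¹ c) * (x a (x c)⁻¹) * z' = 1`
  have hxc := x_mem_B S hc
  obtain ⟨w', hw', e'⟩ := S.com (a⁻¹ * c) (mul_mem (inv_mem ha) hc) ((x c)⁻¹) (inv_mem hxc)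
  have e2 : (a⁻¹ * c) * ((x c)⁻¹ * x a) * (w' * (w * z⁻¹ * z⁻¹)) = 1 := by
    have h1 : (x c)⁻¹ * a⁻¹ * (c * x a * (w * z⁻¹)) = z := by rw [h]; group
    have k1 : (x c)⁻¹ * (a⁻¹ * c) * x a * (w * z⁻¹) = z := by
      calc (x c)⁻¹ * (a⁻¹ * c) * x a * (w * z⁻¹) = (x c)⁻¹ * a⁻¹ * (c * x a * (w * z⁻¹)) := by group
        _ = z := h1
    rw [e'] at k1
    have k2 := S.cBZ (x a) hxa w' hw'
    have k3 := S.cZ w' hw' (w * z⁻¹) (mul_mem hw (inv_mem hz))
    calc (a⁻¹ * c) * ((x c)⁻¹ * x a) * (w' * (w * z⁻¹ * z⁻¹)) = a⁻¹ * c * (x c)⁻¹ * (x a * w') * (w * z⁻¹) * z⁻¹ := by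
          group
      _ = a⁻¹ * c * (x c)⁻¹ * w' * x a * (w * z⁻¹) * z⁻¹ := by rw [k2]; group
      _ = 1 := by rw [k1]; group
  obtain ⟨h3, -⟩ := S.uniq _ (mul_mem (inv_mem ha) hc) _ (mul_mem (inv_mem hxc) hxa) _
    (mul_mem hw' (mul_mem (mul_mem hw (inv_mem hz)) (inv_mem hz))) e2
  rw [inv_mul_eq_one] at h3
  rw [h3]
  rfl

/-- for every `a ∈ A` there is a unique fixed point `a * x a * z` -/
theorem exists_fixed (hp : Odd p) {a : K} (ha : a ∈ A) : ∃ z ∈ Z, x (a * x a * z) = a * x a * z := by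
  have hxa := x_mem_B S ha
  obtain ⟨w, hw, e⟩ := S.com a ha (x a) hxa
  -- `x (a x a) = x a a = a x a w`, need `w z⁻¹ = z`, i.e. `z² = w`
  obtain ⟨m, hm⟩ := S.expZ w hw
  obtain ⟨k, hk⟩ : ∃ k, p ^ m = 2 * k + 1 := hp.pow
  have hz : w ^ (k + 1) ∈ Z := pow_mem hw _
  refine ⟨w ^ (k + 1), hz, ?_⟩
  have h1 : w ^ (k + 1) * w ^ (k + 1) = w := by
    rw [← pow_add, show k + 1 + (k + 1) = p ^ m + 1 by omega, pow_succ, hm, one_mul]
  rw [map_mul, map_mul, hxx, S.inv _ hz, e]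
  have h2 : w * (w ^ (k + 1))⁻¹ = w ^ (k + 1) := by
    rw [mul_inv_eq_iff_eq_mul, h1]
  rw [mul_assoc, h2]

theorem comm_P (hp : Odd p) {u v : K} (hu : u ∈ P x V) (hv : v ∈ P x V) : u * v = v * u := by
  obtain ⟨hu, hxu⟩ := hu
  obtain ⟨hv, hxv⟩ := hv
  obtain ⟨a, ha, b, hb, z, hz, rfl⟩ := dec S hu
  obtain ⟨a', ha', b', hb', z', hz', rfl⟩ := dec S hv
  -- the commutator is in `Z`
  obtain ⟨w, hw, e⟩ := S.com a' ha' b hb
  obtain ⟨w', hw', e'⟩ := S.com a ha b' hb'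
  have c1 := S.cA a ha a' ha'
  have c2 := cB S b hb b' hb'
  have hkey : a * b * z * (a' * b' * z') = (a' * b' * z') * (a * b * z) * (w * w'⁻¹) := by
    have k1 : ∀ g ∈ Z, ∀ y ∈ Z, g * y = y * g := S.cZ
    have l1 : a * b * z * (a' * b' * z') = (a * a') * (b * b') * (w * z * z') := by
      have e1 := S.cAZ a' ha' z hz
      have e2 := S.cBZ b' hb' z hz
      have e3 := S.cBZ b' hb' w hw
      calc a * b * z * (a' * b' * z') = a * b * (z * a') * b' * z' := by group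
        _ = a * (b * a') * (z * b') * z' := by rw [← e1]; group
        _ = a * a' * b * (w * b') * z * z' := by rw [e, ← e2]; group
        _ = a * a' * (b * b') * (w * z * z') := by rw [← e3]; group
    have l2 : (a' * b' * z') * (a * b * z) = (a * a') * (b * b') * (w' * z' * z) := by
      have e1 := S.cAZ a ha z' hz'
      have e2 := S.cBZ b hb z' hz'
      have e3 := S.cBZ b hb w' hw'
      calc a' * b' * z' * (a * b * z) = a' * b' * (z' * a) * b * z := by group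
        _ = a' * (b' * a) * (z' * b) * z := by rw [← e1]; group
        _ = a' * a * b' * (w' * b) * z' * z := by rw [e', ← e2]; group
        _ = a' * a * (b' * b) * (w' * z' * z) := by rw [← e3]; group
        _ = _ := by rw [c1, c2]
    rw [l1, l2]
    have l3 : w' * z' * z * (w * w'⁻¹) = w * z * z' := by
      have m1 := k1 _ (mul_mem hz' hz) _ hw
      have m2 := k1 z hz z' hz'
      have m3 := k1 _ (mul_mem (mul_mem hw hz') hz) _ (inv_mem hw')
      have m4 := k1 w' hw' _ (mul_mem (mul_mem hw hz') hz)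
      calc w' * z' * z * (w * w'⁻¹) = w' * ((z' * z) * w) * w'⁻¹ := by group
        _ = w' * (w * z' * z) * w'⁻¹ := by rw [m1]; group
        _ = w * z' * z := by rw [m4]; group
        _ = w * (z' * z) := by group
        _ = _ := by rw [← m2]; group
    rw [← l3]; group
  have hz0 : w * w'⁻¹ ∈ Z := mul_mem hw (inv_mem hw')
  have hfix : x (w * w'⁻¹) = w * w'⁻¹ := by
    have h1 : w * w'⁻¹ = ((a' * b' * z') * (a * b * z))⁻¹ * (a * b * z * (a' * b' * z')) := by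
      rw [hkey]; group
    rw [h1, map_mul, map_inv, map_mul x (a' * b' * z'), map_mul x (a * b * z) (a' * b' * z'), hxu, hxv]
  rw [hkey, z_one S hp hz0 hfix, mul_one]

theorem exp_P (hp : Odd p) {u : K} (hu : u ∈ P x V) : u ^ p = 1 := by
  obtain ⟨hu, hxu⟩ := hu
  obtain ⟨a, ha, b, hb, z, hz, rfl⟩ := dec S hu
  have key : ∀ n : ℕ, ∃ w ∈ Z, (a * b * z) ^ n = a ^ n * b ^ n * w := by
    intro n
    induction n with
    | zero => exact ⟨1, one_mem _, by simp⟩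
    | succ n ih =>
      obtain ⟨w, hw, e⟩ := ih
      obtain ⟨w', hw', e'⟩ := S.com a ha (b ^ n) (pow_mem hb n)
      refine ⟨w' * w * z, mul_mem (mul_mem hw' hw) hz, ?_⟩
      have e1 := S.cAZ a ha w hw
      have e2 := S.cBZ b hb w hw
      have e3 := S.cBZ b hb w' hw'
      rw [pow_succ, e, pow_succ, pow_succ]
      calc a ^ n * b ^ n * w * (a * b * z) = a ^ n * b ^ n * (w * a) * b * z := by group
        _ = a ^ n * (b ^ n * a) * (w * b) * z := by rw [← e1]; group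
        _ = a ^ n * a * b ^ n * (w' * b) * w * z := by rw [e', ← e2]; group
        _ = a ^ n * a * (b ^ n * b) * (w' * w * z) := by rw [← e3]; group
  obtain ⟨w, hw, e⟩ := key p
  have hb1 : b ^ p = 1 := by
    have hb' := hb
    rw [← S.map] at hb'
    obtain ⟨c, hc, rfl⟩ := hb'
    change (x c) ^ p = 1
    rw [← map_pow, S.exp c hc, map_one]
  rw [S.exp a ha, hb1, one_mul, one_mul] at e
  have hfix : x w = w := by rw [← e, map_pow, hxu]
  rw [e, z_one S hp hw hfix]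

theorem card_P [Finite K] (hp : Odd p) : Nat.card (P x V) = Nat.card A := by
  choose! f hf hf' using fun (a : A) => exists_fixed S hxx hp a.2
  have hmem : ∀ a : A, (a : K) * x a * f a ∈ P x V := fun a =>
    ⟨mul_mem (mul_mem (S.leA a.2) (S.leB (x_mem_B S a.2))) (S.leZ (hf a)), hf' a⟩
  have hinj : Function.Injective (fun a : A => (⟨_, hmem a⟩ : P x V)) := by
    intro a a' h
    have e : (a : K) * x a * f a = a' * x a' * f a' := congrArg Subtype.val h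
    -- uniqueness
    have hxa := x_mem_B S a.2
    have hxa' := x_mem_B S a'.2
    obtain ⟨w, hw, ew⟩ := S.com ((a' : K)⁻¹ * a) (mul_mem (inv_mem a'.2) a.2) ((x a')⁻¹) (inv_mem hxa')
    have h1 : ((a' : K)⁻¹ * a) * ((x a')⁻¹ * x a) * (w * (f a * (f a')⁻¹)) = 1 := by
      have k1 : (x a')⁻¹ * ((a' : K)⁻¹ * a) * x a * f a = f a' := by
        calc (x a')⁻¹ * ((a' : K)⁻¹ * a) * x a * f a = (x a')⁻¹ * (a' : K)⁻¹ * (a * x a * f a) := by group
          _ = f a' := by rw [e]; group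
      rw [ew] at k1
      have k2 := S.cBZ _ hxa w hw
      calc ((a' : K)⁻¹ * a) * ((x a')⁻¹ * x a) * (w * (f a * (f a')⁻¹)) =
          (a' : K)⁻¹ * a * (x a')⁻¹ * (x a * w) * f a * (f a')⁻¹ := by group
        _ = (a' : K)⁻¹ * a * (x a')⁻¹ * w * x a * f a * (f a')⁻¹ := by rw [k2]; group
        _ = 1 := by rw [k1]; group
    obtain ⟨h3, -⟩ := S.uniq _ (mul_mem (inv_mem a'.2) a.2) _ (mul_mem (inv_mem hxa') hxa) _
      (mul_mem hw (mul_mem (hf a) (inv_mem (hf a')))) h1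
    rw [inv_mul_eq_one] at h3
    exact Subtype.ext h3.symm
  have hsurj : Function.Surjective (fun a : A => (⟨_, hmem a⟩ : P x V)) := by
    rintro ⟨v, hv, hxv⟩
    obtain ⟨a, ha, b, hb, z, hz, rfl⟩ := dec S hv
    have hb' := fixed_form S hxx ha hb hz hxv
    subst hb'
    refine ⟨⟨a, ha⟩, Subtype.ext ?_⟩
    change a * x a * f ⟨a, ha⟩ = a * x a * z
    have h1 := hf' ⟨a, ha⟩
    have h2 := hf ⟨a, ha⟩
    have h3 : x ((f ⟨a, ha⟩)⁻¹ * z) = (f ⟨a, ha⟩)⁻¹ * z := by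
      have h4 : (f ⟨a, ha⟩)⁻¹ * z = (a * x a * f ⟨a, ha⟩)⁻¹ * (a * x a * z) := by group
      rw [h4, map_mul, map_inv, hxv]
      congr 2
    have h4 := z_one S hp (mul_mem (inv_mem h2) hz) h3
    rw [inv_mul_eq_one] at h4
    rw [h4]
  exact (Nat.card_congr (Equiv.ofBijective _ ⟨hinj, hsurj⟩)).symm

/-- **`PCase` from a splitting.** -/
theorem pcase [Finite K] (hp : Odd p) (hS : Syl p x V) (hN : NoO p x) {a : ℕ} (hA : Nat.card A = a ^ 2)
    (ha : a % 8 = 1 ∨ a % 8 = 7) (ha1 : 1 < a) : PCase p x := by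
  refine ⟨P x V, fun u hu => hu.2, ?_, ?_, hN, fun u hu v hv => comm_P S hxx hp hu hv, fun u hu => exp_P S hxx hp hu, a,
    by rw [card_P S hxx hp, hA], ha, ha1⟩
  · intro u
    refine ⟨1, ?_⟩
    rw [pow_one]
    exact Subtype.ext (exp_P S hxx hp u.2)
  · intro Q hQ hfix
    obtain ⟨k, hk, hk'⟩ := hS Q hQ hfix
    exact ⟨k, hk, fun u hu => ⟨hk' u hu, by rw [map_mul, map_mul, map_inv, hk, hfix u hu]⟩⟩

end Cfsg.Agent.H286.PSplit
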