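import Cfsg.Agent.H286.Chain

/-!
# Two commuting diagonal groups

* `map_add_A2` : the image of `X (c + d)`;
* `obs_quad` : `x` maps `X c` to `X c'`, `X d` to `X d'`, with the four `A₂`-pairs `(c, d)`, `(c', d')`, `(c, -d')`,
  `(c', -d)`, `c + d = c' + d'`: then `Obs p x`.
-/

set_option autoImplicit false
set_option linter.unusedSectionVars false

namespace Cfsg.Agent.H286.Quad

open CoxeterSystem Cfsg.Agent.ChevalleyStructure.CoxeterGeom Cfsg.Agent.Tits.Roots Cfsg.Agent.Tits.Core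
  Cfsg.Agent.Tits.RootComb Cfsg.Agent.Tits.Exchange Cfsg.Agent.Nodes.Comb Cfsg.Agent.Nodes.Reps
  Cfsg.Agent.Nodes.BNOf Cfsg.Agent.Nodes.RGDLib Cfsg.Agent.Nodes.Bruhat Cfsg.Agent.Nodes.StabComb
  Cfsg.Agent.Nodes.OppDec Cfsg.Agent.Nodes.Coroot Cfsg.Agent.KFacts.RgdSL Cfsg.Agent.UGT.U2.FOne
  Cfsg.Agent.H286.Obs Cfsg.Agent.H286.RootObs Cfsg.Agent.H286.Comb Cfsg.Agent.H286.Chain
open scoped commutatorElement

variable {I W K : Type*} [Fintype I] [DecidableEq I] [Group W] [Group K] {M : CoxeterMatrix I}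
  {cs : CoxeterSystem M W} {A : I → I → ℤ} {h : IsCartan M A} {p : ℕ} {T : Subgroup K} {n : I → K}
  {X : (I → ℤ) → Subgroup K}

theorem A2.neg {c d : I → ℤ} [Finite W] (hA : A2 cs h c d) : A2 cs h (-c) (-d) := by
  have h1 := a2_rot (a2_rot (a2_rot hA))
  have e1 : c + d + -c + -(c + d) = -c := by abel
  have e2 : -(c + d + -c) = -d := by abel
  rwa [e1, e2] at h1

theorem exists_ne_one' [Finite W] (R : RGD cs h p T n X) {c : I → ℤ} (hc : IsRoot cs h c) : ∃ v ∈ X c, v ≠ 1 := by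
  by_contra hcon
  push Not at hcon
  exact X_ne_bot R hc ((Subgroup.eq_bot_iff_forall _).2 hcon)

/-- the roots `c`, `-d` commute -/
theorem comm_neg [Finite W] (R : RGD cs h p T n X) {c d : I → ℤ} (hA : A2 cs h c d) {a b : K} (ha : a ∈ X c)
    (hb : b ∈ X (-d)) : Commute a b := by
  have h1 : c ≠ -d := hA.ne_neg
  have h2 : c ≠ - -d := by rw [neg_neg]; exact hA.ne
  refine comm_of_not_btwn R hA.rx hA.ry.neg h1 h2 (fun z hz => ?_) ha hb
  exact hA.symm.b2 z hz.symm

theorem x_mem {x : MulAut K} {b b' : I → ℤ} (hx : (X b).map x.toMonoidHom = X b') {u : K} (hu : u ∈ X b) :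
    x u ∈ X b' := by
  rw [← hx]; exact Subgroup.mem_map_of_mem x.toMonoidHom hu

/-- **The image of `X (c + d)`.** -/
theorem map_add_A2 [Finite W] (R : RGD cs h p T n X) {x : MulAut K} {c d c' d' : I → ℤ}
    (hA : A2 cs h c d) (hA' : A2 cs h c' d') (hc : (X c).map x.toMonoidHom = X c')
    (hd : (X d).map x.toMonoidHom = X d') : (X (c + d)).map x.toMonoidHom = X (c' + d') := by
  apply le_antisymm
  · rintro _ ⟨w, hw, rfl⟩
    obtain ⟨u, hu, hu1⟩ := exists_ne_one' R hA.rx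
    obtain ⟨v, hv, rfl⟩ := A2.comm_surj R hA hu hu1 hw
    change x ⁅u, v⁆ ∈ _
    rw [map_commutatorElement]
    exact A2.comm_mem R hA' (x_mem hc hu) (x_mem hd hv)
  · intro w hw
    obtain ⟨u, hu, hu1⟩ := exists_ne_one' R hA'.rx
    obtain ⟨v, hv, rfl⟩ := A2.comm_surj R hA' hu hu1 hw
    rw [← hc] at hu
    rw [← hd] at hv
    obtain ⟨u', hu', rfl⟩ := hu
    obtain ⟨v', hv', rfl⟩ := hv
    refine ⟨⁅u', v'⁆, A2.comm_mem R hA hu' hv', ?_⟩
    exact map_commutatorElement _ _ _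

/-- the diagonal elements commute -/
theorem diag_comm [Finite W] (R : RGD cs h p T n X) {x : MulAut K} {c d c' d' : I → ℤ}
    (hA : A2 cs h c d) (hA' : A2 cs h c' d') (hf : c + d = c' + d') (hc : (X c).map x.toMonoidHom = X c')
    (hd : (X d).map x.toMonoidHom = X d') (hcd : ∀ a ∈ X c, ∀ b ∈ X d', Commute a b)
    (hcd' : ∀ a ∈ X c', ∀ b ∈ X d, Commute a b) (hinv : ∀ u ∈ X (c + d), x u = u⁻¹) {s r : K} (hs : s ∈ X c)
    (hr : r ∈ X d) : Commute (s * x s) (r * x r) := by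
  have hs' := x_mem hc hs
  have hr' := x_mem hd hr
  have ha := A2.comm_mem R hA hs hr
  have hxa := hinv _ ha
  rw [map_commutatorElement] at hxa
  obtain ⟨a, ha'⟩ : ∃ a, a = ⁅s, r⁆ := ⟨_, rfl⟩
  rw [← ha'] at ha hxa
  have e1 : s * r = a * (r * s) := by rw [ha', commutatorElement_def]; group
  have e2 : x s * x r = a⁻¹ * (x r * x s) := by rw [← hxa, commutatorElement_def]; group
  have e3 : s * x r = x r * s := (hcd s hs _ hr').eq
  have e4 : x s * r = r * x s := (hcd' _ hs' r hr).eq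
  have c1 : a * s = s * a := A2.comm_left R hA ha hs
  have c2 : a * r = r * a := A2.comm_right R hA ha hr
  have c1' : Commute a⁻¹ s := (show Commute a s from c1).inv_left
  change s * x s * (r * x r) = r * x r * (s * x s)
  calc s * x s * (r * x r) = s * (x s * r) * x r := by group
    _ = (s * r) * (x s * x r) := by rw [e4]; group
    _ = a * (r * s) * (a⁻¹ * (x r * x s)) := by rw [e1, e2]
    _ = a * r * (s * a⁻¹) * (x r * x s) := by group
    _ = a * r * (a⁻¹ * s) * (x r * x s) := by rw [c1'.eq]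
    _ = r * (s * x r) * x s := by rw [c2]; group
    _ = r * x r * (s * x s) := by rw [e3]; group

variable [Finite W] [Finite K]

/-- the diagonal group contains an element of even order -/
theorem exists_even (R : RGD cs h p T n X) {x : MulAut K} {c c' : I → ℤ} (hc : IsRoot cs h c)
    (hx : (X c).map x.toMonoidHom = X c') (hx' : (X (-c)).map x.toMonoidHom = X (-c'))
    (hcc : ∀ a, a ∈ X c ∨ a ∈ X (-c) → ∀ b, b ∈ X c' ∨ b ∈ X (-c') → Commute a b) :
    ∃ m ∈ Subgroup.closure {g | ∃ s, (s ∈ X c ∨ s ∈ X (-c)) ∧ g = s * x s}, Even (orderOf m) := by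
  obtain ⟨u, hu, hu1⟩ := exists_ne_one' R hc
  obtain ⟨s, hs, a, ha, b, hb, m, hm, he⟩ := exists_mu R hc hu hu1
  have hxm : ∀ s, s ∈ X c ∨ s ∈ X (-c) → x s ∈ X c' ∨ x s ∈ X (-c') := by
    rintro s (hs | hs)
    · exact Or.inl (x_mem hx hs)
    · exact Or.inr (x_mem hx' hs)
  have hmS : m ∈ Subgroup.closure {g | g ∈ X c ∨ g ∈ X (-c)} := by
    rw [he]
    exact mul_mem (mul_mem (Subgroup.subset_closure (Or.inr ha)) (Subgroup.subset_closure (Or.inl hu)))
      (Subgroup.subset_closure (Or.inr hb))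
  have hcS : ∀ s ∈ {g | g ∈ X c ∨ g ∈ X (-c)}, ∀ s' ∈ {g | g ∈ X c ∨ g ∈ X (-c)}, Commute s (x s') :=
    fun s hs s' hs' => hcc s hs _ (hxm s' hs')
  refine ⟨m * x m, ?_, ?_⟩
  · have h1 := mem_diag hcS hmS
    exact h1
  · have hsc : rep cs h s c = -c := by rw [hs, cpr_self cs h hc]; module
    have hne : X c ≠ X (-c) := by
      intro h0
      have := X_injective R hc hc.neg h0
      apply hc.ne_zero
      funext k
      have h1 := congrFun this k
      simp only [Pi.neg_apply] at h1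
      simp only [Pi.zero_apply]
      omega
    have hxmc : ∀ e, e ∈ X c ∨ e ∈ X (-c) → Commute (x m) e := by
      intro e hee
      have h3 : x m ∈ Subgroup.closure {g | g ∈ X c' ∨ g ∈ X (-c')} := by
        have h4 : (Subgroup.closure {g | g ∈ X c ∨ g ∈ X (-c)}).map x.toMonoidHom ≤
            Subgroup.closure {g | g ∈ X c' ∨ g ∈ X (-c')} := by
          rw [MonoidHom.map_closure, Subgroup.closure_le]
          rintro _ ⟨g, hg, rfl⟩
          exact Subgroup.subset_closure (hxm g hg)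
        exact h4 ⟨m, hmS, rfl⟩
      refine commute_closure (S := {g | g ∈ X c' ∨ g ∈ X (-c')}) (T := {e}) ?_ h3
        (Subgroup.subset_closure (Set.mem_singleton e))
      rintro g hg _ rfl
      exact (hcc _ hee g hg).symm
    have hMe : ∀ e, e ∈ X c ∨ e ∈ X (-c) → m * x m * e * (m * x m)⁻¹ = m * e * m⁻¹ := by
      intro e hee
      calc m * x m * e * (m * x m)⁻¹ = m * (x m * e * (x m)⁻¹) * m⁻¹ := by group
        _ = m * e * m⁻¹ := by rw [(hxmc e hee).eq, mul_inv_cancel_right]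
    refine even_of_swap hne ?_ ?_
    · intro e hec
      rw [hMe e (Or.inl hec)]
      have := R.conj_mem hm hc hec
      rwa [hsc] at this
    · intro e hec
      rw [hMe e (Or.inr hec)]
      have := R.conj_mem hm hc.neg hec
      rwa [map_neg, hsc, neg_neg] at this

/-- **Two commuting diagonal groups.** -/
theorem obs_quad (hp : Odd p) (R : RGD cs h p T n X) {x : MulAut K} (hxx : ∀ g, x (x g) = g) {c d c' d' : I → ℤ}
    (h1 : A2 cs h c d) (h2 : A2 cs h c' d') (h3 : A2 cs h c (-d')) (h4 : A2 cs h c' (-d)) (hf : c + d = c' + d')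
    (hcc : ∀ a, a ∈ X c ∨ a ∈ X (-c) → ∀ b, b ∈ X c' ∨ b ∈ X (-c') → Commute a b)
    (hdd : ∀ a, a ∈ X d ∨ a ∈ X (-d) → ∀ b, b ∈ X d' ∨ b ∈ X (-d') → Commute a b)
    (xc : (X c).map x.toMonoidHom = X c') (xc' : (X (-c)).map x.toMonoidHom = X (-c'))
    (xd : (X d).map x.toMonoidHom = X d') (xd' : (X (-d)).map x.toMonoidHom = X (-d')) : Obs p x := by
  by_contra hno
  have back : ∀ {b b' : I → ℤ}, (X b).map x.toMonoidHom = X b' → (X b').map x.toMonoidHom = X b := by
    intro b b' hx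
    rw [← hx, Subgroup.map_map]
    have : x.toMonoidHom.comp x.toMonoidHom = MonoidHom.id K := by
      ext k; exact hxx k
    rw [this, Subgroup.map_id]
  have hg : c + -d' = c' + -d := by
    have : c = c' + d' - d := by rw [← hf]; abel
    rw [this]; abel
  -- the fixed roots
  have xf : (X (c + d)).map x.toMonoidHom = X (c + d) := by
    have := map_add_A2 R h1 h2 xc xd
    rwa [← hf] at this
  have xf' : (X (-(c + d))).map x.toMonoidHom = X (-(c + d)) := by
    have := map_add_A2 R (A2.neg h1) (A2.neg h2) xc' xd'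
    rw [← neg_add, ← neg_add, ← hf] at this
    exact this
  have xg : (X (c + -d')).map x.toMonoidHom = X (c + -d') := by
    have := map_add_A2 R h3 h4 xc (back xd')
    rwa [← hg] at this
  have xg' : (X (-(c + -d'))).map x.toMonoidHom = X (-(c + -d')) := by
    have h5 := map_add_A2 R (A2.neg h3) (A2.neg h4) xc' (by rw [neg_neg, neg_neg]; exact back xd)
    rw [← neg_add, ← neg_add, ← hg] at h5
    exact h5
  have if1 := inv_of_not_obs R hp hxx (a2_rot h1) xf xf' hno
  have if2 : ∀ u ∈ X (-c + -d), x u = u⁻¹ := by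
    rw [← neg_add]
    exact inv_of_not_obs R hp hxx (A2.neg (a2_rot h1)) xf' (by rw [neg_neg]; exact xf) hno
  have ig1 := inv_of_not_obs R hp hxx (a2_rot h3) xg xg' hno
  have ig2 : ∀ u ∈ X (-c + - -d'), x u = u⁻¹ := by
    rw [← neg_add]
    exact inv_of_not_obs R hp hxx (A2.neg (a2_rot h3)) xg' (by rw [neg_neg]; exact xg) hno
  -- the diagonal elements commute
  obtain ⟨m1, hm1, he1⟩ := exists_even R h1.rx xc xc' hcc
  obtain ⟨m2, hm2, he2⟩ := exists_even R h1.ry xd xd' hdd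
  have hx1 : ∀ s, s ∈ X c ∨ s ∈ X (-c) → x s ∈ X c' ∨ x s ∈ X (-c') := by
    rintro s (hs | hs)
    · exact Or.inl (x_mem xc hs)
    · exact Or.inr (x_mem xc' hs)
  have hx2 : ∀ s, s ∈ X d ∨ s ∈ X (-d) → x s ∈ X d' ∨ x s ∈ X (-d') := by
    rintro s (hs | hs)
    · exact Or.inl (x_mem xd hs)
    · exact Or.inr (x_mem xd' hs)
  have sub : ∀ (P : Set K) , (∀ s ∈ P, PE p s) → (∀ s ∈ P, ∀ s' ∈ P, Commute s (x s')) →
      {g | ∃ s ∈ P, g = s * x s} ⊆ FP p x := fun P hP hc => diag_subset hxx hP hc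
  apply hno
  refine obs_W (S := {g | ∃ s, (s ∈ X c ∨ s ∈ X (-c)) ∧ g = s * x s})
    (T := {g | ∃ s, (s ∈ X d ∨ s ∈ X (-d)) ∧ g = s * x s}) ?_ ?_ ?_ hm1 hm2 he1 he2
  · refine sub {s | s ∈ X c ∨ s ∈ X (-c)} ?_ fun s hs s' hs' => hcc s hs _ (hx1 s' hs')
    rintro s (hs | hs)
    · exact pe_of_mem R h1.rx hs
    · exact pe_of_mem R h1.rx.neg hs
  · refine sub {s | s ∈ X d ∨ s ∈ X (-d)} ?_ fun s hs s' hs' => hdd s hs _ (hx2 s' hs')
    rintro s (hs | hs)
    · exact pe_of_mem R h1.ry hs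
    · exact pe_of_mem R h1.ry.neg hs
  · rintro _ ⟨s, hs, rfl⟩ _ ⟨r, hr, rfl⟩
    have hrr : r * x r = x r * x (x r) := by
      rw [hxx]; exact (hdd r hr _ (hx2 r hr)).eq
    rcases hs with hs | hs <;> rcases hr with hr | hr
    · refine diag_comm R h1 h2 hf xc xd (fun a ha b hb => ?_) (fun a ha b hb => ?_) if1 hs hr
      · exact comm_neg R h3 ha (by rw [neg_neg]; exact hb)
      · exact comm_neg R h4 ha (by rw [neg_neg]; exact hb)
    · rw [hrr]
      refine diag_comm R h3 h4 hg xc (back xd') (fun a ha b hb => comm_neg R h1 ha hb)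
        (fun a ha b hb => comm_neg R h2 ha hb) ig1 hs (x_mem xd' hr)
    · rw [hrr]
      refine diag_comm R (c := -c) (d := - -d') (c' := -c') (d' := - -d) (A2.neg h3) (A2.neg h4)
        (by rw [← neg_add, ← neg_add, hg]) xc' (by rw [neg_neg, neg_neg]; exact back xd)
        (fun a ha b hb => ?_) (fun a ha b hb => ?_) ig2 hs (by rw [neg_neg]; exact x_mem xd hr)
      · exact comm_neg R (A2.neg h1) ha hb
      · exact comm_neg R (A2.neg h2) ha hb
    · refine diag_comm R (A2.neg h1) (A2.neg h2) (by rw [← neg_add, ← neg_add, hf]) xc' xd'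
        (fun a ha b hb => ?_) (fun a ha b hb => ?_) if2 hs hr
      · exact comm_neg R (A2.neg h3) ha (by rw [neg_neg]; exact hb)
      · exact comm_neg R (A2.neg h4) ha (by rw [neg_neg]; exact hb)

end Cfsg.Agent.H286.Quad
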