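import Cfsg.Agent.H286.Obs
import Cfsg.Agent.UGT.U2.FOne.NatJ
import Cfsg.Agent.UGT.U2.FOne.NoJ

/-!
# `Obs` from root groups

`(c, d)` an `A₂`-pair of roots of a root group datum, `x` an involutory automorphism.

* `sq_inv`, `sq_central` : the square of a `μ`-element of `X c` inverts `X d`, `X (c + d)` and centralises
  `⟨X c, X (-c)⟩`;
* `obs_fix` : a nontrivial fixed element of `X c` (`x` normalising `X c`, `X (-c)`);
* `inv_of_not_obs` : otherwise `x` inverts `X c`;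
* `obs_two_fix` : `x` normalises all root groups of the plane;
* `obs_swapA2` : `x` maps `X c` to a root group `X c'` orthogonal to `c`, `d`.
-/

set_option autoImplicit false
set_option linter.unusedSectionVars false

namespace Cfsg.Agent.H286.RootObs

open CoxeterSystem Cfsg.Agent.ChevalleyStructure.CoxeterGeom Cfsg.Agent.Tits.Roots Cfsg.Agent.Tits.Core
  Cfsg.Agent.Tits.RootComb Cfsg.Agent.Tits.Exchange Cfsg.Agent.Nodes.Comb Cfsg.Agent.Nodes.Reps
  Cfsg.Agent.Nodes.BNOf Cfsg.Agent.Nodes.RGDLib Cfsg.Agent.Nodes.Bruhat Cfsg.Agent.Nodes.StabComb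
  Cfsg.Agent.Nodes.OppDec Cfsg.Agent.Nodes.Coroot Cfsg.Agent.KFacts.RgdSL Cfsg.Agent.UGT.U2.FOne
  Cfsg.Agent.H286.Obs
open scoped commutatorElement

variable {I W K : Type*} [Fintype I] [DecidableEq I] [Group W] [Group K] {M : CoxeterMatrix I}
  {cs : CoxeterSystem M W} {A : I → I → ℤ} {h : IsCartan M A} {p : ℕ} {T : Subgroup K} {n : I → K}
  {X : (I → ℤ) → Subgroup K}

section Sq

variable [Finite W] (R : RGD cs h p T n X) {c d : I → ℤ} (hA : A2 cs h c d)

include R hA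

/-- `μ(u)² v μ(u)⁻² = v⁻¹`, `v ∈ X d` -/
theorem sq_inv {a u b m : K} (ha : a ∈ X (-c)) (hu : u ∈ X c) (hb : b ∈ X (-c)) {s : W}
    (hs : ∀ y, rep cs h s y = y - cpr cs h y c • c) (hm : Rp cs R.nsys s m) (he : m = a * u * b) {v : K}
    (hv : v ∈ X d) : m * m * v * (m * m)⁻¹ = v⁻¹ := by
  have hnx : -c ≠ d := fun h0 => hA.ne_neg (by rw [← h0, neg_neg])
  have hnx' : -c ≠ -d := fun h0 => hA.ne (neg_injective h0)
  have hbv : b * v = v * b := comm_of_not_btwn R hA.rx.neg hA.ry hnx hnx' hA.b2 hb hv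
  have hav : a * v = v * a := comm_of_not_btwn R hA.rx.neg hA.ry hnx hnx' hA.b2 ha hv
  have h1 : ⁅u, v⁆ = m * v * m⁻¹ := A2.comm_eq R hA hu hv ha hb hs hm he
  have hsc : rep cs h s (-c) = c := by
    rw [map_neg, hs, cpr_self cs h hA.rx]
    module
  have hw : ⁅u, v⁆ ∈ X (c + d) := A2.comm_mem R hA hu hv
  have hmb : m * b * m⁻¹ ∈ X (- -c) := by
    have := R.conj_mem hm hA.rx.neg hb
    rw [hsc] at this
    rwa [neg_neg]
  have h2 : ⁅a, ⁅u, v⁆⁆ = m * ⁅u, v⁆ * m⁻¹ := by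
    refine A2.comm_eq R (NoJ.rot hA) ha (a := m * b * m⁻¹) (b := u) hw hmb (by rwa [neg_neg]) (s := s) ?_ hm ?_
    · intro y
      rw [hs, cpr_neg_right cs h y hA.rx]
      module
    · rw [he]; group
  have hvw : ⁅u, v⁆ * v = v * ⁅u, v⁆ := A2.comm_right R hA hw hv
  have h3 : ⁅a, ⁅u, v⁆⁆ = v⁻¹ := by
    have e1 : m * v * m⁻¹ = ⁅a, ⁅u, v⁆⁆ * ⁅u, v⁆ * v := by
      calc m * v * m⁻¹ = a * u * (b * v) * b⁻¹ * u⁻¹ * a⁻¹ := by rw [he]; group
        _ = a * (u * v * u⁻¹) * a⁻¹ := by rw [hbv]; group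
        _ = a * (⁅u, v⁆ * v) * a⁻¹ := by rw [commutatorElement_def u v]; group
        _ = (a * ⁅u, v⁆ * a⁻¹) * (a * v * a⁻¹) := by group
        _ = ⁅a, ⁅u, v⁆⁆ * ⁅u, v⁆ * v := by
          rw [hav, commutatorElement_def a]; group
    rw [← h1] at e1
    have e2 : ⁅a, ⁅u, v⁆⁆ = ⁅u, v⁆ * (⁅u, v⁆ * v)⁻¹ := by
      rw [eq_mul_inv_iff_mul_eq, ← mul_assoc]
      exact e1.symm
    rw [e2, hvw]; group
  rw [h3, h1] at h2
  calc m * m * v * (m * m)⁻¹ = m * (m * v * m⁻¹) * m⁻¹ := by group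
    _ = v⁻¹ := h2.symm

omit R in
theorem refl_sum {s : W} (hs : ∀ y, rep cs h s y = y - cpr cs h y c • c) : rep cs h s d = c + d := by
  rw [hs, hA.cyx]; module

/-- the same for `X (c + d)` -/
theorem sq_inv' {a u b m : K} (ha : a ∈ X (-c)) (hu : u ∈ X c) (hb : b ∈ X (-c)) {s : W}
    (hs : ∀ y, rep cs h s y = y - cpr cs h y c • c) (hm : Rp cs R.nsys s m) (he : m = a * u * b) {v : K}
    (hv : v ∈ X (c + d)) : m * m * v * (m * m)⁻¹ = v⁻¹ := by
  have h1 : m⁻¹ * v * m ∈ X d := by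
    have h2 := R.conj_mem' hm hA.rxy hv
    have h3 : rep cs h s⁻¹ (c + d) = d := by
      rw [← refl_sum hA hs, rep_inv_apply]
    rwa [h3] at h2
  have h2 := sq_inv R hA ha hu hb hs hm he h1
  calc m * m * v * (m * m)⁻¹ = m * (m * m * (m⁻¹ * v * m) * (m * m)⁻¹) * m⁻¹ := by group
    _ = v⁻¹ := by rw [h2]; group

/-- `t` normalising `X c` and inverting `X d`, `X (c + d)` centralises `X c` -/
theorem cent_of_inv {t : K} (hc : ∀ e ∈ X c, t * e * t⁻¹ ∈ X c) (hd : ∀ v ∈ X d, t * v * t⁻¹ = v⁻¹)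
    (hcd : ∀ v ∈ X (c + d), t * v * t⁻¹ = v⁻¹) {e : K} (he : e ∈ X c) : t * e = e * t := by
  obtain ⟨v, hv, hv1⟩ : ∃ v ∈ X d, v ≠ 1 := by
    by_contra hcon
    push Not at hcon
    exact X_ne_bot R hA.ry ((Subgroup.eq_bot_iff_forall _).2 hcon)
  have hA' := hA.symm
  have he' := hc e he
  have hm1 : ⁅v, e⁆ ∈ X (c + d) := by rw [add_comm]; exact A2.comm_mem R hA' hv he
  have hm2 : ⁅v, t * e * t⁻¹⁆ ∈ X (c + d) := by rw [add_comm]; exact A2.comm_mem R hA' hv he'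
  have h1 : ⁅v⁻¹, t * e * t⁻¹⁆ = ⁅v, e⁆⁻¹ := by
    rw [← hcd _ hm1, ← hd v hv, commutatorElement_def, commutatorElement_def]; group
  have h2 : ⁅v⁻¹, t * e * t⁻¹⁆ = ⁅v, t * e * t⁻¹⁆⁻¹ := by
    have h3 : ⁅v, t * e * t⁻¹⁆ * v = v * ⁅v, t * e * t⁻¹⁆ := A2.comm_right R hA hm2 hv
    have h4 : ⁅v⁻¹, t * e * t⁻¹⁆ = v⁻¹ * ⁅v, t * e * t⁻¹⁆⁻¹ * v := by
      rw [commutatorElement_def, commutatorElement_def]; group
    rw [h4]
    have h5 : v⁻¹ * ⁅v, t * e * t⁻¹⁆⁻¹ = ⁅v, t * e * t⁻¹⁆⁻¹ * v⁻¹ := by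
      rw [← mul_inv_rev, ← mul_inv_rev, h3]
    rw [h5, inv_mul_cancel_right]
  rw [h2] at h1
  have h6 := A2.comm_inj R hA' hv hv1 he' he (inv_injective h1)
  calc t * e = t * e * t⁻¹ * t := by group
    _ = e * t := by rw [h6]

/-- `μ(u)²` centralises `X c` and `X (-c)` -/
theorem sq_central {a u b m : K} (ha : a ∈ X (-c)) (hu : u ∈ X c) (hb : b ∈ X (-c)) {s : W}
    (hs : ∀ y, rep cs h s y = y - cpr cs h y c • c) (hm : Rp cs R.nsys s m) (he : m = a * u * b) {e : K}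
    (hec : e ∈ X c ∨ e ∈ X (-c)) : Commute e (m * m) := by
  have hss : ∀ y, rep cs h s (rep cs h s y) = y := by
    intro y
    rw [hs (rep cs h s y), hs y, sub_eq_add_neg y, ← neg_smul, cpr_add cs h _ _ hA.rx, cpr_smul cs h _ _ hA.rx,
      cpr_self cs h hA.rx]
    module
  have hnorm : ∀ y, IsRoot cs h y → ∀ e ∈ X y, m * m * e * (m * m)⁻¹ ∈ X y := by
    intro y hy e he
    have h1 := R.conj_mem hm (hy.act s) (R.conj_mem hm hy he)
    rw [hss] at h1
    have h2 : m * m * e * (m * m)⁻¹ = m * (m * e * m⁻¹) * m⁻¹ := by group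
    rw [h2]; exact h1
  rcases hec with hec | hec
  · exact (cent_of_inv R hA (fun e he => hnorm c hA.rx e he) (fun v hv => sq_inv R hA ha hu hb hs hm he hv)
      (fun v hv => sq_inv' R hA ha hu hb hs hm he hv) hec).symm
  · have hA' := NoJ.rot hA
    refine (cent_of_inv R hA' (fun e he => hnorm (-c) hA.rx.neg e he) (fun v hv => sq_inv' R hA ha hu hb hs hm he hv)
      (fun v hv => ?_) hec).symm
    rw [show -c + (c + d) = d by abel] at hv
    exact sq_inv R hA ha hu hb hs hm he hv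

end Sq

section Fix

variable [Finite W] (R : RGD cs h p T n X)

include R

/-- an element of `X (-c)` normalising `X c` is trivial -/
theorem eq_one_of_norm {c : I → ℤ} (hc : IsRoot cs h c) {e : K} (he : e ∈ X (-c)) (hn : cj e (X c) = X c) : e = 1 := by
  by_contra h1
  obtain ⟨s, hs, a, ha, b, hb, m, hm, hmm⟩ := exists_mu R hc.neg he h1
  rw [neg_neg] at ha hb
  have hA : cj m (X c) = X c := by
    rw [hmm, cj_mul, cj_mul, cj_eq_of_mem hb, hn, cj_eq_of_mem ha]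
  have hB : cj m (X c) = X (-c) := by
    rw [R.conj_rp hm hc, hs, cpr_neg_right cs h c hc, cpr_self cs h hc]
    congr 1
    module
  have hne : c ≠ -c := by
    intro h0
    apply hc.ne_zero
    funext k
    have := congrFun h0 k
    simp only [Pi.neg_apply] at this
    simp only [Pi.zero_apply]
    omega
  have h2 := X_inf_X R hc hc.neg hne
  rw [← hB, hA, inf_idem] at h2
  exact X_ne_bot R hc h2

/-- the `μ`-element of a fixed element is fixed -/
theorem fix_mu {x : MulAut K} {c : I → ℤ} (hc : IsRoot cs h c) (hx : (X c).map x.toMonoidHom = X c)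
    (hx' : (X (-c)).map x.toMonoidHom = X (-c)) {a u b m : K} (ha : a ∈ X (-c)) (hb : b ∈ X (-c)) {s : W}
    (hs : ∀ y, rep cs h s y = y - cpr cs h y c • c) (hm : Rp cs R.nsys s m) (he : m = a * u * b) (hxu : x u = u) :
    x a = a ∧ x b = b := by
  have hxa : x a ∈ X (-c) := by rw [← hx']; exact Subgroup.mem_map_of_mem x.toMonoidHom ha
  have hxb : x b ∈ X (-c) := by rw [← hx']; exact Subgroup.mem_map_of_mem x.toMonoidHom hb
  have hsc : rep cs h s c = -c := by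
    rw [hs, cpr_self cs h hc]; module
  have h1 : cj m (X c) = X (-c) := by rw [R.conj_rp hm hc, hsc]
  have h2 : cj m (X (-c)) = X c := by rw [R.conj_rp hm hc.neg, map_neg, hsc, neg_neg]
  have hcx : ∀ B C : Subgroup K, B.map x.toMonoidHom = B → C.map x.toMonoidHom = C → cj m B = C → cj (x m) B = C := by
    intro B C hB hC hBC
    have h3 := cj_map x.toMonoidHom m B
    rw [hB, hBC, hC] at h3
    exact h3
  have h3 := hcx _ _ hx hx' h1
  have h4 := hcx _ _ hx' hx h2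
  have e1 : x m = (x a * a⁻¹) * m * (b⁻¹ * x b) := by
    rw [he, map_mul, map_mul, hxu]; group
  have he1 : x a * a⁻¹ ∈ X (-c) := mul_mem hxa (inv_mem ha)
  have hf1 : b⁻¹ * x b ∈ X (-c) := mul_mem (inv_mem hb) hxb
  have k1 : x a * a⁻¹ = 1 := by
    refine eq_one_of_norm R hc he1 ?_
    rw [e1, cj_mul, cj_mul, cj_eq_of_mem hf1, h2] at h4
    exact h4
  have k2 : b⁻¹ * x b = 1 := by
    refine eq_one_of_norm R hc hf1 ?_
    rw [e1, k1, one_mul, cj_mul] at h3
    have h5 := congrArg (cj m⁻¹) h3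
    rw [cj_inv_cj, ← h1, cj_inv_cj] at h5
    exact h5
  exact ⟨by rwa [mul_inv_eq_one] at k1, by rw [inv_mul_eq_one] at k2; exact k2.symm⟩

theorem pe_of_mem {c : I → ℤ} (hc : IsRoot cs h c) {u : K} (hu : u ∈ X c) : PE p u := by
  obtain ⟨k, hk⟩ := (R.pgrp' hc) ⟨u, hu⟩
  exact ⟨k, congrArg Subtype.val hk⟩

/-- **A nontrivial fixed element of a fixed root group in an `A₂`-pair.** -/
theorem obs_fix [Finite K] (hp : Odd p) {x : MulAut K} {c d : I → ℤ} (hA : A2 cs h c d)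
    (hx : (X c).map x.toMonoidHom = X c) (hx' : (X (-c)).map x.toMonoidHom = X (-c)) {u : K} (hu : u ∈ X c)
    (hu1 : u ≠ 1) (hxu : x u = u) : Obs p x := by
  obtain ⟨s, hs, a, ha, b, hb, m, hm, he⟩ := exists_mu R hA.rx hu hu1
  obtain ⟨hxa, hxb⟩ := fix_mu R hA.rx hx hx' ha hb hs hm he hxu
  obtain ⟨v, hv, hv1⟩ : ∃ v ∈ X d, v ≠ 1 := by
    by_contra hcon
    push Not at hcon
    exact X_ne_bot R hA.ry ((Subgroup.eq_bot_iff_forall _).2 hcon)
  refine obs_of_central (S := {a, u, b}) ?_ (t := m * m) ?_ ?_ ?_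
  · rintro g (rfl | rfl | rfl)
    · exact ⟨hxa, pe_of_mem R hA.rx.neg ha⟩
    · exact ⟨hxu, pe_of_mem R hA.rx hu⟩
    · exact ⟨hxb, pe_of_mem R hA.rx.neg hb⟩
  · have h1 : m ∈ Subgroup.closure ({a, u, b} : Set K) := by
      rw [he]
      exact mul_mem (mul_mem (Subgroup.subset_closure (by simp)) (Subgroup.subset_closure (by simp)))
        (Subgroup.subset_closure (by simp))
    exact mul_mem h1 h1
  · rintro g (rfl | rfl | rfl)
    · exact sq_central R hA ha hu hb hs hm he (Or.inr ha)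
    · exact sq_central R hA ha hu hb hs hm he (Or.inl hu)
    · exact sq_central R hA ha hu hb hs hm he (Or.inr hb)
  · exact even_of_inv hp (pe_of_mem R hA.ry hv) hv1 (sq_inv R hA ha hu hb hs hm he hv)

/-- an abelian `p`-group without nontrivial fixed elements is inverted -/
theorem inv_of_no_fix {x : MulAut K} (hxx : ∀ g, x (x g) = g) {B : Subgroup K}
    (hB : B.map x.toMonoidHom = B) (hab : ∀ a ∈ B, ∀ b ∈ B, a * b = b * a) (hno : ∀ u ∈ B, x u = u → u = 1) :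
    ∀ u ∈ B, x u = u⁻¹ := by
  intro u hu
  have hxu : x u ∈ B := by rw [← hB]; exact Subgroup.mem_map_of_mem x.toMonoidHom hu
  have h1 := hno (u * x u) (mul_mem hu hxu) (by rw [map_mul, hxx, hab _ hxu _ hu])
  exact (inv_eq_of_mul_eq_one_right h1).symm

/-- the root groups in `A₂`-pairs are abelian -/
theorem comm_of_A2 {c d : I → ℤ} (hA : A2 cs h c d) : ∀ a ∈ X c, ∀ b ∈ X c, a * b = b * a := by
  intro a ha b hb
  have hA' := a2_rot (a2_rot hA)
  have e : c + d + -c + -(c + d) = -c := by abel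
  have hA'' := a2_rot (NoJ.rot (NoJ.rot hA).symm).symm
  -- `c = (c + d) + (-d)`
  have h1 : A2 cs h (c + d) (-d) := by
    have h2 := a2_rot hA.symm
    rwa [add_comm] at h2
  have h3 : c + d + -d = c := by abel
  rw [← h3] at ha hb
  exact A2.comm_self R h1 ha hb

theorem inv_of_not_obs [Finite K] (hp : Odd p) {x : MulAut K} (hxx : ∀ g, x (x g) = g) {c d : I → ℤ}
    (hA : A2 cs h c d) (hx : (X c).map x.toMonoidHom = X c) (hx' : (X (-c)).map x.toMonoidHom = X (-c))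
    (hno : ¬ Obs p x) : ∀ u ∈ X c, x u = u⁻¹ := by
  refine inv_of_no_fix R hxx hx (comm_of_A2 R hA) fun u hu hxu => ?_
  by_contra hu1
  exact hno (obs_fix R hp hA hx hx' hu hu1 hxu)

/-- **Two fixed roots forming an `A₂`-pair.** -/
theorem obs_two_fix [Finite K] (hp : Odd p) {x : MulAut K} (hxx : ∀ g, x (x g) = g) {c d : I → ℤ}
    (hA : A2 cs h c d) (hc : (X c).map x.toMonoidHom = X c) (hc' : (X (-c)).map x.toMonoidHom = X (-c))
    (hd : (X d).map x.toMonoidHom = X d) (hd' : (X (-d)).map x.toMonoidHom = X (-d))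
    (he : (X (c + d)).map x.toMonoidHom = X (c + d)) (he' : (X (-(c + d))).map x.toMonoidHom = X (-(c + d))) :
    Obs p x := by
  by_contra hno
  have ic := inv_of_not_obs R hp hxx hA hc hc' hno
  have id' := inv_of_not_obs R hp hxx hA.symm hd hd' hno
  obtain ⟨u, hu, hu1⟩ : ∃ v ∈ X c, v ≠ 1 := by
    by_contra hcon
    push Not at hcon
    exact X_ne_bot R hA.rx ((Subgroup.eq_bot_iff_forall _).2 hcon)
  obtain ⟨v, hv, hv1⟩ : ∃ v ∈ X d, v ≠ 1 := by
    by_contra hcon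
    push Not at hcon
    exact X_ne_bot R hA.ry ((Subgroup.eq_bot_iff_forall _).2 hcon)
  have hw := A2.comm_mem R hA hu hv
  have h1 : ⁅u⁻¹, v⁻¹⁆ = ⁅u, v⁆ := by
    have c1 : ⁅u, v⁆ * u = u * ⁅u, v⁆ := A2.comm_left R hA hw hu
    have c2 : ⁅u, v⁆ * v = v * ⁅u, v⁆ := A2.comm_right R hA hw hv
    have c3 : Commute ⁅u, v⁆ (v * u) := Commute.mul_right c2 c1
    have h2 : ⁅u⁻¹, v⁻¹⁆ = (v * u)⁻¹ * ⁅u, v⁆ * (v * u) := by
      rw [commutatorElement_def, commutatorElement_def]; group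
    rw [h2, mul_assoc, c3.eq, inv_mul_cancel_left]
  have h2 : x ⁅u, v⁆ = ⁅u, v⁆ := by
    rw [map_commutatorElement, ic u hu, id' v hv, h1]
  have hA3 : A2 cs h (c + d) (-c) := a2_rot hA
  exact hno (obs_fix R hp hA3 he he' hw (A2.comm_ne_one R hA hu hu1 hv hv1) h2)

/-- **`x` maps `X c` to a commuting root group.** `z` inverts `X d`, `x z` centralises it. -/
theorem obs_swapA2 [Finite K] (hp : Odd p) {x : MulAut K} (hxx : ∀ g, x (x g) = g) {c d c' : I → ℤ}
    (hA : A2 cs h c d) (hx : (X c).map x.toMonoidHom = X c') (hx' : (X (-c)).map x.toMonoidHom = X (-c'))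
    (hcc : ∀ a, a ∈ X c ∨ a ∈ X (-c) → ∀ b, b ∈ X c' ∨ b ∈ X (-c') → Commute a b)
    (hd : ∀ v ∈ X d, ∀ b, b ∈ X c' ∨ b ∈ X (-c') → Commute v b) : Obs p x := by
  obtain ⟨u, hu, hu1⟩ : ∃ v ∈ X c, v ≠ 1 := by
    by_contra hcon
    push Not at hcon
    exact X_ne_bot R hA.rx ((Subgroup.eq_bot_iff_forall _).2 hcon)
  obtain ⟨v, hv, hv1⟩ : ∃ v ∈ X d, v ≠ 1 := by
    by_contra hcon
    push Not at hcon
    exact X_ne_bot R hA.ry ((Subgroup.eq_bot_iff_forall _).2 hcon)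
  obtain ⟨s, hs, a, ha, b, hb, m, hm, he⟩ := exists_mu R hA.rx hu hu1
  have hxm : ∀ s, s ∈ X c ∨ s ∈ X (-c) → x s ∈ X c' ∨ x s ∈ X (-c') := by
    rintro s (hs | hs)
    · left; rw [← hx]; exact Subgroup.mem_map_of_mem x.toMonoidHom hs
    · right; rw [← hx']; exact Subgroup.mem_map_of_mem x.toMonoidHom hs
  have hmS : m ∈ Subgroup.closure {g | g ∈ X c ∨ g ∈ X (-c)} := by
    rw [he]
    exact mul_mem (mul_mem (Subgroup.subset_closure (Or.inr ha)) (Subgroup.subset_closure (Or.inl hu)))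
      (Subgroup.subset_closure (Or.inr hb))
  refine obs_swap hxx (S := {g | g ∈ X c ∨ g ∈ X (-c)}) ?_ ?_ (z := m * m) (mul_mem hmS hmS) ?_ ?_
  · rintro s (hs | hs)
    · exact pe_of_mem R hA.rx hs
    · exact pe_of_mem R hA.rx.neg hs
  · intro s hs s' hs'
    exact hcc s hs _ (hxm s' hs')
  · intro s' hs'
    exact sq_central R hA ha hu hb hs hm he hs'
  · have h1 : Commute (x (m * m)) v := by
      have h2 : x (m * m) ∈ Subgroup.closure {g | g ∈ X c' ∨ g ∈ X (-c')} := by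
        have h3 : ∀ g ∈ Subgroup.closure {g | g ∈ X c ∨ g ∈ X (-c)},
            x g ∈ Subgroup.closure {g | g ∈ X c' ∨ g ∈ X (-c')} := by
          intro g hg
          have h4 : (Subgroup.closure {g | g ∈ X c ∨ g ∈ X (-c)}).map x.toMonoidHom ≤
              Subgroup.closure {g | g ∈ X c' ∨ g ∈ X (-c')} := by
            rw [MonoidHom.map_closure, Subgroup.closure_le]
            rintro _ ⟨g, hg, rfl⟩
            exact Subgroup.subset_closure (hxm g hg)
          exact h4 ⟨g, hg, rfl⟩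
        exact h3 _ (mul_mem hmS hmS)
      refine commute_closure (S := {g | g ∈ X c' ∨ g ∈ X (-c')}) (T := {v}) ?_ h2
        (Subgroup.subset_closure (Set.mem_singleton v))
      rintro g hg _ rfl
      exact (hd _ hv g hg).symm
    refine even_of_inv hp (pe_of_mem R hA.ry hv) hv1 ?_
    calc m * m * x (m * m) * v * (m * m * x (m * m))⁻¹ = m * m * (x (m * m) * v * (x (m * m))⁻¹) * (m * m)⁻¹ := by
          group
      _ = m * m * v * (m * m)⁻¹ := by rw [h1.eq, mul_inv_cancel_right]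
      _ = v⁻¹ := sq_inv R hA ha hu hb hs hm he hv

end Fix

end Cfsg.Agent.H286.RootObs
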