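import Cfsg.Agent.H286.Obs
import Cfsg.Agent.GH.Rank
import Cfsg.Prelude.Def_CaseTheorems

/-!
# The row lemma: definitions

* `PCase p x` : a Sylow `p`-subgroup of `C_K(x)` is elementary abelian of order `a ^ 2`, `a ≡ ± 1 mod 8`, and the normal
  subgroups of odd order of `C_K(x)` have no `p`-elements;
* `Row p K` : for every involutory automorphism `x`: `Obs p x`, `SectionalPRankLE 2 4 K` or `PCase p x`.
-/

set_option autoImplicit false
set_option linter.dupNamespace false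

namespace Cfsg.Agent.H286.Row

open Cfsg Cfsg.Agent.H286.Obs

variable {K L : Type*} [Group K] [Group L]

/-- every `p`-subgroup of fixed points is conjugate into `V` under a fixed point -/
def Syl (p : ℕ) (x : MulAut K) (V : Subgroup K) : Prop :=
  ∀ Q : Subgroup K, IsPGroup p Q → (∀ u ∈ Q, x u = u) → ∃ k, x k = k ∧ ∀ u ∈ Q, k * u * k⁻¹ ∈ V

/-- no `p`-elements in the normal subgroups of odd order of the centralizer -/
def NoO (p : ℕ) (x : MulAut K) : Prop :=
  ∀ R : Subgroup K, (∀ u ∈ R, x u = u) → (∀ u ∈ R, ∀ k, x k = k → k * u * k⁻¹ ∈ R) → Odd (Nat.card R) →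
    ∀ u ∈ R, (∃ m : ℕ, u ^ p ^ m = 1) → u = 1

/-- The case of an elementary abelian Sylow `p`-subgroup. -/
def PCase (p : ℕ) (x : MulAut K) : Prop :=
  ∃ P : Subgroup K, (∀ u ∈ P, x u = u) ∧ IsPGroup p P ∧ Syl p x P ∧ NoO p x ∧ (∀ u ∈ P, ∀ v ∈ P, u * v = v * u) ∧
    (∀ u ∈ P, u ^ p = 1) ∧ ∃ a : ℕ, Nat.card P = a ^ 2 ∧ (a % 8 = 1 ∨ a % 8 = 7) ∧ 1 < a

/-- The row lemma for `K`. -/
def Row (p : ℕ) (K : Type*) [Group K] : Prop :=
  ∀ x : MulAut K, (∀ g, x (x g) = g) → x ≠ 1 → Obs p x ∨ SectionalPRankLE 2 4 K ∨ PCase p x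

variable {p : ℕ}

section Congr

variable (e : K ≃* L) {x : MulAut K}

theorem congr_apply (g : K) : (MulAut.congr e x) (e g) = e (x g) := by
  change e (x (e.symm (e g))) = e (x g)
  rw [e.symm_apply_apply]

theorem congr_fix {g : L} (h : (MulAut.congr e x) g = g) : x (e.symm g) = e.symm g := by
  apply e.injective
  rw [← congr_apply e, e.apply_symm_apply, h]

theorem pe_iff {g : K} : PE p (e g) ↔ PE p g := by
  constructor
  · intro h
    have := h.map e.symm.toMonoidHom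
    rwa [show e.symm.toMonoidHom (e g) = g from e.symm_apply_apply g] at this
  · exact fun h => h.map e.toMonoidHom

theorem obs_congr (h : Obs p x) : Obs p (MulAut.congr e x) := by
  obtain ⟨z, w, hz, h1, h2, h3, h4, hw⟩ := h
  have hFP : ∀ g ∈ FP p x, e g ∈ FP p (MulAut.congr e x) := by
    rintro g ⟨hg, hgp⟩
    exact ⟨by rw [congr_apply, hg], (pe_iff e).2 hgp⟩
  have key : ∀ (S : Set K) (T : Set L) (y : K), (∀ g ∈ S, e g ∈ T) → y ∈ Subgroup.closure S →
      e y ∈ Subgroup.closure T := by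
    intro S T y hST hy
    have h5 : (Subgroup.closure S).map e.toMonoidHom ≤ Subgroup.closure T := by
      rw [MonoidHom.map_closure, Subgroup.closure_le]
      rintro _ ⟨g, hg, rfl⟩
      exact Subgroup.subset_closure (hST g hg)
    exact h5 ⟨y, hy, rfl⟩
  refine ⟨e z, e w, key _ _ _ hFP hz, by rw [← map_mul, h1, map_one], ?_,
    by rw [← map_mul, h3, map_one], ?_, key _ _ _ ?_ hw⟩
  · intro h; exact h2 (e.injective (by rw [h, map_one]))
  · intro h; exact h4 (e.injective (by rw [h, map_one]))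
  · rintro g ⟨hg, hgz⟩
    exact ⟨hFP g hg, by rw [← map_mul, hgz, map_mul]⟩

theorem pcase_congr (h : PCase p x) : PCase p (MulAut.congr e x) := by
  obtain ⟨P, h1, h2, h3, h4, h5, h6, a, h7, h8, h9⟩ := h
  refine ⟨P.map e.toMonoidHom, ?_, h2.map _, ?_, ?_, ?_, ?_, a, ?_, h8, h9⟩
  · rintro _ ⟨u, hu, rfl⟩
    change (MulAut.congr e x) (e u) = e u
    rw [congr_apply, h1 u hu]
  · intro Q hQ hfix
    obtain ⟨k, hk, hk'⟩ := h3 (Q.map e.symm.toMonoidHom) (hQ.map _) (by
      rintro _ ⟨u, hu, rfl⟩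
      exact congr_fix e (hfix u hu))
    refine ⟨e k, by rw [congr_apply, hk], fun u hu => ?_⟩
    refine ⟨k * e.symm u * k⁻¹, hk' _ ⟨u, hu, rfl⟩, ?_⟩
    change e (k * e.symm u * k⁻¹) = _
    rw [map_mul, map_mul, map_inv, e.apply_symm_apply]
  · intro R hfix hn hodd u hu ⟨m, hm⟩
    have h10 := h4 (R.map e.symm.toMonoidHom) (by
      rintro _ ⟨u, hu, rfl⟩
      exact congr_fix e (hfix u hu)) (by
      rintro _ ⟨u, hu, rfl⟩ k hk
      refine ⟨e k * u * (e k)⁻¹, hn u hu (e k) (by rw [congr_apply, hk]), ?_⟩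
      change e.symm (e k * u * (e k)⁻¹) = k * e.symm u * k⁻¹
      rw [map_mul, map_mul, map_inv, e.symm_apply_apply]) (by
      rwa [Nat.card_congr (R.equivMapOfInjective e.symm.toMonoidHom e.symm.injective).toEquiv.symm])
      (e.symm u) ⟨u, hu, rfl⟩ ⟨m, by rw [← map_pow, hm, map_one]⟩
    have := congrArg e h10
    rwa [e.apply_symm_apply, map_one] at this
  · rintro _ ⟨u, hu, rfl⟩ _ ⟨v, hv, rfl⟩
    rw [← map_mul, h5 u hu v hv, map_mul]
  · rintro _ ⟨u, hu, rfl⟩
    rw [← map_pow, h6 u hu, map_one]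
  · rw [← h7]
    exact Nat.card_congr (P.equivMapOfInjective e.toMonoidHom e.injective).toEquiv.symm

theorem Row.of_equiv [Finite K] (e : K ≃* L) (h : Row p K) : Row p L := by
  intro x hxx hx1
  obtain ⟨y, hy⟩ : ∃ y : MulAut K, y = MulAut.congr e.symm x := ⟨_, rfl⟩
  have hxy : x = MulAut.congr e y := by
    rw [hy]
    ext g
    change x g = e (e.symm (x (e.symm.symm (e.symm g))))
    rw [e.apply_symm_apply, MulEquiv.symm_symm, e.apply_symm_apply]
  have h1 := h y (fun g => by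
    rw [hy]
    change e.symm (x (e (e.symm (x (e g))))) = g
    rw [e.apply_symm_apply, hxx, e.symm_apply_apply]) (by
    intro h0
    apply hx1
    rw [hxy, h0, map_one])
  rw [hxy]
  rcases h1 with h1 | h1 | h1
  · exact Or.inl (obs_congr e h1)
  · exact Or.inr (Or.inl (Cfsg.Agent.GH.Rank.of_equiv h1 e))
  · exact Or.inr (Or.inr (pcase_congr e h1))

end Congr

theorem Row.of_rank (h : SectionalPRankLE 2 4 K) : Row p K := fun _ _ _ => Or.inr (Or.inl h)

end Cfsg.Agent.H286.Row
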