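import Cfsg.Agent.H286.Chain
import Cfsg.Agent.Nodes.MuSq
import Cfsg.Agent.Nodes.ShortSum

/-!
# `Obs` from two orthogonal long roots

`c = y + y'`, `c1 = y' - y` classical (long) roots, `y ⟂ y'` short, all of them fixed by `x`.

* `obs_two_long` : fixed elements in `Z r`, `Z s`, `r ⟂ s` classical;
* `obs_short` : a fixed element in `X y`, `z r ≠ z (s_y r)`;
* `obs_sq`, `sq_cases` : the configuration `Sq`.
-/

set_option autoImplicit false
set_option linter.unusedSectionVars false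

namespace Cfsg.Agent.H286.SqObs

open CoxeterSystem Cfsg.Agent.ChevalleyStructure.CoxeterGeom Cfsg.Agent.Tits.Roots Cfsg.Agent.Tits.Core
  Cfsg.Agent.Tits.RootComb Cfsg.Agent.Tits.Exchange Cfsg.Agent.Nodes.Comb Cfsg.Agent.Nodes.Reps
  Cfsg.Agent.Nodes.BNOf Cfsg.Agent.Nodes.RGDLib Cfsg.Agent.Nodes.Bruhat Cfsg.Agent.Nodes.StabComb
  Cfsg.Agent.Nodes.OppDec Cfsg.Agent.Nodes.Coroot Cfsg.Agent.KFacts.RgdSL Cfsg.Agent.UGT.U2.FOne
  Cfsg.Agent.H286.Obs Cfsg.Agent.H286.RootObs Cfsg.Agent.H286.Comb Cfsg.Agent.H286.Chain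
  Cfsg.Agent.Nodes.Chart Cfsg.Agent.Nodes.Perp Cfsg.Agent.Nodes.ShortSum
open Cfsg.Agent.Nodes
open scoped commutatorElement

variable {I W K : Type*} [Fintype I] [DecidableEq I] [Group W] [Fintype W] [Group K] {M : CoxeterMatrix I}
  {cs : CoxeterSystem M W} {A : I → I → ℤ} {h : IsCartan M A} {p : ℕ} {T : Subgroup K} {n : I → K}
  {X : (I → ℤ) → Subgroup K} {R : Set (I → ℤ)} {Z : (I → ℤ) → Subgroup K} {z : (I → ℤ) → K}
  (C : Cls cs h p T n X R Z z)

include C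

/-- an element representing a reflection has even order -/
theorem even_refl [Finite K] {r : I → ℤ} (hr : IsRoot cs h r) {m : K} {s : W}
    (hs : ∀ y, rep cs h s y = y - cpr cs h y r • r) (hm : Rp cs C.rgd.nsys s m) : Even (orderOf m) := by
  have h1 : rep cs h s r = -r := by
    rw [hs, cpr_self cs h hr]; module
  have h2 : rep cs h s (-r) = r := by rw [map_neg, h1, neg_neg]
  have e1 : cj m (X r) = X (-r) := by rw [C.rgd.conj_rp hm hr, h1]
  have e2 : cj m (X (-r)) = X r := by rw [C.rgd.conj_rp hm hr.neg, h2]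
  refine even_of_swap (A := X r) (B := X (-r)) (fun h0 => ?_) (fun a ha => by rw [← e1]; exact conj_mem_cj.2 ha)
    (fun a ha => by rw [← e2]; exact conj_mem_cj.2 ha)
  have h3 := X_injective C.rgd hr hr.neg h0
  have h4 := hr.ne_zero
  apply h4
  funext k
  have := congrFun h3 k
  simp only [Pi.neg_apply] at this
  simp only [Pi.zero_apply]
  omega

theorem mu_Z (hp : p.Prime) (hodd : p ≠ 2) {r : I → ℤ} (hr : r ∈ R) {u : K} (hu : u ∈ Z r) (hu1 : u ≠ 1) :
    ∃ a ∈ Z (-r), ∃ c ∈ Z (-r), ∃ w, Rp cs C.rgd.nsys w (a * u * c) ∧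
      ∀ y, rep cs h w y = y - cpr cs h y r • r := by
  obtain ⟨a, ha, c, hc, w, hw, e⟩ := exists_refl_KK C hp hodd (neg_mem C hr) (b := u) (by rwa [neg_neg]) hu1
  refine ⟨a, ha, c, hc, w, hw, fun y => ?_⟩
  rw [e, cpr_neg_right cs h y (C.root r hr)]
  module

/-- **Fixed elements in two orthogonal classical root groups.** -/
theorem obs_two_long [Finite K] (hp : p.Prime) (hodd : p ≠ 2) {x : MulAut K} {r s : I → ℤ} (hr : r ∈ R)
    (hs : s ∈ R) (h0 : form cs h r s = 0)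
    (xr : (X r).map x.toMonoidHom = X r) (xr' : (X (-r)).map x.toMonoidHom = X (-r))
    (xs : (X s).map x.toMonoidHom = X s) (xs' : (X (-s)).map x.toMonoidHom = X (-s))
    {u v : K} (hu : u ∈ Z r) (hu1 : u ≠ 1) (hxu : x u = u) (hv : v ∈ Z s) (hv1 : v ≠ 1) (hxv : x v = v) :
    Obs p x := by
  have hrr := C.root r hr
  have hss := C.root s hs
  obtain ⟨a, ha, b, hb, w, hw, ew⟩ := mu_Z C hp hodd hr hu hu1
  obtain ⟨a', ha', b', hb', w', hw', ew'⟩ := mu_Z C hp hodd hs hv hv1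
  obtain ⟨hxa, hxb⟩ := fix_mu C.rgd hrr xr xr' (C.le _ (neg_mem C hr) ha) (C.le _ (neg_mem C hr) hb) ew hw rfl hxu
  obtain ⟨hxa', hxb'⟩ := fix_mu C.rgd hss xs xs' (C.le _ (neg_mem C hs) ha') (C.le _ (neg_mem C hs) hb') ew' hw' rfl
    hxv
  have : Fact p.Prime := ⟨hp⟩
  have pe : ∀ {r : I → ℤ}, r ∈ R → ∀ g ∈ Z r, PE p g := fun {r} hr g hg => pe_of_mem C.rgd (C.root r hr) (C.le r hr hg)
  have key : ∀ g, g ∈ Z r ∨ g ∈ Z (-r) → ∀ k, k ∈ Z s ∨ k ∈ Z (-s) → Commute g k := by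
    intro g hg k hk
    have hk' : k ∈ KK Z s := by
      rcases hk with hk | hk
      · exact (le_sup_left : Z s ≤ KK Z s) hk
      · exact (le_sup_right : Z (-s) ≤ KK Z s) hk
    rcases hg with hg | hg
    · exact X_cm_KK C hs hrr h0 g (C.le r hr hg) k hk'
    · exact X_cm_KK C hs hrr.neg (by rw [form_neg_left, h0, neg_zero]) g (C.le _ (neg_mem C hr) hg) k hk'
  refine obs_W (S := {a, u, b}) (T := {a', v, b'}) ?_ ?_ ?_ (a := a * u * b) (b := a' * v * b') ?_ ?_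
    (even_refl C hrr ew hw) (even_refl C hss ew' hw')
  · rintro g (rfl | rfl | rfl)
    · exact ⟨hxa, pe (neg_mem C hr) _ ha⟩
    · exact ⟨hxu, pe hr _ hu⟩
    · exact ⟨hxb, pe (neg_mem C hr) _ hb⟩
  · rintro g (rfl | rfl | rfl)
    · exact ⟨hxa', pe (neg_mem C hs) _ ha'⟩
    · exact ⟨hxv, pe hs _ hv⟩
    · exact ⟨hxb', pe (neg_mem C hs) _ hb'⟩
  · rintro g (rfl | rfl | rfl) k (rfl | rfl | rfl)
    · exact key _ (Or.inr ha) _ (Or.inr ha')
    · exact key _ (Or.inr ha) _ (Or.inl hv)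
    · exact key _ (Or.inr ha) _ (Or.inr hb')
    · exact key _ (Or.inl hu) _ (Or.inr ha')
    · exact key _ (Or.inl hu) _ (Or.inl hv)
    · exact key _ (Or.inl hu) _ (Or.inr hb')
    · exact key _ (Or.inr hb) _ (Or.inr ha')
    · exact key _ (Or.inr hb) _ (Or.inl hv)
    · exact key _ (Or.inr hb) _ (Or.inr hb')
  · exact mul_mem (mul_mem (Subgroup.subset_closure (by simp)) (Subgroup.subset_closure (by simp)))
      (Subgroup.subset_closure (by simp))
  · exact mul_mem (mul_mem (Subgroup.subset_closure (by simp)) (Subgroup.subset_closure (by simp)))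
      (Subgroup.subset_closure (by simp))

/-- a group inverted by an involution is abelian -/
theorem comm_of_z {r y : I → ℤ} (hr : r ∈ R) (hy : IsRoot cs h y) (hne : y ≠ r) (hne' : y ≠ -r)
    (hf : form cs h y r ≠ 0) : ∀ a ∈ X y, ∀ b ∈ X y, a * b = b * a := by
  intro a ha b hb
  have h1 := C.z_inv r hr y hy hne hne' hf (a⁻¹ * b⁻¹) (mul_mem (inv_mem ha) (inv_mem hb))
  have h2 := C.z_inv r hr y hy hne hne' hf _ (inv_mem ha)
  have h3 := C.z_inv r hr y hy hne hne' hf _ (inv_mem hb)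
  have h4 : z r * (a⁻¹ * b⁻¹) * z r = (z r * a⁻¹ * z r) * (z r * b⁻¹ * z r) := by
    calc z r * (a⁻¹ * b⁻¹) * z r = z r * a⁻¹ * 1 * b⁻¹ * z r := by group
      _ = z r * a⁻¹ * (z r * z r) * b⁻¹ * z r := by rw [C.z_sq r hr]
      _ = _ := by group
  rw [h4, h2, h3, inv_inv, inv_inv, mul_inv_rev, inv_inv, inv_inv] at h1
  exact h1

/-- **A fixed element in a short root group.** -/
theorem obs_short [Finite K] {x : MulAut K} {r y : I → ℤ} (hr : r ∈ R) (hy : IsRoot cs h y) (hne : y ≠ r)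
    (hne' : y ≠ -r) (hf : form cs h y r ≠ 0) (xy : (X y).map x.toMonoidHom = X y)
    (xy' : (X (-y)).map x.toMonoidHom = X (-y)) (hz : z (r - cpr cs h r y • y) ≠ z r) {u : K} (hu : u ∈ X y)
    (hu1 : u ≠ 1) (hxu : x u = u) : Obs p x := by
  obtain ⟨a, ha, b, hb, w, hw, hwi, ew⟩ := MuSq.exists_mu' C.rgd hy hu hu1
  obtain ⟨hxa, hxb⟩ := fix_mu C.rgd hy xy xy' ha hb ew hw rfl hxu
  have hsq := MuSq.mu_sq C hr hy hne hne' hf hu ha hb hw hwi ew
  have hs : r - cpr cs h r y • y ∈ R := refl_mem C hr hy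
  rw [ew] at hsq
  set s := r - cpr cs h r y • y with hsd
  have hzr := C.z_sq r hr
  have hzs := C.z_sq s hs
  have hzc : z s * z r = z r * z s := ZRel.z_comm C hs hr
  obtain ⟨t, ht⟩ : ∃ t, t = a * u * b * (a * u * b) := ⟨_, rfl⟩
  rw [← ht] at hsq
  have ht2 : t * t = 1 := by
    rw [hsq]
    calc z s * z r * (z s * z r) = z s * (z r * z s) * z r := by group
      _ = z s * (z s * z r) * z r := by rw [hzc]
      _ = (z s * z s) * (z r * z r) := by group
      _ = 1 := by rw [hzr, hzs, one_mul]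
  have ht1 : t ≠ 1 := by
    rw [hsq]
    intro h0
    apply hz
    calc z s = z s * (z r * z r) := by rw [hzr, mul_one]
      _ = (z s * z r) * z r := by group
      _ = z r := by rw [h0, one_mul]
  -- `t` centralises `X (± y)`
  have hfs : form cs h y s ≠ 0 := by
    have h1 : form cs h y s = -form cs h y r := by
      have h2 := two_form_cpr cs h r hy
      rw [hsd, sub_eq_add_neg, form_add_right, form_neg_right, form_smul_right, ← h2, form_comm cs h r y]
      ring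
    rw [h1]
    exact neg_ne_zero.2 hf
  have hrefl : ∀ r : I → ℤ, IsRoot cs h r → (r - cpr cs h r y • y) - cpr cs h (r - cpr cs h r y • y) y • y = r := by
    intro r _
    rw [sub_eq_add_neg r, ← neg_smul, cpr_add cs h _ _ hy, cpr_smul cs h _ _ hy, cpr_self cs h hy]
    module
  have hys : y ≠ s := by
    intro h0
    have h1 := hrefl r (C.root r hr)
    rw [← hsd, ← h0, cpr_self cs h hy] at h1
    apply hne'
    rw [← h1]; module
  have hys' : y ≠ -s := by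
    intro h0
    have h1 := hrefl r (C.root r hr)
    rw [← hsd] at h1
    have h2 : s = -y := by rw [h0, neg_neg]
    rw [h2, cpr_neg cs h _ hy, cpr_self cs h hy] at h1
    apply hne
    rw [← h1]; module
  have cent : ∀ y', (y' = y ∨ y' = -y) → ∀ g ∈ X y', Commute g t := by
    intro y' hy' g hg
    have hyr : IsRoot cs h y' := by rcases hy' with rfl | rfl; exacts [hy, hy.neg]
    have n1 : y' ≠ r := by
      rcases hy' with rfl | rfl
      · exact hne
      · exact fun e => hne' (by rw [← e, neg_neg])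
    have n2 : y' ≠ -r := by
      rcases hy' with rfl | rfl
      · exact hne'
      · exact fun e => hne (neg_injective e)
    have n3 : y' ≠ s := by
      rcases hy' with rfl | rfl
      · exact hys
      · exact fun e => hys' (by rw [← e, neg_neg])
    have n4 : y' ≠ -s := by
      rcases hy' with rfl | rfl
      · exact hys'
      · exact fun e => hys (neg_injective e)
    have n5 : form cs h y' r ≠ 0 := by
      rcases hy' with rfl | rfl
      · exact hf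
      · rw [form_neg_left]; exact neg_ne_zero.2 hf
    have n6 : form cs h y' s ≠ 0 := by
      rcases hy' with rfl | rfl
      · exact hfs
      · rw [form_neg_left]; exact neg_ne_zero.2 hfs
    have e1 := C.z_inv r hr y' hyr n1 n2 n5 g hg
    have e2 := C.z_inv s hs y' hyr n3 n4 n6 _ (inv_mem hg)
    rw [inv_inv] at e2
    have e3 : t * g * t = g := by
      rw [hsq]
      calc z s * z r * g * (z s * z r) = z s * (z r * g * (z s * z r)) := by group
        _ = z s * (z r * g * (z r * z s)) := by rw [hzc]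
        _ = z s * (z r * g * z r) * z s := by group
        _ = g := by rw [e1, e2]
    change g * t = t * g
    calc g * t = t * g * t * t := by rw [e3]
      _ = t * g * (t * t) := by group
      _ = t * g := by rw [ht2, mul_one]
  have hE : Even (orderOf t) := by
    have : orderOf t = 2 := orderOf_eq_prime (by rw [pow_two, ht2]) ht1
    rw [this]; exact even_two
  refine obs_of_central (S := {a, u, b}) ?_ (t := t) ?_ ?_ hE
  · rintro g (rfl | rfl | rfl)
    · exact ⟨hxa, pe_of_mem C.rgd hy.neg ha⟩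
    · exact ⟨hxu, pe_of_mem C.rgd hy hu⟩
    · exact ⟨hxb, pe_of_mem C.rgd hy.neg hb⟩
  · have h1 : a * u * b ∈ Subgroup.closure ({a, u, b} : Set K) :=
      mul_mem (mul_mem (Subgroup.subset_closure (by simp)) (Subgroup.subset_closure (by simp)))
        (Subgroup.subset_closure (by simp))
    rw [ht]
    exact mul_mem h1 h1
  · rintro g (rfl | rfl | rfl)
    · exact cent _ (Or.inr rfl) _ ha
    · exact cent _ (Or.inl rfl) _ hu
    · exact cent _ (Or.inr rfl) _ hb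

section Sq

variable {x : MulAut K} {y y' c c1 : I → ℤ} (S : Sq cs h 1 y y' c c1) (hc : c ∈ R) (hc1 : c1 ∈ R)

include S hc hc1

/-- the transfer along `y` -/
theorem transfer_aux {x' : MulAut K} (h1 : (X y).map x'.toMonoidHom = X y) (h1' : (X (-y)).map x'.toMonoidHom = X (-y))
    {v : K} (hv : v ∈ X y) (hv1 : v ≠ 1) (hxv : x' v = v) (e1 : ∀ w ∈ Z c1, x' w = x w)
    (e : ∀ w ∈ Z c, x' w = x w) (hw : ∃ w ∈ Z c1, w ≠ 1 ∧ x w = w) : ∃ w ∈ Z c, w ≠ 1 ∧ x w = w := by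
  obtain ⟨a, ha, b, hb, s, hs, -, es⟩ := MuSq.exists_mu' C.rgd S.root₁ hv hv1
  obtain ⟨hxa, hxb⟩ := fix_mu C.rgd S.root₁ h1 h1' ha hb es hs rfl hxv
  obtain ⟨w, hw, hw1, hxw⟩ := hw
  set m := a * v * b with hm
  have hxm : x' m = m := by rw [hm, map_mul, map_mul, hxa, hxb, hxv]
  have hmem : m * w * m⁻¹ ∈ Z c := by
    have h2 := ClsNorm.conj_Z C hs hc1
    rw [es, S.refl_b] at h2
    rw [← h2]
    exact conj_mem_cj.2 hw
  refine ⟨m * w * m⁻¹, hmem, fun h0 => hw1 (conj_eq_one_iff.1 h0), ?_⟩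
  rw [← e _ hmem, map_mul, map_mul, map_inv, hxm, e1 w hw, hxw]

theorem y_c : IsRoot cs h y ∧ y ≠ c ∧ y ≠ -c ∧ form cs h y c ≠ 0 :=
  ⟨S.root₁, S.ne_x.1, S.ne_x.2, by rw [form_comm]; exact S.x₁_pos.ne'⟩

theorem y_c1 : IsRoot cs h y ∧ y ≠ c1 ∧ y ≠ -c1 ∧ form cs h y c1 ≠ 0 :=
  ⟨S.root₁, S.ne_b.1, S.ne_b.2, by rw [form_comm]; exact S.b₁_neg.ne⟩

theorem y'_c1 : IsRoot cs h y' ∧ y' ≠ c1 ∧ y' ≠ -c1 ∧ form cs h y' c1 ≠ 0 :=
  ⟨S.root₂, S.ne_b₂.1, S.ne_b₂.2, by rw [form_comm]; exact S.b₂_pos.ne'⟩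

theorem y'_c : IsRoot cs h y' ∧ y' ≠ c ∧ y' ≠ -c ∧ form cs h y' c ≠ 0 :=
  ⟨S.root₂, S.flip.ne_b₂.1, S.flip.ne_b₂.2, by rw [form_comm]; exact S.x₂_pos.ne'⟩

theorem transfer (hxx : ∀ g, x (x g) = g) (h1 : (X y).map x.toMonoidHom = X y)
    (h1' : (X (-y)).map x.toMonoidHom = X (-y)) (hw : ∃ w ∈ Z c1, w ≠ 1 ∧ x w = w) :
    ∃ w ∈ Z c, w ≠ 1 ∧ x w = w := by
  obtain ⟨hy, n1, n2, n3⟩ := y_c C S hc hc1
  have hab := comm_of_z C hc hy n1 n2 n3
  obtain ⟨v, hv, hv1, hxv⟩ : ∃ v ∈ X y, v ≠ 1 ∧ (x v = v ∨ x v = v⁻¹) := by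
    obtain ⟨v, hv, hv1⟩ : ∃ v ∈ X y, v ≠ 1 := by
      by_contra hcon
      push Not at hcon
      exact StdConn.X_ne_bot C hy ((Subgroup.eq_bot_iff_forall _).2 hcon)
    have hxv : x v ∈ X y := by rw [← h1]; exact Subgroup.mem_map_of_mem x.toMonoidHom hv
    by_cases h2 : v * x v = 1
    · exact ⟨v, hv, hv1, Or.inr (inv_eq_of_mul_eq_one_right h2).symm⟩
    · exact ⟨v * x v, mul_mem hv hxv, h2, Or.inl (by rw [map_mul, hxx, hab _ hxv _ hv])⟩
  rcases hxv with hxv | hxv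
  · exact transfer_aux C S hc hc1 h1 h1' hv hv1 hxv (fun _ _ => rfl) (fun _ _ => rfl) hw
  · have hzz := C.z_sq c hc
    have hzi : (z c)⁻¹ = z c := inv_eq_of_mul_eq_one_right hzz
    obtain ⟨x', hx'⟩ : ∃ x' : MulAut K, x' = x * MulAut.conj (z c) := ⟨_, rfl⟩
    have ex' : ∀ g, x' g = x (z c * g * z c) := by
      intro g
      rw [hx', MulAut.mul_apply, MulAut.conj_apply, hzi]
    have hnorm : ∀ r, IsRoot cs h r → (X r).map x.toMonoidHom = X r → (X r).map x'.toMonoidHom = X r := by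
      intro r hr hxr
      have h2 : cj (z c) (X r) = X r := C.rgd.tor r hr (z c) (C.z_torus c hc)
      have h3 : (X r).map x'.toMonoidHom = (cj (z c) (X r)).map x.toMonoidHom := by
        rw [hx']
        ext g
        constructor
        · rintro ⟨k, hk, rfl⟩
          exact ⟨z c * k * (z c)⁻¹, conj_mem_cj.2 hk, rfl⟩
        · rintro ⟨k, hk, rfl⟩
          rw [SetLike.mem_coe, mem_cj] at hk
          refine ⟨_, hk, ?_⟩
          change x (z c * ((z c)⁻¹ * k * z c) * (z c)⁻¹) = x k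
          congr 1
          group
      rw [h3, h2, hxr]
    refine transfer_aux C S hc hc1 (x := x) (x' := x') (hnorm y hy h1) (hnorm (-y) hy.neg h1') hv hv1 ?_ ?_ ?_ hw
    · rw [ex', C.z_inv c hc y hy n1 n2 n3 v hv, map_inv, hxv, inv_inv]
    · intro w hw
      have h2 : w * z c = z c * w := ZRel.z_cent_of_orth C hc S.rootb
        (by rw [form_comm]; exact S.xb) (C.le c1 hc1 hw)
      rw [ex', mul_assoc, h2, ← mul_assoc, hzz, one_mul]
    · intro w hw
      rw [ex', C.z_cent c hc w hw, mul_assoc, hzz, mul_one]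

/-- not both short root groups are inverted if `Z c1` is inverted -/
theorem not_both_inv (hp : p.Prime) (hodd : p ≠ 2) (i1 : ∀ w ∈ Z c1, x w = w⁻¹) (iy : ∀ w ∈ X y, x w = w⁻¹)
    (iy' : ∀ w ∈ X y', x w = w⁻¹) (xc : (X c).map x.toMonoidHom = X c) : False := by
  have : Fact p.Prime := ⟨hp⟩
  have hodd' : Odd p := hp.odd_of_ne_two hodd
  obtain ⟨hy, -, -, -⟩ := y_c1 C S hc hc1
  obtain ⟨hy', -, -, -⟩ := y'_c1 C S hc hc1
  obtain ⟨u, hu, hu1⟩ : ∃ v ∈ X y, v ≠ 1 := by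
    by_contra hcon
    push Not at hcon
    exact StdConn.X_ne_bot C hy ((Subgroup.eq_bot_iff_forall _).2 hcon)
  obtain ⟨w, hw, hw1⟩ := Z_ne_bot' C hc1
  have hw' := C.le c1 hc1 hw
  have orth : form cs h c c1 = 0 := S.xb
  have cc1 : ∀ k ∈ X c, ∀ w ∈ Z c1, k * w = w * k := fun k hk w hw => C.cent c1 hc1 c S.root orth.ge k hk w hw
  have cy' : ∀ k ∈ X y', ∀ w ∈ Z c1, k * w = w * k := fun k hk w hw => C.cent c1 hc1 y' hy'
    (by rw [form_comm]; exact S.b₂_pos.le) k hk w hw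
  -- `X c` and `X y`, `X y'`
  have noc : ∀ t, ¬ Btwn cs h y c t := by
    rintro t ht
    obtain ⟨htr, m, a, b, hm, ha, hb, e⟩ := ht
    have e1 : c = y + y' := by have := S.add; rwa [one_smul] at this
    have h2 : Btwn cs h y y' t := ⟨htr, m, a + b, b, hm, by omega, hb, by rw [e, e1]; module⟩
    have h3 := S.btwn h2
    rw [h3] at e
    -- `m c = a y + b c`
    have h4 : (m - b) • c = a • y := by rw [sub_smul, e]; abel
    rw [e1] at h4
    have h5 : (a - (m - b)) • y = (m - b) • y' := by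
      rw [sub_smul, ← h4]; module
    obtain ⟨h6, h7⟩ := S.ne_smul h5
    omega
  have noc' : ∀ t, ¬ Btwn cs h y' c t := by
    rintro t ht
    obtain ⟨htr, m, a, b, hm, ha, hb, e⟩ := ht
    have e1 : c = y + y' := by have := S.add; rwa [one_smul] at this
    have h2 : Btwn cs h y y' t := ⟨htr, m, b, a + b, hm, hb, by omega, by rw [e, e1]; module⟩
    have h3 := S.btwn h2
    rw [h3] at e
    have h4 : (m - b) • c = a • y' := by rw [sub_smul, e]; abel
    rw [e1] at h4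
    have h5 : (m - b) • y = (a - (m - b)) • y' := by
      rw [sub_smul a, ← h4]; module
    obtain ⟨h6, h7⟩ := S.ne_smul h5
    omega
  have cyc : ∀ k ∈ X c, ∀ w ∈ X y, w * k = k * w := fun k hk w hw =>
    MuSq.comm_one C.rgd hy S.root S.ne_x.1 S.ne_x.2 noc hw hk
  have cy'c : ∀ k ∈ X c, ∀ w ∈ X y', w * k = k * w := fun k hk w hw =>
    MuSq.comm_one C.rgd hy' S.root (y'_c C S hc hc1).2.1 (y'_c C S hc hc1).2.2.1 noc' hw hk
  -- `⁅u, w⁆ = v k`
  obtain ⟨v, hv, k, hk, huw⟩ := MuSq.comm_two C.rgd hy S.rootb S.ne_b.1 S.ne_b.2 (fun t ht => S.btwn' ht)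
    (fun a ha b hb => cy'c b hb a ha) hu hw'
  -- `v = 1`
  have hv1 : v = 1 := by
    have h1 : x ⁅u, w⁆ = ⁅u⁻¹, w⁻¹⁆ := by rw [map_commutatorElement, iy u hu, i1 w hw]
    have h2 : ⁅u⁻¹, w⁻¹⁆ = u⁻¹ * w⁻¹ * ⁅u, w⁆ * (w * u) := by
      rw [commutatorElement_def, commutatorElement_def]; group
    have hxk : x k ∈ X c := by rw [← xc]; exact Subgroup.mem_map_of_mem x.toMonoidHom hk
    rw [h2, huw, map_mul, iy' v hv] at h1
    -- `v⁻¹ x(k) = u⁻¹ w⁻¹ v k w u`
    have h3 : u⁻¹ * w⁻¹ * (v * k) * (w * u) = u⁻¹ * v * u * k := by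
      calc u⁻¹ * w⁻¹ * (v * k) * (w * u) = u⁻¹ * w⁻¹ * v * (k * w) * u := by group
        _ = u⁻¹ * w⁻¹ * (v * w) * k * u := by rw [cc1 k hk w hw]; group
        _ = u⁻¹ * w⁻¹ * (w * v) * k * u := by rw [cy' v hv w hw]
        _ = u⁻¹ * v * (k * u) := by group
        _ = u⁻¹ * v * (u * k) := by rw [cyc k hk u hu]
        _ = _ := by group
    rw [h3] at h1
    have h4 : ⁅u⁻¹, v⁆ ∈ X c := MuSq.comm_in C.rgd hy hy' S.ne₁ S.ne₂ (fun t ht => S.btwn ht) (inv_mem hu) hv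
    have h5 : u⁻¹ * v * u = ⁅u⁻¹, v⁆ * v := by rw [commutatorElement_def]; group
    rw [h5] at h1
    -- `v * v ∈ X c`
    have h6 : v * v ∈ X c := by
      have h7 : v * v = (⁅u⁻¹, v⁆⁻¹) * x k * k⁻¹ := by
        have c1' := cy'c (x k) hxk v hv
        have c2' := cy'c k hk v hv
        have c3' := cy'c _ h4 v hv
        have h8 : x k = v * ⁅u⁻¹, v⁆ * v * k := by
          calc x k = v * (v⁻¹ * x k) := by group
            _ = v * ⁅u⁻¹, v⁆ * v * k := by rw [h1]; group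
        rw [h8, c3']
        calc v * v = ⁅u⁻¹, v⁆⁻¹ * (⁅u⁻¹, v⁆ * v * v * k) * k⁻¹ := by group
          _ = _ := by group
      rw [h7]
      exact mul_mem (mul_mem (inv_mem h4) hxk) (inv_mem hk)
    have h7 : v * v ∈ X y' ⊓ X c := ⟨mul_mem hv hv, h6⟩
    rw [X_inf_X C.rgd hy' S.root (y'_c C S hc hc1).2.1, Subgroup.mem_bot] at h7
    exact (pe_of_mem C.rgd hy' hv).eq_one hodd' h7
  -- `μ(w)` maps `u` into `X c X y`
  obtain ⟨a, ha, b, hb, s, hs, es⟩ := mu_Z C hp hodd hc1 hw hw1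
  have hc1' : -c1 ∈ R := neg_mem C hc1
  have cb : ∀ g ∈ Z (-c1), u * g = g * u := fun g hg => C.cent _ hc1' y hy
    (by rw [form_neg_right, form_comm]; have := S.b₁_neg; omega) u hu g hg
  have ca : ∀ g ∈ Z (-c1), ∀ k ∈ X c, k * g = g * k := fun g hg k hk => C.cent _ hc1' c S.root
    (by rw [form_neg_right, orth, neg_zero]) k hk g hg
  have hmu : a * w * b * u * (a * w * b)⁻¹ ∈ X y' := by
    have h1 := C.rgd.conj_mem hs hy hu
    rw [es] at h1
    have h2 : y - cpr cs h y c1 • c1 = y' := by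
      -- the reflection of `y` in `c1 = y' - y`
      have e1 : c1 = y' - y := by have := S.sub; rwa [one_smul] at this
      have h3 : cpr cs h y c1 = -1 := by
        refine cpr_eq_of_form cs h S.rootb ?_
        rw [e1, form_sub_right, form_sub_left, form_sub_right, form_sub_right, form_comm cs h y' y, S.orth, ← S.len]
        ring
      rw [h3, e1]; module
    rwa [h2] at h1
  have h1 : a * w * b * u * (a * w * b)⁻¹ = ⁅u, w⁆⁻¹ * u := by
    rw [hv1, one_mul] at huw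
    calc a * w * b * u * (a * w * b)⁻¹ = a * w * (b * u) * b⁻¹ * w⁻¹ * a⁻¹ := by group
      _ = a * (w * u * w⁻¹) * a⁻¹ := by rw [← cb b hb]; group
      _ = a * (⁅u, w⁆⁻¹ * u) * a⁻¹ := by rw [commutatorElement_def]; group
      _ = a * k⁻¹ * u * a⁻¹ := by rw [huw]; group
      _ = k⁻¹ * (a * u) * a⁻¹ := by rw [← ca a ha _ (inv_mem hk)]; group
      _ = k⁻¹ * u := by rw [← cb a ha]; group
      _ = ⁅u, w⁆⁻¹ * u := by rw [huw]
  rw [h1, huw, hv1, one_mul] at hmu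
  -- conjugation by `z c1`
  have hzz := C.z_sq c1 hc1
  have hz : ∀ a b : K, z c1 * (a * b) * z c1 = (z c1 * a * z c1) * (z c1 * b * z c1) := by
    intro a b
    calc z c1 * (a * b) * z c1 = z c1 * a * 1 * b * z c1 := by group
      _ = z c1 * a * (z c1 * z c1) * b * z c1 := by rw [hzz]
      _ = _ := by group
  obtain ⟨-, n1, n2, n3⟩ := y_c1 C S hc hc1
  obtain ⟨-, n1', n2', n3'⟩ := y'_c1 C S hc hc1
  have h2 := C.z_inv c1 hc1 y' hy' n1' n2' n3' _ hmu
  have h3 := C.z_inv c1 hc1 y hy n1 n2 n3 u hu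
  have h4 : z c1 * k⁻¹ * z c1 = k⁻¹ := by
    rw [← ZRel.z_cent_of_orth C hc1 S.root orth (inv_mem hk), mul_assoc, hzz, mul_one]
  rw [hz, h3, h4] at h2
  -- `k⁻¹ u⁻¹ = u⁻¹ k`
  have h5 : k⁻¹ * u⁻¹ = u⁻¹ * k⁻¹ := (cyc _ (inv_mem hk) _ (inv_mem hu)).symm
  rw [h5, mul_inv_rev, inv_inv] at h2
  have h6 : k⁻¹ = k := mul_left_cancel h2
  have hk1 : k = 1 := (pe_of_mem C.rgd S.root hk).eq_one hodd' (by nth_rewrite 1 [← h6]; exact inv_mul_cancel k)
  rw [hk1, inv_one, one_mul] at hmu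
  have h7 : u ∈ X y ⊓ X y' := ⟨hu, hmu⟩
  rw [X_inf_X C.rgd hy hy' S.ne₁, Subgroup.mem_bot] at h7
  exact hu1 h7

/-- **The configuration `Sq`, all roots fixed.** -/
theorem sq_cases [Finite K] (hp : p.Prime) (hodd : p ≠ 2) (hxx : ∀ g, x (x g) = g)
    (xy : (X y).map x.toMonoidHom = X y) (xyn : (X (-y)).map x.toMonoidHom = X (-y))
    (xy' : (X y').map x.toMonoidHom = X y')
    (xc : (X c).map x.toMonoidHom = X c) (xcn : (X (-c)).map x.toMonoidHom = X (-c))
    (xc1 : (X c1).map x.toMonoidHom = X c1) (xc1n : (X (-c1)).map x.toMonoidHom = X (-c1))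
    (zc : (Z c).map x.toMonoidHom = Z c) (zc1 : (Z c1).map x.toMonoidHom = Z c1) :
    Obs p x ∨ ((∀ w ∈ Z c, x w = w⁻¹) ∧ (∀ w ∈ Z c1, x w = w⁻¹) ∧
      ∃ v, (v ∈ X y ∨ v ∈ X y') ∧ v ≠ 1 ∧ x v = v) := by
  by_cases P1 : ∃ w ∈ Z c1, w ≠ 1 ∧ x w = w
  · left
    obtain ⟨w, hw, hw1, hxw⟩ := transfer C S hc hc1 hxx xy xyn P1
    obtain ⟨w', hw', hw1', hxw'⟩ := P1
    exact obs_two_long C hp hodd hc hc1 S.xb xc xcn xc1 xc1n hw hw1 hxw hw' hw1' hxw'
  by_cases P0 : ∃ w ∈ Z c, w ≠ 1 ∧ x w = w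
  · exfalso
    exact P1 (transfer C S.flip hc1 hc hxx xyn (by rw [neg_neg]; exact xy) P0)
  right
  have ab : ∀ r ∈ R, ∀ a ∈ Z r, ∀ b ∈ Z r, a * b = b * a := fun r hr a ha b hb =>
    C.cent r hr r (C.root r hr) (form_pos cs h (C.root r hr).ne_zero).le a (C.le r hr ha) b hb
  have i0 : ∀ w ∈ Z c, x w = w⁻¹ := inv_of_no_fix C.rgd hxx zc (ab c hc) fun u hu hxu => by
    by_contra hu1
    exact P0 ⟨u, hu, hu1, hxu⟩
  have i1 : ∀ w ∈ Z c1, x w = w⁻¹ := inv_of_no_fix C.rgd hxx zc1 (ab c1 hc1) fun u hu hxu => by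
    by_contra hu1
    exact P1 ⟨u, hu, hu1, hxu⟩
  refine ⟨i0, i1, ?_⟩
  by_contra hcon
  push Not at hcon
  obtain ⟨hy, n1, n2, n3⟩ := y_c C S hc hc1
  obtain ⟨hy', n1', n2', n3'⟩ := y'_c C S hc hc1
  refine not_both_inv C S hc hc1 hp hodd i1 ?_ ?_ xc
  · refine inv_of_no_fix C.rgd hxx xy (comm_of_z C hc hy n1 n2 n3) fun u hu hxu => ?_
    by_contra hu1
    exact hcon u (Or.inl hu) hu1 hxu
  · refine inv_of_no_fix C.rgd hxx xy' (comm_of_z C hc hy' n1' n2' n3') fun u hu hxu => ?_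
    by_contra hu1
    exact hcon u (Or.inr hu) hu1 hxu

/-- **The configuration `Sq`, all roots fixed, `z c ≠ z c1`.** -/
theorem obs_sq [Finite K] (hp : p.Prime) (hodd : p ≠ 2) (hxx : ∀ g, x (x g) = g)
    (xy : (X y).map x.toMonoidHom = X y) (xyn : (X (-y)).map x.toMonoidHom = X (-y))
    (xy' : (X y').map x.toMonoidHom = X y') (xyn' : (X (-y')).map x.toMonoidHom = X (-y'))
    (xc : (X c).map x.toMonoidHom = X c) (xcn : (X (-c)).map x.toMonoidHom = X (-c))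
    (xc1 : (X c1).map x.toMonoidHom = X c1) (xc1n : (X (-c1)).map x.toMonoidHom = X (-c1))
    (zc : (Z c).map x.toMonoidHom = Z c) (zc1 : (Z c1).map x.toMonoidHom = Z c1) (hz : z c ≠ z c1) : Obs p x := by
  rcases sq_cases C S hc hc1 hp hodd hxx xy xyn xy' xc xcn xc1 xc1n zc zc1 with h1 | ⟨-, -, v, hv, hv1, hxv⟩
  · exact h1
  have e1 : c = y + y' := by have := S.add; rwa [one_smul] at this
  have e2 : c1 = y' - y := by have := S.sub; rwa [one_smul] at this
  rcases hv with hv | hv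
  · obtain ⟨hy, n1, n2, n3⟩ := y_c1 C S hc hc1
    refine obs_short C hc1 hy n1 n2 n3 xy xyn ?_ hv hv1 hxv
    rw [S.refl_b]
    exact hz
  · obtain ⟨hy, n1, n2, n3⟩ := y'_c1 C S hc hc1
    refine obs_short C hc1 hy n1 n2 n3 xy' xyn' ?_ hv hv1 hxv
    -- `c1 - 2 y' = -c`... 
    have h3 : cpr cs h c1 y' = 2 := by
      refine cpr_eq_of_form cs h S.root₂ ?_
      rw [e2, form_sub_left, S.orth]
      ring
    have h4 : c1 - cpr cs h c1 y' • y' = -c := by
      rw [h3, e1, e2]; module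
    rw [h4, C.z_neg c hc]
    exact hz

end Sq

end Cfsg.Agent.H286.SqObs
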